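import Cfsg.Agent.AltC.Zc

/-! Elements exchanging a cycle of `ζ` with a pair of fixed points. -/

set_option autoImplicit false
set_option linter.unusedSectionVars false

namespace Cfsg.Lib.AltZ

open Equiv Equiv.Perm
open Cfsg.Lib.AltC (N4 sq_ap cm_ap sign_cases)

variable {Ω : Type*} [DecidableEq Ω] [Fintype Ω] {G : Type*} [Group G]
  {z : G} {ζ μ : Perm Ω} {ι : Perm Ω → G} {r α β : Ω} {g : G}

theorem comm_of_fix {x y : Perm Ω} (h : ∀ p, x p ≠ p → y p = p) : x * y = y * x :=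
  (Perm.Disjoint.commute fun p => (em (x p = p)).imp_right (h p)).eq

theorem mem_HU_of_fix {y : Perm Ω} (hy : sign y = 1) (h : ∀ p, ζ p ≠ p → y p = p) : y ∈ HU ζ :=
  ⟨hy, (comm_of_fix h).symm⟩

theorem Big.exists_mv (hB : Big ζ) : ∃ p, ζ p ≠ p := by
  obtain ⟨p, hp⟩ := Finset.card_pos.1 (lt_of_lt_of_le (by norm_num) hB.h8)
  exact ⟨p, mem_support.1 hp⟩

theorem Bs.conj {x y μ' : Perm Ω} (hx : Bs μ x) (hy : y * μ * y⁻¹ = μ') : Bs μ' (y * x * y⁻¹) := by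
  refine ⟨by simp [hx.1], fun p => ?_⟩
  rw [← hy]
  simp only [mul_apply]
  rcases hx.2 (y⁻¹ p) with e | e <;> rw [e] <;> simp

theorem Bs.conj' {x y : Perm Ω} (hx : Bs μ x) (hy : y * μ = μ * y) : Bs μ (y * x * y⁻¹) :=
  hx.conj (by rw [hy, mul_inv_cancel_right])

theorem Bs.mem {x : Perm Ω} (h2 : ζ * ζ = 1) (hα : ζ α = α) (hβ : ζ β = β)
    (hx : Bs (ζ * swap α β) x) : x ∈ HU ζ := by
  refine ⟨hx.1, Equiv.ext fun p => ?_⟩
  have h1 := hx.2 p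
  have h3 := hx.2 (ζ p)
  have h4 := sq_ap h2 p
  have h5 : x (ζ p) = x p → ζ p = p := fun e => x.injective e
  simp only [mul_apply] at h1 h3 ⊢
  grind

theorem bs_zeta (hB : Big ζ) (hα : ζ α = α) (hβ : ζ β = β) : Bs (ζ * swap α β) ζ :=
  ⟨hB.ev, fun p => by simp only [mul_apply]; grind⟩

theorem bs_tr_swap (h2 : ζ * ζ = 1) {p : Ω} (hp : ζ p ≠ p) (hα : ζ α = α) (hβ : ζ β = β)
    (hn : α ≠ β) : Bs (ζ * swap α β) (tr ζ p * swap α β) :=
  ⟨(tr_swap_mem h2 hp hα hβ hn).1, fun i => by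
    have := sq_ap h2 p
    simp only [mul_apply, tr]; grind⟩

theorem bs_tr_tr (h2 : ζ * ζ = 1) {p q : Ω} (hp : ζ p ≠ p) (hq : ζ q ≠ q) (hα : ζ α = α)
    (hβ : ζ β = β) : Bs (ζ * swap α β) (tr ζ p * tr ζ q) :=
  ⟨(tr_tr_mem h2 hp hq).1, fun i => by
    have := sq_ap h2 p
    have := sq_ap h2 q
    simp only [mul_apply, tr]; grind⟩

theorem pi_comm (h2 : ζ * ζ = 1) (hr : ζ r ≠ r) (hα : ζ α = α) (hβ : ζ β = β) (hn : α ≠ β) :
    swap r α * swap (ζ r) β * (ζ * swap α β) = ζ * swap α β * (swap r α * swap (ζ r) β) := by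
  have h1 := sq_ap h2
  ext i; simp only [mul_apply]; grind (splits := 30)

theorem pi_inv (h2 : ζ * ζ = 1) (hr : ζ r ≠ r) (hα : ζ α = α) (hβ : ζ β = β) (hn : α ≠ β) :
    (swap r α * swap (ζ r) β)⁻¹ = swap r α * swap (ζ r) β := by
  have h1 := sq_ap h2 r
  exact inv_eq_of_mul_eq_one_right (AltC.dbl_sq (by grind))

theorem comm_mu {x : Perm Ω} (hx : x * ζ = ζ * x) (h : x * swap α β = swap α β * x) :
    x * (ζ * swap α β) = ζ * swap α β * x := by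
  rw [← mul_assoc, hx, mul_assoc, h, mul_assoc]

theorem GG.map (hB : Big ζ) (h : ZC z ζ ι) (hg : GG ζ ι r α β g) {k : Perm Ω} (hk : k ∈ HU ζ) :
    GG ζ ι (k r) (k α) (k β) (ι k * g * (ι k)⁻¹) where
  hr := fun e => hg.hr ((fix_iff hk.2 r).1 e)
  hα := (fix_iff hk.2 α).2 hg.hα
  hβ := (fix_iff hk.2 β).2 hg.hβ
  ne := k.injective.ne hg.ne
  act := fun x hx => by
    have e : k * (ζ * swap α β) * k⁻¹ = ζ * swap (k α) (k β) := by
      rw [← conj_swap, ← mul_assoc k, hk.2]; group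
    have h0 : Bs (ζ * swap α β) (k⁻¹ * x * k⁻¹⁻¹) := hx.conj (by rw [← e]; group)
    have h1 := h0.conj' (pi_comm hB.sq hg.hr hg.hα hg.hβ hg.ne)
    have h2 := h.cj hk (h0.mem hB.sq hg.hα hg.hβ)
    have h3 := h.cj hk (h1.mem hB.sq hg.hα hg.hβ)
    rw [← hg.act _ h0] at h3
    rw [show k * (k⁻¹ * x * k⁻¹⁻¹) * k⁻¹ = x by group] at h2
    rw [← cm_ap hk.2, ← AltC.conj_dbl, ← h2]
    convert h3 using 1
    · group
    · congr 1

theorem GG.inv (hB : Big ζ) (hg : GG ζ ι r α β g) : GG ζ ι r α β g⁻¹ where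
  hr := hg.hr
  hα := hg.hα
  hβ := hg.hβ
  ne := hg.ne
  act := fun x hx => by
    have e := pi_inv hB.sq hg.hr hg.hα hg.hβ hg.ne
    have h1 := hg.act _ (hx.conj' (pi_comm hB.sq hg.hr hg.hα hg.hβ hg.ne))
    generalize swap r α * swap (ζ r) β = π at e h1 ⊢
    have e2 : π * (π * x * π⁻¹) * π⁻¹ = x := by
      calc π * (π * x * π⁻¹) * π⁻¹ = π * (π⁻¹ * x * π) * π⁻¹ := by rw [e]
        _ = x := by group
    rw [e2] at h1
    rw [← h1]; group

theorem bs0_cent (hB : Big ζ) (hα : ζ α = α) (hβ : ζ β = β) (hn : α ≠ β) {x : Perm Ω}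
    (hx : x ∈ HU ζ) (hc : ∀ y, Bs (ζ * swap α β) y → x * y = y * x) :
    (∀ p, ζ p ≠ p → x p = p ∨ x p = ζ p) ∧ (x α = α ∧ x β = β ∨ x α = β ∧ x β = α) := by
  have h1 := sq_ap hB.sq
  constructor
  · intro p hp
    have h2 := cm_ap (hc _ (bs_tr_swap hB.sq hp hα hβ hn)) p
    have h3 := cm_ap hx.2 p
    have h4 := fix_iff hx.2 p
    simp only [mul_apply, tr] at h2
    grind
  · obtain ⟨p, hp⟩ := hB.exists_mv
    have h2 := cm_ap (hc _ (bs_tr_swap hB.sq hp hα hβ hn)) α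
    have h3 := (fix_iff hx.2 α).2 hα
    have h4 : x α ≠ x β := x.injective.ne hn
    simp only [mul_apply, tr] at h2
    grind

/-- The conjugate under `g` of an element centralising the base group. -/
theorem GG.cent (hB : Big ζ) (h : ZC z ζ ι) (hg : GG ζ ι r α β g) {x : Perm Ω} (hx : x ∈ HU ζ)
    (hc : ∀ y, Bs (ζ * swap α β) y → x * y = y * x) :
    ∃ x' ∈ HU ζ, g * ι x * g⁻¹ = ι x' ∧ ∀ y, Bs (ζ * swap α β) y → x' * y = y * x' := by
  have key : ∀ y, Bs (ζ * swap α β) y → g * ι x * g⁻¹ * ι y = ι y * (g * ι x * g⁻¹) := by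
    intro y hy
    have h1 := hy.conj' (pi_comm hB.sq hg.hr hg.hα hg.hβ hg.ne)
    have h2 := (h.comm_iff hx (h1.mem hB.sq hg.hα hg.hβ)).2 (hc _ h1)
    rw [← (hg.inv hB).act y hy] at h2
    calc g * ι x * g⁻¹ * ι y = g * (ι x * (g⁻¹ * ι y * g⁻¹⁻¹)) * g⁻¹ := by group
      _ = ι y * (g * ι x * g⁻¹) := by rw [h2]; group
  obtain ⟨x', hx', e⟩ := h.surj (g * ι x * g⁻¹) (by
    rw [← h.ιζ]; exact key _ (bs_zeta hB hg.hα hg.hβ))
  exact ⟨x', hx', e.symm, fun y hy =>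
    (h.comm_iff hx' (hy.mem hB.sq hg.hα hg.hβ)).1 (e ▸ key y hy)⟩

theorem comm_bs_of_fix {j y : Perm Ω} (hj : ∀ i, ζ i ≠ i ∨ i = α ∨ i = β → j i = i)
    (hy : Bs (ζ * swap α β) y) : j * y = y * j :=
  comm_of_fix fun p hp => by
    have h1 := hy.2 p
    have h2 := hj p
    simp only [mul_apply] at h1
    grind

theorem GG.cube' (hB : Big ζ) (h : ZC z ζ ι) (hg : GG ζ ι r α β g) {j : Perm Ω} (j1 : sign j = 1)
    (j3 : j ^ 3 = 1) (hj : ∀ i, ζ i ≠ i ∨ i = α ∨ i = β → j i = i) :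
    ∃ j', sign j' = 1 ∧ j' ^ 3 = 1 ∧ (∀ i, ζ i ≠ i ∨ i = α ∨ i = β → j' i = i) ∧
      g * ι j * g⁻¹ = ι j' := by
  have hj' : j ∈ HU ζ := mem_HU_of_fix j1 fun p hp => hj p (.inl hp)
  obtain ⟨x, hx, e, hc⟩ := hg.cent hB h hj' fun y hy => comm_bs_of_fix hj hy
  have x3 : x ^ 3 = 1 := by
    rw [pow_three'] at j3 ⊢
    refine h.inj (mul_mem (mul_mem hx hx) hx) ?_
    rw [h.mul (mul_mem hx hx) hx, h.mul hx hx, ← e, conj_mul, conj_mul, ← h.mul hj' hj',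
      ← h.mul (mul_mem hj' hj') hj', j3, h.one, mul_one, mul_inv_cancel]
  obtain ⟨h1, h2⟩ := bs0_cent hB hg.hα hg.hβ hg.ne hx hc
  refine ⟨x, hx.1, x3, fun i hi => ?_, e⟩
  have h3 : x (x (x i)) = i := by rw [← mul_apply, ← mul_apply, ← pow_three', x3, one_apply]
  have h4 := cm_ap hx.2 i
  have h5 := sq_ap hB.sq i
  have h6 := h1 i
  have h7 := hg.ne
  grind

theorem GG.cube (hB : Big ζ) (h : ZC z ζ ι) (hg : GG ζ ι r α β g) {j : Perm Ω} (j1 : sign j = 1)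
    (j3 : j ^ 3 = 1) (hj : ∀ i, ζ i ≠ i ∨ i = α ∨ i = β → j i = i) :
    (∃ j', sign j' = 1 ∧ j' ^ 3 = 1 ∧ (∀ i, ζ i ≠ i ∨ i = α ∨ i = β → j' i = i) ∧
      g⁻¹ * ι j * g = ι j') ∧
    ∃ j', sign j' = 1 ∧ j' ^ 3 = 1 ∧ (∀ i, ζ i ≠ i ∨ i = α ∨ i = β → j' i = i) ∧
      g * ι j * g⁻¹ = ι j' :=
  ⟨by simpa only [inv_inv] using (hg.inv hB).cube' hB h j1 j3 hj, hg.cube' hB h j1 j3 hj⟩

/-- An even permutation fixing a set pointwise is a product of `3`-cycles fixing it. -/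
theorem mem_of_cubes (S : Ω → Prop) (P : Subgroup (Perm Ω))
    (hP : ∀ j, sign j = 1 → j ^ 3 = 1 → (∀ i, S i → j i = i) → j ∈ P) {y : Perm Ω}
    (y1 : sign y = 1) (hy : ∀ i, S i → y i = i) : y ∈ P := by
  classical
  have hS : ∀ i, ¬ S (y i) ↔ ¬ S i := fun i => not_congr
    ⟨fun e => by have := y.injective (hy _ e); rwa [this] at e, fun e => by rwa [hy i e]⟩
  have h1 : alternatingGroup {i // ¬ S i} ≤ P.comap ofSubtype := by
    rw [← closure_three_cycles_eq_alternating, Subgroup.closure_le]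
    intro c hc
    refine hP _ (by rw [sign_ofSubtype, hc.sign]) ?_ fun i hi => ofSubtype_apply_of_not_mem _
      (not_not.2 hi)
    rw [← map_pow, ← hc.orderOf, pow_orderOf_eq_one, map_one]
  have e2 := sign_subtypePerm (p := fun i => ¬ S i) y hS fun i hi hS' => hi (hy i hS')
  have h2 := Subgroup.mem_comap.1 (h1 (mem_alternatingGroup.2 (e2.trans y1)))
  rwa [ofSubtype_subtypePerm (p := fun i => ¬ S i) hS fun i hi hS' => hi (hy i hS')] at h2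

/-- The elements of the chart commuting with `c`. -/
def ZC.cen (h : ZC z ζ ι) (c : G) : Subgroup (Perm Ω) where
  carrier := {y | y ∈ HU ζ ∧ c * ι y = ι y * c}
  mul_mem' := fun {x y} hx hy => ⟨mul_mem hx.1 hy.1, by
    rw [h.mul hx.1 hy.1, ← mul_assoc, hx.2, mul_assoc, hy.2, mul_assoc]⟩
  one_mem' := ⟨one_mem _, by rw [h.one]; simp⟩
  inv_mem' := fun {x} hx => ⟨inv_mem hx.1, by
    rw [h.inv hx.1]; exact (Commute.inv_right hx.2).eq⟩

theorem GG.gam (hB : Big ζ) (h : ZC z ζ ι) (hg : GG ζ ι r α β g) {s : Ω} (hs : Df ζ r s) :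
    GG ζ ι s α β (g * ι (sw ζ s r) * g⁻¹) ∧ ∀ y, sign y = 1 →
      (∀ i, ζ i ≠ i ∨ i = α ∨ i = β → y i = i) →
      g * ι (sw ζ s r) * g⁻¹ * ι y = ι y * (g * ι (sw ζ s r) * g⁻¹) := by
  have hu := sw_mem hB.sq hs.symm
  have hα := hg.hα
  have hβ := hg.hβ
  have h0 := sq_ap hB.sq
  constructor
  · refine ⟨by grind, hα, hβ, hg.ne, fun x hx => ?_⟩
    have hπ := pi_comm hB.sq hg.hr hα hβ hg.ne
    have h1 := hx.conj' hπ
    have h2 := h1.conj' (y := sw ζ s r) (comm_mu hu.2 (swap_comm_of (.inl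
      ⟨sw_off (by grind) (by grind) (by grind) (by grind),
        sw_off (by grind) (by grind) (by grind) (by grind)⟩)))
    have h3 := hg.act _ h2
    rw [← h.cj hu (h1.mem hB.sq hα hβ), ← (hg.inv hB).act x hx] at h3
    have e : swap s α * swap (ζ s) β =
        swap r α * swap (ζ r) β * sw ζ s r * (swap r α * swap (ζ r) β) := by
      have := hg.ne
      clear h1 h2 h3 hπ hu hx
      ext i; simp only [mul_apply, sw]; grind (splits := 40)
    rw [e]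
    convert h3 using 1
    · group
    · congr 1
  · intro y y1 hy
    refine (mem_of_cubes _ (h.cen _) (fun j j1 j3 hj => ?_) y1 hy).2
    have hj' : j ∈ HU ζ := mem_HU_of_fix j1 fun p hp => hj p (.inl hp)
    obtain ⟨j', a1, -, a3, a4⟩ := (hg.cube hB h j1 j3 hj).1
    have h1 := (h.comm_iff hu (mem_HU_of_fix a1 fun p hp => a3 p (.inl hp))).2
      (comm_of_fix fun p hp => a3 p (.inl fun e => hp (sw_off (by grind) (by grind) (by grind)
        (by grind))))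
    refine ⟨hj', ?_⟩
    rw [← a4] at h1
    calc g * ι (sw ζ s r) * g⁻¹ * ι j = g * (ι (sw ζ s r) * (g⁻¹ * ι j * g)) * g⁻¹ := by group
      _ = ι j * (g * ι (sw ζ s r) * g⁻¹) := by rw [h1]; group

end Cfsg.Lib.AltZ
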