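import Cfsg.Agent.AltC.Tv1
import Cfsg.Agent.AltC.Gg

/-! The element `θ` acting as a transvection on the four-group of two cycles. -/

set_option autoImplicit false
set_option linter.unusedSectionVars false

namespace Cfsg.Lib.AltZ

open Equiv Equiv.Perm
open Cfsg.Lib.AltC (N4 sq_ap cm_ap sign_cases)

variable {Ω : Type*} [DecidableEq Ω] [Fintype Ω] {G : Type*} [Group G] {z g θ : G}
  {ζ x y w x' y' : Perm Ω} {ι : Perm Ω → G} {p q α β : Ω}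

theorem ZC.amul (h : ZC z ζ ι) (hx : x ∈ HU ζ) (hy : y ∈ HU ζ) (hx' : x' ∈ HU ζ)
    (hy' : y' ∈ HU ζ) (a : CjA ι g x y) (b : CjA ι g x' y') : CjA ι g (x * x') (y * y') := by
  rw [CjA, h.mul hx hx', h.mul hy hy', ← a, ← b, conj_mul]

theorem ZC.acj (h : ZC z ζ ι) {k : Perm Ω} (hk : k ∈ HU ζ) (hx : x ∈ HU ζ) (hy : y ∈ HU ζ)
    (a : CjA ι g x y) : CjA ι (ι k * g * (ι k)⁻¹) (k * x * k⁻¹) (k * y * k⁻¹) := by
  rw [CjA, ← h.cj hk hx, ← h.cj hk hy, ← a]; group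

theorem Df.of_map (hx : x * ζ = ζ * x) (h : Df ζ (x p) (x q)) : Df ζ p q := by
  simpa using h.map (Commute.inv_left hx).eq

theorem A0.map (hB : Big ζ) (h : ZC z ζ ι) (ha : A0 z ζ ι p q α β θ) (hpq : Df ζ p q)
    (hα : ζ α = α) (hβ : ζ β = β) (hn : α ≠ β) {k : Perm Ω} (hk : k ∈ HU ζ) :
    A0 z ζ ι (k p) (k q) (k α) (k β) (ι k * θ * (ι k)⁻¹) := by
  have hv := sw_mem hB.sq hpq
  have h2 := tr_tr_mem hB.sq hpq.1.symm hpq.2.2.2.2.2.symm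
  have kζ : k * ζ * k⁻¹ = ζ := mul_inv_eq_iff_eq_mul.2 hk.2
  refine ⟨?_, ?_, ?_, fun s a b => ?_, fun r s a b c d e => ?_⟩
  · simpa only [conj_sw hk.2, CjA] using h.acj hk hv hv ha.v
  · simpa only [← conj_mul (b := k), conj_sw hk.2, conj_tr hk.2, CjA] using
      h.acj hk h2 (mul_mem h2 hv) ha.a
  · simpa only [← conj_mul (b := k), conj_sw hk.2, kζ, CjA, h.ιζ] using
      h.acj hk hB.mem (mul_mem hv hB.mem) (show CjA ι θ ζ _ by rw [CjA, h.ιζ, ha.z])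
  · obtain ⟨s, rfl⟩ := k.surjective s
    have a := a.of_map hk.2
    have m := tr_swap_mem hB.sq a.2.2.2.2.2.symm hα hβ hn
    simpa only [← conj_mul (b := k), conj_swap, conj_tr hk.2, CjA] using
      h.acj hk m m (ha.t s a (b.of_map hk.2))
  · obtain ⟨s, rfl⟩ := k.surjective s
    obtain ⟨r, rfl⟩ := k.surjective r
    have m := sw_mem hB.sq (e.of_map hk.2)
    simpa only [conj_sw hk.2, CjA] using h.acj hk m m (ha.s r s (a.of_map hk.2) (b.of_map hk.2)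
      (c.of_map hk.2) (d.of_map hk.2) (e.of_map hk.2))

theorem off_cases (h2 : ζ * ζ = 1) (hn : Df ζ p q) (i : Ω) :
    ζ i = i ∨ i = p ∨ i = ζ p ∨ i = q ∨ i = ζ q ∨ Df ζ p i ∧ Df ζ q i := by
  by_contra! H
  exact H.2.2.2.2.2 (df_of h2 hn.1.symm H.1 H.2.1 H.2.2.1)
    (df_of h2 hn.2.2.2.2.2.symm H.1 H.2.2.2.1 H.2.2.2.2.1)

theorem AT.b0 (h2 : ζ * ζ = 1) (h : AT ζ w p q) (hw : w * ζ = ζ * w) (w2 : w * w = 1) :
    (∀ i, (sw ζ p q * w) i = i ∨ (sw ζ p q * w) i = ζ i) ∧ (sw ζ p q * w) p = p ∧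
      (sw ζ p q * w) q = q := by
  have d := h.df
  have a1 := h.pq
  have a2 : w q = p := by rw [← a1, sq_ap w2]
  have a3 := cm_ap hw p
  have a4 := cm_ap hw q
  have a5 := sq_ap h2 p
  have a6 := sq_ap h2 q
  refine ⟨fun i => ?_, by rw [mul_apply, a1, sw_right d], by rw [mul_apply, a2, sw_left d]⟩
  have a7 := h.fx i
  have a8 := h.mv i
  have a9 := off_cases h2 d i
  have a0 := sq_ap h2 i
  simp only [mul_apply, sw]
  grind (splits := 20)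

theorem four_mem (h2 : ζ * ζ = 1) (hn : Df ζ p q)
    (hy : y ∈ CU ζ (sw ζ p q * (tr ζ p * tr ζ q * ζ))) :
    (tr ζ (y p) = tr ζ p ∧ tr ζ (y q) = tr ζ q) ∨ (tr ζ (y p) = tr ζ q ∧ tr ζ (y q) = tr ζ p) := by
  have c := (Commute.mul_right (show Commute y _ from hy.2.2) (show Commute y ζ from hy.1.2)).eq
  rw [mul_assoc (sw ζ p q), mul_assoc _ ζ ζ, h2, mul_one] at c
  have a5 := sq_ap h2 p
  have a6 := sq_ap h2 q
  have K : ∀ i, (sw ζ p q * (tr ζ p * tr ζ q)) i ≠ i ↔ i = p ∨ i = ζ p ∨ i = q ∨ i = ζ q :=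
    fun i => by simp only [mul_apply, sw, tr]; grind (splits := 20)
  have a1 := (K _).1 ((fix_iff c p).not.2 ((K p).2 (.inl rfl)))
  have a2 := (K _).1 ((fix_iff c q).not.2 ((K q).2 (.inr (.inr (.inl rfl)))))
  have d := hn.map hy.1.2
  have t1 := tr_ap h2 p
  have t2 := tr_ap h2 q
  clear K c
  grind

theorem cent_alt (hx : x * ζ = ζ * x) (x2 : x * x = 1)
    (hc : ∀ y, sign y = 1 → (∀ i, ζ i ≠ i → y i = i) → x * y = y * x) (hα : ζ α = α)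
    (hβ : ζ β = β) : x * swap α β = swap α β * x := by
  have K : ∀ γ η, ζ γ = γ → ζ η = η → x γ = γ ∨ η = γ ∨ η = x γ := fun γ η h1 h2 => by
    by_contra! H
    have a1 := (fix_iff hx γ).2 h1
    have a2 := sq_ap x2 γ
    have := cm_ap (hc (swap γ η * swap γ (x γ)) (AltC.sign_dbl H.2.1.symm H.1.symm)
      fun i hi => by simp only [mul_apply]; grind) γ
    simp only [mul_apply] at this
    clear hc
    grind
  have a1 := K α β hα hβ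
  have a2 := K β α hβ hα
  have a3 := sq_ap x2 α
  have a4 := sq_ap x2 β
  by_cases e : α = β
  · rw [e, swap_self, ← Perm.one_def, mul_one, one_mul]
  exact swap_comm_of (by clear K hc; grind)

theorem zq_df {s : Ω} (h2 : ζ * ζ = 1) (h1 : Df ζ p s) (h3 : Df ζ q s) :
    (tr ζ p * tr ζ q * ζ) s = ζ s := by
  rw [mul_apply, pair_df (h1.ap h2).symm (h3.ap h2).symm]

theorem zq_spec (h2 : ζ * ζ = 1) (hn : Df ζ p q) (i : Ω) :
    (tr ζ p * tr ζ q * ζ) i = i ∨ (Df ζ p i ∧ Df ζ q i) := by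
  have a5 := sq_ap h2 p
  have a6 := sq_ap h2 q
  refine (off_cases h2 hn i).elim (fun e => .inl ?_) fun e => ?_ <;> simp only [mul_apply, tr] <;>
    grind (splits := 20)

theorem zq_b0 (h2 : ζ * ζ = 1) (i : Ω) :
    (tr ζ p * tr ζ q * ζ) i = i ∨ (tr ζ p * tr ζ q * ζ) i = ζ i :=
  b0_mul h2 (b0_mul h2 (b0_tr h2 p) (b0_tr h2 q)) (fun _ => .inr rfl) i

theorem at_w (h2 : ζ * ζ = 1) (hn : Df ζ p q) : AT ζ (sw ζ p q * (tr ζ p * tr ζ q * ζ)) p q := by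
  have a5 := sq_ap h2 p
  have a6 := sq_ap h2 q
  refine ⟨hn, by simp only [mul_apply, tr, sw]; grind, fun s a b => .inr ?_, fun s a => by
    simp only [mul_apply, tr, sw]; grind (splits := 20)⟩
  have a' := a.ap h2
  have b' := b.ap h2
  rw [mul_apply, zq_df h2 a b, sw_off a'.2.1.symm a'.2.2.2.1.symm b'.2.1.symm b'.2.2.2.1.symm]

/-- The shape of the second member of the pair. -/
theorem ZC.at_shape (hB : Big ζ) (h : ZC z ζ ι) {w' : Perm Ω} (P : Pr ζ w w' (Rel ζ ι g w w'))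
    (ha : AT ζ w' p q) : w' = sw ζ p q ∨ w' = sw ζ p q * (tr ζ p * tr ζ q * ζ) := by
  have m2 := hB.sq
  have d := ha.df
  obtain ⟨b1, u1, u2⟩ := ha.b0 m2 P.hw'.2 P.w2'
  have hu := mul_mem (sw_mem m2 d) P.hw'
  have e : w' = sw ζ p q * (sw ζ p q * w') := by rw [← mul_assoc, sw_sq d, one_mul]
  generalize sw ζ p q * w' = u at b1 u1 u2 hu e
  have b2 := b0_mul m2 (zq_b0 (p := p) (q := q) m2) b1
  have hz := mul_mem (tr_tr_mem m2 d.1.symm d.2.2.2.2.2.symm) hB.mem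
  rcases even2 (b0_sq m2 b1) hu.1 with e1 | ⟨s, s', hs⟩
  · exact .inl (by rw [e, e1, mul_one])
  rcases even2 (b0_sq m2 b2) (mul_mem hz hu).1 with e1 | ⟨t, t', ht⟩
  · exact .inr (by rw [e, eq_inv_of_mul_eq_one_right e1,
      inv_eq_of_mul_eq_one_right (b0_sq m2 (zq_b0 m2))])
  exfalso
  have f1 : ∀ i, u i ≠ i → (Df ζ p i ∧ Df ζ q i) ∧ w' i ≠ i ∧ u i ≠ i := fun i hi => by
    have a1 := b0_ap m2 b1 p
    have a2 := b0_ap m2 b1 q
    have a3 := b1 i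
    have a4 := off_cases m2 d i
    have a5 := sq_ap m2 i
    rw [e, mul_apply, sw, mul_apply]
    clear * - a1 a2 a3 a4 a5 hi u1 u2
    grind (splits := 20)
  have f2 : ∀ i, (tr ζ p * tr ζ q * ζ * u) i ≠ i → (Df ζ p i ∧ Df ζ q i) ∧ w' i = i ∧ u i = i :=
    fun i hi => by
    have a1 := b0_ap m2 b1 p
    have a2 := b0_ap m2 b1 q
    have a3 := b1 i
    have a4 := off_cases m2 d i
    have a5 := sq_ap m2 i
    have a6 := sq_ap m2 p
    have a7 := sq_ap m2 q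
    rw [e, mul_apply, sw, mul_apply]
    simp only [mul_apply, tr] at hi
    clear * - a1 a2 a3 a4 a5 a6 a7 hi u1 u2 d
    grind (splits := 30)
  obtain ⟨s1, s2, s3⟩ := f1 _ hs.1.symm
  obtain ⟨s1', s2', s3'⟩ := f1 _ hs.2.2.2.2.2.symm
  obtain ⟨t1, t2, t3⟩ := f2 _ ht.1.symm
  obtain ⟨t1', t2', t3'⟩ := f2 _ ht.2.2.2.2.2.symm
  have hs := b0_df b1 hs
  have ht := b0_df b2 ht
  have D : ∀ {p q}, u p ≠ p → u q = q → ζ q ≠ q → Df ζ p q := fun {p q} hp hq hq' => by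
    have a1 := b1 p
    have a2 := b0_ap m2 b1 p
    have a3 := sq_ap m2 p
    clear * - a1 a2 a3 hp hq hq' m2
    exact df_of m2 (by grind) hq' (by grind) (by grind)
  have d1 := D s3 t3 ht.1.symm
  have d2 := D s3' t3' ht.2.2.2.2.2.symm
  have d3 := D s3 t3' ht.2.2.2.2.2.symm
  have d4 := D s3' t3 ht.1.symm
  obtain ⟨_, _, -, K, -⟩ := P.symm.at hB ha
  have K' : ∀ {s t}, Df ζ p s ∧ Df ζ q s → Df ζ p t ∧ Df ζ q t → (w' s = s ↔ w' t = t) →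
      ∃ x, Rel ζ ι g w w' x (tr ζ s * tr ζ t) ∧ ∀ i, x i = i ∨ x i = ζ i := fun {s t} a b c => by
    have m := tr_tr_mem m2 a.1.2.2.2.2.2.symm b.1.2.2.2.2.2.symm
    have B := (bs_pair m2 a.1.2.2.2.2.2.symm b.1.2.2.2.2.2.symm).2
    obtain ⟨x, hx⟩ := P.ex' (x' := tr ζ s * tr ζ t) ⟨m, m.1, by
      rw [e]
      refine (Commute.mul_right (mul_inv_eq_iff_eq_mul.1 ?_).symm (b0_comm m2 B b1)).eq
      rw [sw_conj m2 B d, if_pos (by simp [pair_df a.1 b.1, pair_df a.2 b.2])]⟩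
    exact ⟨x, hx, (K s t x a.1 a.2 b.1 b.2 c hx).1⟩
  obtain ⟨x, hx, bx⟩ := K' s1 s1' (by simp [s2, s2'])
  obtain ⟨y, hy, by'⟩ := K' t1 t1' (by simp [t2, t2'])
  have B1 := (bs_pair m2 d1.1.symm d1.2.2.2.2.2.symm).2
  have z1 : IsConj z (ι w') := h.ιζ ▸ (show CjA ι g w' ζ from P.rζ.2.2.symm).isConj.symm
  have z2 := h.isConj (sw_mem m2 d2) (mul_mem (mul_mem (sw_mem m2 d1) P.hw') (inv_mem (sw_mem m2 d1)))
    (h.isConj (sw_mem m2 d1) P.hw' z1)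
  have c1 := sw_sw_comm m2 d1 s1.1 t1.1 s1.2 t1.2
  have c2 := sw_sw_comm m2 d2 s1'.1 t1'.1 s1'.2 t1'.2
  have R := P.mul P.rζ (P.mul hx hy)
  have e0 : sw ζ s t * w' * (sw ζ s t)⁻¹ = sw ζ p q * (u * (tr ζ s * tr ζ t)) := by
    rw [e, ← conj_mul, mul_inv_eq_iff_eq_mul.2 c1.eq, sw_conj m2 b1 d1, if_neg (by simp [s3, t3])]
  rw [e0, ← conj_mul, mul_inv_eq_iff_eq_mul.2 c2.eq, sw_conj m2 (b0_mul m2 b1 B1) d2, if_neg (by
      rw [mul_apply u, mul_apply u, pair_df hs.symm d4, pair_df d3.symm ht.symm]; simp [s3', t3']),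
    mul_assoc u, ← mul_assoc, ← e, mul_assoc (tr ζ s), ← mul_assoc (tr ζ t), tr_tr_comm m2 t,
    mul_assoc (tr ζ s'), ← mul_assoc (tr ζ s)] at z2
  have e1 := h.z1 hB R.1.1 (z2.trans (show CjA ι g _ _ from R.2.2.symm).isConj)
    (b0_mul m2 (fun _ => .inr rfl) (b0_mul m2 bx by'))
  have e2 := DFunLike.congr_fun (P.one' (mul_eq_left.1 e1 ▸ P.mul hx hy)) s
  rw [mul_apply, pair_df d1 d3, pair_left hs] at e2
  exact hs.1 e2.symm

theorem tp_conj (h2 : ζ * ζ = 1) (hn : Df ζ p q) (hα : ζ α = α) (hβ : ζ β = β) (hαβ : α ≠ β) :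
    tr ζ p * swap α β * sw ζ p q * (tr ζ p * swap α β)⁻¹ = tr ζ p * tr ζ q * sw ζ p q := by
  rw [conj_sw (tr_swap_mem h2 hn.1.symm hα hβ hαβ).2,
    show (tr ζ p * swap α β) p = ζ p by simp only [mul_apply, tr]; grind,
    show (tr ζ p * swap α β) q = q by simp only [mul_apply, tr]; grind, sw_symm, sw_ap h2 hn.symm,
    tr_tr_comm h2, sw_symm]

theorem ZC.beta0 (hB : Big ζ) (h : ZC z ζ ι) {r s : Ω} (hn : Df ζ p q) (d1 : Df ζ p r)
    (d2 : Df ζ q r) (d3 : Df ζ p s) (d4 : Df ζ q s) (d5 : Df ζ r s)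
    (a1 : CjA ι θ (sw ζ p q) (sw ζ p q)) (a2 : CjA ι θ (tr ζ p * tr ζ q) (tr ζ p * tr ζ q * sw ζ p q))
    (a3 : CjA ι θ ζ (sw ζ p q * ζ)) (a4 : CjA ι θ (tr ζ r * tr ζ s) (tr ζ r * tr ζ s))
    (a5 : CjA ι θ (sw ζ r s) (sw ζ p q * sw ζ r s)) : False := by
  have m2 := hB.sq
  obtain ⟨α, β, hαβ, hα, hβ⟩ := hB.fix2
  have hk := mul_mem (sw_mem m2 d1) (sw_mem m2 d4)
  have hv := sw_mem m2 hn
  have hu := sw_mem m2 d5
  have ha := tr_tr_mem m2 hn.1.symm hn.2.2.2.2.2.symm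
  have hb := tr_tr_mem m2 d5.1.symm d5.2.2.2.2.2.symm
  have ht := tr_swap_mem m2 d5.1.symm hα hβ hαβ
  have hζ := hB.mem
  have k1 : (sw ζ p r * sw ζ q s) p = r ∧ (sw ζ p r * sw ζ q s) q = s ∧
      (sw ζ p r * sw ζ q s) r = p ∧ (sw ζ p r * sw ζ q s) s = q := by
    simp only [mul_apply, sw]; clear * - hn d1 d2 d3 d4 d5; grind (splits := 20)
  have t1 : (tr ζ r * swap α β) p = p ∧ (tr ζ r * swap α β) q = q := by
    simp only [mul_apply, tr]; clear * - hn d1 d2 hα hβ; grind (splits := 20)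
  have c := (sw_sw_comm m2 d5 d1 d3 d2 d4).eq
  generalize sw ζ p r * sw ζ q s = k at hk k1
  have b1 := h.acj hk hv hv a1
  have b3 := h.acj hk hζ (mul_mem hv hζ) a3
  have b4 := h.acj hk hb hb a4
  have b5 := h.acj hk hu (mul_mem hv hu) a5
  simp only [← conj_mul (b := k), conj_sw hk.2, conj_tr hk.2, mul_inv_eq_iff_eq_mul.2 hk.2,
    k1.1, k1.2.1, k1.2.2.1, k1.2.2.2] at b1 b3 b4 b5
  generalize ι k * θ * (ι k)⁻¹ = σ at b1 b3 b4 b5
  have c1 : CjA ι (ι _) _ _ := h.cj ht (mul_mem hu hζ)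
  have c2 : CjA ι (ι _) _ _ := h.cj ht (mul_mem ha hv)
  rw [← conj_mul, tp_conj m2 d5 hα hβ hαβ, mul_inv_eq_iff_eq_mul.2 ht.2] at c1
  simp only [← conj_mul (b := tr ζ r * swap α β), conj_sw ht.2, conj_tr ht.2, t1.1, t1.2] at c2
  have c3 := h.amul (mul_mem hb hu) (mul_mem hb (mul_mem hv hu)) hζ (mul_mem hv hζ)
    (h.amul hb hb hu (mul_mem hv hu) a4 a5) a3
  rw [← c, mul_assoc _ (_ * _), mul_assoc (sw ζ r s), ← mul_assoc (sw ζ p q), sw_sq hn, one_mul,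
    ← mul_assoc] at c3
  obtain ⟨k0, hk0, e⟩ := h.of_fix (((b3.trans c1).trans c3).trans (b3.trans c1).symm)
  have c4 := h.amul ha ha (mul_mem hu hv) (mul_mem hu (mul_mem hu hv)) b4
    (h.amul hu hu hv (mul_mem hu hv) b1 b5)
  rw [← mul_assoc (sw ζ r s), sw_sq d5, one_mul] at c4
  have c5 : CjA ι (ι _) _ _ := h.cj ht ha
  simp only [← conj_mul (b := tr ζ r * swap α β), conj_tr ht.2, t1.1, t1.2] at c5
  have c6 := h.of_act hk0 ha (mul_mem ha (mul_mem hu hv))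
    (e ▸ ((b4.trans c5).trans a2).trans (c4.trans c2).symm)
  rw [← conj_mul, conj_tr hk0.2, conj_tr hk0.2] at c6
  have := b0_mul m2 (b0_tr m2 (k0 p)) (b0_tr m2 (k0 q)) r
  rw [c6, mul_apply, mul_apply (sw ζ r s), sw_off d1.2.1.symm d1.2.2.2.1.symm d2.2.1.symm
    d2.2.2.2.1.symm, sw_left d5, pair_df d3.symm d4.symm] at this
  exact this.elim d5.2.1.symm d5.2.2.2.1.symm

theorem ZC.core (hB : Big ζ) (h : ZC z ζ ι) (hn : Df ζ p q) (hz : IsConj z (ι (sw ζ p q * ζ)))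
    (hα : ζ α = α) (hβ : ζ β = β) (hαβ : α ≠ β) :
    ∃ θ, A0 z ζ ι p q α β θ ∨ A0 z ζ (AltZ.rech z ι (ε1 ζ)) p q α β θ := by
  have m2 := hB.sq
  have hζ := hB.mem
  have hv := sw_mem m2 hn
  have ha := tr_tr_mem m2 hn.1.symm hn.2.2.2.2.2.symm
  have hw := mul_mem hv (mul_mem ha hζ)
  have ht := tr_swap_mem m2 hn.1.symm hα hβ hαβ
  have z1 := h.isConj ht (mul_mem hv hζ) hz
  rw [← conj_mul, tp_conj m2 hn hα hβ hαβ, mul_inv_eq_iff_eq_mul.2 ht.2, tr_tr_sw hn,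
    mul_assoc] at z1
  have hA := at_w m2 hn
  obtain ⟨g, hg⟩ := isConj_iff.1 z1
  obtain ⟨w', P⟩ := h.pair hB.ev m2 hw (fun e => hn.2.2.2.1 (by rw [← hA.pq, e])) hg
  obtain ⟨p', q', A', K2, K3⟩ := P.at hB hA
  have hn' := A'.df
  let R := Rel ζ ι g (sw ζ p q * (tr ζ p * tr ζ q * ζ)) w'
  have T : ∀ {y y'}, R y y' → CjA ι g y' y := fun a => a.2.2.symm
  have zz : ∀ {p q}, ζ * (tr ζ p * tr ζ q * ζ) = tr ζ p * tr ζ q := fun {p q} => by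
    rw [← mul_assoc, ← b0_mu m2 (b0_mul m2 (b0_tr m2 p) (b0_tr m2 q)), mul_assoc, m2, mul_one]
  have z2 : ∀ {p q}, tr ζ p * tr ζ q * ζ * (tr ζ p * tr ζ q * ζ) = 1 := b0_sq m2 (zq_b0 m2)
  have cu : ∀ {p q y}, Df ζ p q → y ∈ HU ζ → y p = p → y q = q → y * sw ζ p q = sw ζ p q * y ∧
      y ∈ CU ζ (sw ζ p q * (tr ζ p * tr ζ q * ζ)) := fun {p q y} d hy a b => by
    have e : y * sw ζ p q = sw ζ p q * y := by rw [← mul_inv_eq_iff_eq_mul, conj_sw hy.2, a, b]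
    refine ⟨e, hy, hy.1, (Commute.mul_right e (Commute.mul_right ?_ hy.2)).eq⟩
    rw [Commute, SemiconjBy, ← mul_inv_eq_iff_eq_mul, ← conj_mul, conj_tr hy.2, conj_tr hy.2, a, b]
  have KP : ∀ s t, Df ζ p s → Df ζ q s → Df ζ p t → Df ζ q t → ∃ x', R (tr ζ s * tr ζ t) x' ∧
      (∀ i, x' i = i ∨ x' i = ζ i) ∧ x' p' = p' ∧ x' q' = q' := fun s t a b c d => by
    obtain ⟨x', hx⟩ := P.ex (cu hn (tr_tr_mem m2 a.2.2.2.2.2.symm c.2.2.2.2.2.symm) (pair_df a c)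
      (pair_df b d)).2
    have f : ∀ s, Df ζ p s → Df ζ q s → (sw ζ p q * (tr ζ p * tr ζ q * ζ)) s ≠ s := fun s a b => by
      have a' := a.ap m2
      have b' := b.ap m2
      rw [mul_apply, zq_df m2 a b, sw_off a'.2.1.symm a'.2.2.2.1.symm b'.2.1.symm b'.2.2.2.1.symm]
      exact a.2.2.2.2.2.symm
    exact ⟨x', hx, K2 s t x' a b c d (by simp only [f s a b, f t c d]) hx⟩
  obtain ⟨s0, u1, u2, u3, u4, u5, -⟩ := hB.fresh p q q
  have d1 := df_of m2 hn.1.symm u1 u2 u3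
  have d2 := df_of m2 hn.2.2.2.2.2.symm u1 u4 u5
  have sh := h.at_shape hB P A'
  have rz : R (tr ζ p * tr ζ q * ζ) (tr ζ p' * tr ζ q' * ζ) := by
    let Q : Subgroup (Perm Ω) :=
      { carrier := {x | ∃ x', R x x' ∧ (∀ i, x' i = i ∨ x' i = ζ i) ∧ x' p' = p' ∧
          x' q' = q'}
        one_mem' := ⟨1, P.one_one, fun _ => .inl rfl, rfl, rfl⟩
        mul_mem' := fun ⟨_, a, b, c, d⟩ ⟨_, a', b', c', d'⟩ =>
          ⟨_, P.mul a a', b0_mul m2 b b', by rw [mul_apply, c', c], by rw [mul_apply, d', d]⟩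
        inv_mem' := fun ⟨x, a, b, c⟩ =>
          ⟨x, inv_eq_of_mul_eq_one_right (b0_sq m2 b) ▸ P.inv a, b, c⟩ }
    obtain ⟨x', r, b, e1, e2⟩ := AltC.mem_of_pairs (s := tr ζ p * tr ζ q * ζ) Q (fun s t d => by
      obtain ⟨a, b⟩ := (zq_spec m2 hn s).resolve_left d.1.symm
      obtain ⟨a', b'⟩ := (zq_spec m2 hn t).resolve_left d.2.2.2.2.2.symm
      rw [zq_df m2 a b, zq_df m2 a' b']
      exact KP s t a b a' b') z2 (mul_mem ha hζ).1 fun _ => .inr rfl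
    obtain ⟨s, hs⟩ := AltC.ne_one_ap (s := x') fun e => u1 (by
      rw [← zq_df m2 d1 d2, P.one (x := tr ζ p * tr ζ q * ζ) (e ▸ r), one_apply])
    have a1 := b0_ap m2 b p'
    have a2 := b0_ap m2 b q'
    have ds : Df ζ p' s ∧ Df ζ q' s := by
      have a3 := b s
      have a4 := off_cases m2 hn' s
      clear * - a1 a2 a3 a4 hs e1 e2
      rcases a4 with a | a | a | a | a | a
      exacts [by grind, by grind, by grind, by grind, by grind, a]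
    have K : ∀ t, Df ζ p' t → Df ζ q' t → Df ζ s t → x' t ≠ t := fun t a c d e => by
      have := cu hn' (sw_mem m2 d) (sw_off ds.1.2.1 ds.1.2.2.1 a.2.1 a.2.2.1)
        (sw_off ds.2.2.1 ds.2.2.2.1 c.2.1 c.2.2.1)
      obtain ⟨y, hy⟩ := P.ex' (x' := sw ζ s t) (sh.elim
        (fun e => e ▸ ⟨this.2.1, this.2.1.1, this.1⟩) fun e => e ▸ this.2)
      have e3 := mul_inv_eq_iff_eq_mul.2 ((P.comm_iff hy r).1 (by
        rw [← mul_inv_eq_iff_eq_mul, ← conj_mul, ← conj_mul, conj_tr hy.1.1.2, conj_tr hy.1.1.2,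
          mul_inv_eq_iff_eq_mul.2 hy.1.1.2]
        rcases four_mem m2 hn hy.1 with ⟨a, b⟩ | ⟨a, b⟩ <;> rw [a, b, tr_tr_comm m2]))
      rw [sw_conj m2 b d, if_neg (by simp [e, hs]), mul_eq_left] at e3
      exact d.1 (by simpa [pair_left d] using (DFunLike.congr_fun e3 s).symm)
    convert r
    ext i
    have a3 := b i
    have a4 := b0_ap m2 b s
    have a5 := b s
    have a6 := sq_ap m2 s
    rcases zq_spec m2 hn' i with e | e
    · have a7 := off_cases m2 hn' i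
      have a8 := zq_df m2 (p := p') (q := q') (s := i)
      clear * - a1 a2 a3 a7 a8 e e1 e2
      grind
    · have a7 : i ≠ s → i ≠ ζ s → x' i ≠ i := fun a c =>
        K i e.1 e.2 (df_of m2 ds.1.2.2.2.2.2.symm e.1.2.2.2.2.2.symm a c)
      rw [zq_df m2 e.1 e.2]
      clear * - a3 a4 a5 a6 a7 hs
      by_cases i = s <;> by_cases i = ζ s <;> grind
  have ra := P.mul P.rζ rz
  rw [zz] at ra
  have ew : w' = sw ζ p' q' * (tr ζ p' * tr ζ q' * ζ) := sh.resolve_left fun e => by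
    obtain ⟨s1, v1, v2, v3, v4, v5, -⟩ := hB.fresh p' q' q'
    obtain ⟨k, hk, k1, k2, -⟩ := exists_mv hB hn d1 d2 hn' (df_of m2 hn'.1.symm v1 v2 v3)
      (df_of m2 hn'.2.2.2.2.2.symm v1 v4 v5) hα hβ hαβ hα hβ hαβ
    have := h.isConj hk hw z1
    simp only [← conj_mul (b := k), conj_sw hk.2, conj_tr hk.2, mul_inv_eq_iff_eq_mul.2 hk.2, k1,
      k2, ← e] at this
    have := h.z1 hB ha (this.trans (T ra).isConj) (b0_mul m2 (b0_tr m2 p) (b0_tr m2 q))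
    exact u1 (by rw [← this, pair_df d1.symm d2.symm])
  have rv : R (sw ζ p q) (tr ζ p' * tr ζ q') := by
    convert P.mul P.rw rz using 1
    · rw [mul_assoc, z2, mul_one]
    · rw [zz]
  have ra' : R (tr ζ p * tr ζ q) (sw ζ p' q') := by
    convert ra using 1
    rw [ew, mul_assoc, z2, mul_one]
  have t0 := tr_swap_mem m2 u1 hα hβ hαβ
  obtain ⟨t', rt⟩ := P.ex (cu hn t0 (by simp only [mul_apply, tr]; clear * - d1 hα hβ; grind)
    (by simp only [mul_apply, tr]; clear * - d2 hα hβ; grind)).2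
  obtain ⟨γ, δ, hγ, hδ, γδ, ct⟩ : ∃ γ δ, ζ γ = γ ∧ ζ δ = δ ∧ γ ≠ δ ∧
      t' * swap γ δ = swap γ δ * t' := by
    have t2 : t' * t' = 1 := P.one' ((bs_tr_swap m2 u1 hα hβ hαβ).sq (by
      rw [mul_assoc, ← mul_assoc (swap α β), AltC.fix_comm hα hβ, mul_assoc, swap_mul_self, mul_one,
        m2]) ▸ P.mul rt rt)
    by_cases e : t' α = α
    · by_cases e' : t' β = β
      · exact ⟨α, β, hα, hβ, hαβ, swap_comm_of (.inl ⟨e, e'⟩)⟩
      · exact ⟨β, t' β, hβ, (fix_iff rt.2.1.1.2 β).2 hβ, Ne.symm e', (AltC.tau_comm t2 β).symm⟩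
    · exact ⟨α, t' α, hα, (fix_iff rt.2.1.1.2 α).2 hα, Ne.symm e, (AltC.tau_comm t2 α).symm⟩
  have hm := tr_swap_mem m2 hn'.1.symm hγ hδ γδ
  have L1 : ∀ {x x' y}, R x x' → R y
      (tr ζ p' * swap γ δ * x' * (tr ζ p' * swap γ δ)⁻¹) →
      CjA ι (g * (ι (tr ζ p' * swap γ δ) * g⁻¹)) x y := fun a b =>
    ((T a).symm.trans (h.cj hm a.2.1.1)).trans (T b)
  have L0 : ∀ {x x'}, R x x' → (∀ i, x' i = i ∨ x' i = ζ i) →
      CjA ι (g * (ι (tr ζ p' * swap γ δ) * g⁻¹)) x x := fun {x x'} a b => L1 a (by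
    rwa [mul_inv_eq_iff_eq_mul.2 (Commute.mul_left (b0_comm m2 (b0_tr m2 p') b)
      (AltC.fix_comm ((b γ).elim id (·.trans hγ)) ((b δ).elim id (·.trans hδ)))).eq])
  have L2 : ∀ {x x'}, R x x' → x' * swap γ δ = swap γ δ * x' →
      CjA ι (g * (ι (tr ζ p' * swap γ δ) * g⁻¹)) x x ∨
      CjA ι (g * (ι (tr ζ p' * swap γ δ) * g⁻¹)) x (sw ζ p q * x) := fun {x x'} a b => by
    have e : tr ζ p' * swap γ δ * x' * (tr ζ p' * swap γ δ)⁻¹ = tr ζ p' * tr ζ (x' p') * x' := by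
      rw [← conj_tr a.2.1.1.2, mul_assoc _ _ x', ← b, mul_inv_rev, tr_inv]; simp [mul_assoc]
    refine (four_mem m2 hn' (ew ▸ a.2.1)).imp (fun c => L1 a ?_) fun c => L1 a ?_ <;> rw [e, c.1]
    · rwa [tr_sq, one_mul]
    · exact P.mul rv a
  have L3 : ∀ {r s x'}, Df ζ r s → R (sw ζ r s) x' → x' * swap γ δ = swap γ δ * x' :=
    fun {r s x'} d a => cent_alt a.2.1.1.2 (P.one' (sw_sq d ▸ P.mul a a)) (fun y' b c => by
      obtain ⟨y, hy⟩ := P.ex' (x' := y') ⟨mem_HU_of_fix b c, b,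
        comm_of_fix fun i hi => A'.fx i (by_contra fun e => hi (c i e))⟩
      refine (P.comm_iff a hy).1 (comm_of_fix fun i hi => (K3 _ _ hy).2 c i fun e => hi ?_)
      have a1 := sq_ap m2 r
      have a2 := sq_ap m2 s
      clear * - a1 a2 d e
      exact sw_off (by grind) (by grind) (by grind) (by grind)) hγ hδ
  have av := L0 rv (b0_mul m2 (b0_tr m2 p') (b0_tr m2 q'))
  have aa := L1 ra' (by rw [tp_conj m2 hn' hγ hδ γδ]; exact P.mul rv ra')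
  rw [← tr_tr_sw hn] at aa
  have aζ := L1 P.rζ (by
    convert P.mul rv P.rζ using 1
    rw [ew, ← conj_mul, tp_conj m2 hn' hγ hδ γδ, mul_assoc, mul_inv_eq_iff_eq_mul.2
      (Commute.mul_left (b0_comm m2 (b0_tr m2 p') (zq_b0 m2)) (AltC.fix_comm
        ((zq_b0 m2 γ).elim id (·.trans hγ)) ((zq_b0 m2 δ).elim id (·.trans hδ)))).eq])
  have ap := fun s t a b c d => (KP s t a b c d).elim fun _ e => L0 e.1 e.2.1
  have aT := L2 rt ct
  have as : ∀ r s, Df ζ p r → Df ζ q r → Df ζ p s → Df ζ q s → Df ζ r s →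
      CjA ι (g * (ι (tr ζ p' * swap γ δ) * g⁻¹)) (sw ζ r s) (sw ζ r s) := fun r s a b c d e => by
    obtain ⟨x', hx⟩ := P.ex (cu hn (sw_mem m2 e) (sw_off a.2.1 a.2.2.1 c.2.1 c.2.2.1)
      (sw_off b.2.1 b.2.2.1 d.2.1 d.2.2.1)).2
    exact (L2 hx (L3 e hx)).resolve_right (h.beta0 hB hn a b c d e av aa aζ (ap r s a b c d))
  generalize g * (ι (tr ζ p' * swap γ δ) * g⁻¹) = θ at av aa aζ ap aT as
  have ts : ∀ s, tr ζ s * tr ζ s0 * (tr ζ s0 * swap α β) = tr ζ s * swap α β := fun s => by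
    rw [mul_assoc, ← mul_assoc (tr ζ s0), tr_sq, one_mul]
  refine ⟨θ, aT.imp (fun e => ⟨av, aa, h.ιζ ▸ aζ, fun s a b => ?_, as⟩) fun e => ?_⟩
  · have m := tr_tr_mem m2 a.2.2.2.2.2.symm u1
    exact ts s ▸ h.amul m m t0 t0 (ap s s0 a b d1 d2) e
  have f : ∀ {p q}, Df ζ p q → ε1 ζ (sw ζ p q) = 1 := fun {p q} d => ε1_of_fix fun i hi => by
    have a1 := sq_ap m2 p
    have a2 := sq_ap m2 q
    clear * - a1 a2 d hi
    exact sw_off (by grind) (by grind) (by grind) (by grind)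
  have f2 : ε1 ζ (tr ζ p * tr ζ q) = 1 := ε1_of_fix fun i hi =>
    (b0_mul m2 (b0_tr m2 p) (b0_tr m2 q) i).elim id (·.trans hi)
  refine ⟨by rwa [rech_pos (f hn)], by
      rwa [rech_pos f2, rech_pos (by rw [chr_ε1.mul ha hv, f2, f hn, one_mul])], by
      rw [rech_pos (by rw [chr_ε1.mul hv hζ, chr_ε1.ζ1, f hn, one_mul])]; exact h.ιζ ▸ aζ,
    fun s a b => ?_, fun r s a b c d e => by rw [rech_pos (f e)]; exact as r s a b c d e⟩
  have m := tr_tr_mem m2 a.2.2.2.2.2.symm u1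
  have m' := tr_swap_mem m2 a.2.2.2.2.2.symm hα hβ hαβ
  have := h.amul (mul_mem m t0) (mul_mem m (mul_mem hv t0)) hζ (mul_mem hv hζ)
    (h.amul m m t0 (mul_mem hv t0) (ap s s0 a b d1 d2) e) aζ
  rw [← (cu hn t0 (by simp only [mul_apply, tr]; clear * - d1 hα hβ; grind)
    (by simp only [mul_apply, tr]; clear * - d2 hα hβ; grind)).1, ← mul_assoc _ _ (sw ζ p q), ts,
    mul_assoc _ (sw ζ p q), ← mul_assoc (sw ζ p q), sw_sq hn, one_mul] at this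
  rw [rech_neg (ε1_tr_swap m2 a.2.2.2.2.2.symm hα hβ hαβ), ← h.ιζ, ← h.mul m' hζ]
  exact this

theorem ZC.alpha0 (hB : Big ζ) (h : ZC z ζ ι) (hpq : Df ζ p q)
    (hz : IsConj z (ι (sw ζ p q)) ∨ IsConj z (ι (sw ζ p q * ζ))) :
    ∃ ε, Chr ζ ε ∧ ∀ p q α β, Df ζ p q → ζ α = α → ζ β = β → α ≠ β →
      ∃ θ, A0 z ζ (AltZ.rech z ι ε) p q α β θ := by
  have m2 := hB.sq
  have hv := sw_mem m2 hpq
  obtain ⟨ε, hε, hz⟩ : ∃ ε, Chr ζ ε ∧ IsConj z (AltZ.rech z ι ε (sw ζ p q * ζ)) := by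
    rcases hz with hz | hz
    · obtain ⟨ε, hε, e, -⟩ := exists_ε3 m2
      refine ⟨ε, hε, ?_⟩
      rwa [rech_neg (by rw [hε.mul hv hB.mem, hε.ζ1, e p q hpq, mul_one]), h.mul hv hB.mem, h.ιζ,
        mul_assoc, h.z2 hB.ev m2, mul_one]
    · exact ⟨_, chr_one, by rwa [rech_pos rfl]⟩
  obtain ⟨α, β, hαβ, hα, hβ⟩ := hB.fix2
  obtain ⟨θ, H⟩ := (h.rech hB.ev m2 hε).core hB hpq hz hα hβ hαβ
  obtain ⟨ε, hε, H⟩ : ∃ ε, Chr ζ ε ∧ A0 z ζ (AltZ.rech z ι ε) p q α β θ :=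
    H.elim (fun H => ⟨ε, hε, H⟩) fun H =>
      ⟨_, hε.mul' chr_ε1, by rwa [rech_rech (h.z2 hB.ev m2)] at H⟩
  refine ⟨ε, hε, fun p' q' α' β' hn' hα' hβ' hαβ' => ?_⟩
  obtain ⟨s0, u1, u2, u3, u4, u5, -⟩ := hB.fresh p q q
  obtain ⟨s1, v1, v2, v3, v4, v5, -⟩ := hB.fresh p' q' q'
  obtain ⟨k, hk, rfl, rfl, -, rfl, rfl⟩ := exists_mv hB hpq (df_of m2 hpq.1.symm u1 u2 u3)
    (df_of m2 hpq.2.2.2.2.2.symm u1 u4 u5) hn' (df_of m2 hn'.1.symm v1 v2 v3)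
    (df_of m2 hn'.2.2.2.2.2.symm v1 v4 v5) hα hβ hαβ hα' hβ' hαβ'
  exact ⟨_, H.map hB (h.rech hB.ev m2 hε) hpq hα hβ hαβ hk⟩

end Cfsg.Lib.AltZ
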