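import Cfsg.Agent.AltC.AlA2

/-! Some double transposition of cycles of `ζ`, or its product with `ζ`, is fused to `z`. -/

set_option autoImplicit false
set_option linter.unusedSectionVars false

namespace Cfsg.Lib.AltZ

open Equiv Equiv.Perm
open Cfsg.Lib.AltC (N4 sq_ap cm_ap sign_cases)

variable {Ω : Type*} [DecidableEq Ω] [Fintype Ω] {G : Type*} [Group G]
  {z : G} {ζ μ w : Perm Ω} {ι : Perm Ω → G} {p q r α β : Ω} {g : G}

theorem AT.cases (h2 : ζ * ζ = 1) (w2 : w * w = 1) (hw : w * ζ = ζ * w) (ha : AT ζ w p q)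
    (hu : ∀ r s, Df ζ p r → Df ζ q r → Df ζ p s → Df ζ q s → Df ζ r s → (w r = r ↔ w s = s)) :
    w = sw ζ p q ∨ w = sw ζ p (ζ q) * ζ := by
  by_cases hall : ∀ s, Df ζ p s → Df ζ q s → w s = s
  · exact .inl (ha.eq_sw h2 w2 hw hall)
  push Not at hall
  obtain ⟨s, s1, s2, s3⟩ := hall
  refine .inr (ha.eq_sw_mul h2 w2 hw fun u u1 u2 => (ha.mv u u1 u2).resolve_left fun wu => s3 ?_)
  by_cases e1 : s = u
  · rw [e1, wu]
  by_cases e2 : s = ζ u
  · rw [e2, cm_ap hw, wu]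
  exact (hu u s u1 u2 s1 s2 (df_of h2 u1.mv s1.mv e1 e2)).1 wu

/-- Three disjoint pairs of fixed points. -/
structure Six (ζ μ : Perm Ω) (a b c : Ω) : Prop extends Ext ζ μ where
  ha : ζ a = a
  hb : ζ b = b
  hc : ζ c = c
  ab : Df μ a b
  ac : Df μ a c
  bc : Df μ b c

theorem exists_six (h2 : ζ * ζ = 1) {a a' b b' c c' : Ω} (h1 : N4 a a' b b') (h3 : N4 a a' c c')
    (h4 : N4 b b' c c') (ha : ζ a = a) (ha' : ζ a' = a') (hb : ζ b = b) (hb' : ζ b' = b')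
    (hc : ζ c = c) (hc' : ζ c' = c') : ∃ μ, Six ζ μ a b c := by
  have e1 : (ζ * swap a a' * swap b b' * swap c c') a = a' := by simp only [mul_apply]; grind
  have e2 : (ζ * swap a a' * swap b b' * swap c c') b = b' := by simp only [mul_apply]; grind
  have e3 : (ζ * swap a a' * swap b b' * swap c c') c = c' := by simp only [mul_apply]; grind
  refine ⟨ζ * swap a a' * swap b b' * swap c c', ⟨?_, fun i hi => ?_⟩, ha, hb, hc, ?_, ?_, ?_⟩
  · clear e1 e2 e3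
    ext i; have := sq_ap h2 i
    simp only [mul_apply, one_apply]
    by_cases hi : i = a ∨ i = a' ∨ i = b ∨ i = b' ∨ i = c ∨ i = c'
    · rcases hi with rfl | rfl | rfl | rfl | rfl | rfl <;> grind (splits := 20)
    · have : ¬ (ζ i = a ∨ ζ i = a' ∨ ζ i = b ∨ ζ i = b' ∨ ζ i = c ∨ ζ i = c') := by grind
      grind (splits := 20)
  · clear e1 e2 e3; simp only [mul_apply]; grind
  · rwa [Df, e1, e2]
  · rwa [Df, e1, e3]
  · rwa [Df, e2, e3]

theorem iff_of_move {k k' : Perm Ω} {a c : Ω} (hd : Df μ a c) (hc : k * k' = k' * k)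
    (h1 : (k a = a ∧ k (μ a) = μ a) ∨ (k a = μ a ∧ k (μ a) = a))
    (h2 : (k c = c ∧ k (μ c) = μ c) ∨ (k c = μ c ∧ k (μ c) = c))
    (h3 : (k' a = c ∧ k' (μ a) = μ c) ∨ (k' a = μ c ∧ k' (μ a) = c)) : k a = a ↔ k c = c := by
  have := cm_ap hc a
  grind

theorem fix_of_three {k : Perm Ω} {a b c : Ω} (h1 : a ≠ b) (h2 : c ≠ a) (h3 : c ≠ b)
    (hk : (k a = a ∧ k b = b) ∨ (k a = b ∧ k b = a))
    (hc : k * (swap a b * swap a c) = swap a b * swap a c * k) : k c = c := by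
  have := cm_ap hc a
  have : k c = k a → c = a := fun e => k.injective e
  have : k c = k b → c = b := fun e => k.injective e
  simp only [mul_apply] at *
  grind

theorem Six.at (hB : Big ζ) {a b c : Ω} (S : Six ζ μ a b c) {k : Perm Ω} (hd : Df ζ p q)
    (hk : k ∈ HU ζ) (k2 : k * k = 1) (k1 : ∀ i, ζ i ≠ i → k i = sw ζ p q i ∨ k i = sw ζ p q (ζ i))
    (ka : (k a = a ∧ k (μ a) = μ a) ∨ (k a = μ a ∧ k (μ a) = a))
    (kb : (k b = b ∧ k (μ b) = μ b) ∨ (k b = μ b ∧ k (μ b) = b))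
    (kc : (k c = c ∧ k (μ c) = μ c) ∨ (k c = μ c ∧ k (μ c) = c))
    (hac : k a = a ↔ k c = c) (hbc : k b = b ↔ k c = c)
    (hf : ∀ i, ζ i = i → i ≠ a → i ≠ μ a → i ≠ b → i ≠ μ b → i ≠ c → i ≠ μ c → k i = i)
    (hu : ∀ r s, Df ζ p r → Df ζ q r → Df ζ p s → Df ζ q s → Df ζ r s → (k r = r ↔ k s = s)) :
    ∃ q', Df ζ p q' ∧ (k * (ζ * (tr ζ p * tr ζ q)) = sw ζ p q' ∨
      k * (ζ * (tr ζ p * tr ζ q)) = sw ζ p q' * ζ) := by
  have n1 := sq_ap hB.sq p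
  have n2 := sq_ap hB.sq q
  have kp : k p = q ∨ k p = ζ q := by
    have := k1 p hd.mv'; simp only [sw, mul_apply] at this; clear * - this hd; grind
  have dq : Df ζ p (k p) := by rcases kp with e | e <;> rw [e]; exacts [hd, hd.ap hB.sq]
  have dq' : ∀ s, Df ζ (k p) s → Df ζ q s := fun s => by
    rcases kp with e | e <;> rw [e] <;> clear * - n2 <;> grind
  have mv : ∀ s, Df ζ p s → Df ζ q s → k s = s ∨ k s = ζ s := fun s h1 h2 => by
    have := k1 s h1.mv; have := sq_ap hB.sq s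
    simp only [sw, mul_apply] at *; clear k1 hf hu dq'; grind
  have key : ∀ w : Perm Ω, w * w = 1 → w * ζ = ζ * w → (∀ i, ζ i ≠ i → w i = k i) →
      (∀ i, ζ i = i → w i = i) → w = sw ζ p (k p) ∨ w = sw ζ p (ζ (k p)) * ζ :=
    fun w w2 hw e1 e2 => AT.cases hB.sq w2 hw ⟨dq, e1 p hd.mv', fun s h1 h2 => by
      rw [e1 s h1.mv]; exact mv s h1 (dq' s h2), e2⟩ fun r s r1 r2 s1 s2 rs => by
        rw [e1 r r1.mv, e1 s s1.mv]; exact hu r s r1 (dq' r r2) s1 (dq' s s2) rs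
  have ab := S.ab
  have ac := S.ac
  have bc := S.bc
  have fa := S.fx hB.sq S.ha
  have fb := S.fx hB.sq S.hb
  have fc := S.fx hB.sq S.hc
  have ha := S.ha
  have hb := S.hb
  have hc := S.hc
  have kc' : k c = c := by
    by_contra e
    have c1 : ∀ i, k i = μ i → k (μ i) = i → k * tr μ i = tr μ i * k := fun i h1 h2 =>
      swap_comm_of (.inr ⟨h1, h2⟩)
    have c2 : ∀ i, ζ i = i → tr μ i * ζ = ζ * tr μ i := fun i h1 =>
      AltC.fix_comm h1 (S.fx hB.sq h1)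
    replace ka := ka.resolve_left fun e' => e (hac.1 e'.1)
    replace kb := kb.resolve_left fun e' => e (hbc.1 e'.1)
    replace kc := kc.resolve_left fun e' => e e'.1
    have c3 : Commute k (tr μ a * tr μ b * tr μ c) :=
      ((Commute.mul_right (c1 a ka.1 ka.2) (c1 b kb.1 kb.2))).mul_right (c1 c kc.1 kc.2)
    have c4 : Commute (tr μ a * tr μ b * tr μ c) ζ :=
      ((Commute.mul_left (c2 a ha) (c2 b hb))).mul_left (c2 c hc)
    have c5 : tr μ a * tr μ b * tr μ c * (tr μ a * tr μ b * tr μ c) = 1 :=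
      b0_sq S.sq (b0_mul S.sq (b0_mul S.sq (b0_tr S.sq a) (b0_tr S.sq b)) (b0_tr S.sq c))
    have c6 : sign (k * (tr μ a * tr μ b * tr μ c)) = -1 := by
      simp [hk.1, sign_tr ab.mv', sign_tr ab.mv, sign_tr ac.mv]
    rcases key (k * (tr μ a * tr μ b * tr μ c))
      (by rw [c3.symm.mul_mul_mul_comm, k2, c5, one_mul]) (Commute.mul_left hk.2 c4)
      (fun i hi => by
        simp only [mul_apply, tr]; congr 1; clear * - hi ha hb hc fa fb fc; grind)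
      (fun i hi => by
        have := hf i hi
        simp only [mul_apply, tr]; clear * - this ab ac bc ka kb kc
        by_cases h0 : i = a ∨ i = μ a ∨ i = b ∨ i = μ b ∨ i = c ∨ i = μ c
        · rcases h0 with rfl | rfl | rfl | rfl | rfl | rfl <;> grind
        · push Not at h0
          have := this h0.1 h0.2.1 h0.2.2.1 h0.2.2.2.1 h0.2.2.2.2.1 h0.2.2.2.2.2
          grind) with e' | e' <;> rw [e'] at c6
    · rw [sign_sw dq] at c6; exact absurd c6 (by decide)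
    · rw [map_mul, sign_sw (dq.ap hB.sq), hB.ev] at c6; exact absurd c6 (by decide)
  have e0 : tr ζ p * tr ζ q = tr ζ p * tr ζ (k p) := by
    rcases kp with e | e <;> rw [e]; rw [tr_ap hB.sq]
  have m := tr_tr_mem hB.sq dq.mv' dq.mv
  rw [e0]
  rcases key k k2 hk.2 (fun _ _ => rfl) (fun i hi => by
    have := hf i hi
    clear * - this ab ac bc ka kb kc kc' hac hbc
    by_cases h0 : i = a ∨ i = μ a ∨ i = b ∨ i = μ b ∨ i = c ∨ i = μ c
    · rcases h0 with rfl | rfl | rfl | rfl | rfl | rfl <;> grind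
    · push Not at h0
      exact this h0.1 h0.2.1 h0.2.2.1 h0.2.2.2.1 h0.2.2.2.2.1 h0.2.2.2.2.2) with e | e
  · refine ⟨ζ (k p), dq.ap hB.sq, .inr ?_⟩
    rw [sw_ap hB.sq dq, tr_tr_sw dq, ← e, ← m.2, ← mul_assoc]
  · refine ⟨k p, dq, .inl ?_⟩
    generalize k p = q' at e dq
    rw [e, mul_assoc, ← mul_assoc ζ, hB.sq, one_mul, sw_ap hB.sq dq, tr_tr_sw dq, mul_assoc,
      b0_sq hB.sq (b0_mul hB.sq (b0_tr hB.sq p) (b0_tr hB.sq q')), mul_one]

set_option maxHeartbeats 1000000 in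
theorem ZC.alpha_large (hB : Big ζ) (h : ZC z ζ ι) (hg : GG ζ ι r α β g) {a b c : Ω}
    (S : Six ζ μ a b c) :
    ∃ p q, Df ζ p q ∧ (IsConj z (ι (sw ζ p q)) ∨ IsConj z (ι (sw ζ p q * ζ))) := by
  obtain ⟨p, hp⟩ := hB.exists_mv
  obtain ⟨q, -, hd, -⟩ := hB.fresh2 hp
  have E := S.toExt
  have ab := S.ab
  have ac := S.ac
  have bc := S.bc
  have fa := S.fx hB.sq S.ha
  have fb := S.fx hB.sq S.hb
  have fc := S.fx hB.sq S.hc
  have ha := S.ha
  have hb := S.hb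
  have hc := S.hc
  have n1 := sq_ap hB.sq p
  have n2 := sq_ap hB.sq q
  obtain ⟨γ1, g1⟩ := hg.exists_gm hB h hp ha fa ab.1
  obtain ⟨γ2, g2⟩ := hg.exists_gm hB h hd.mv hb fb bc.1
  obtain ⟨γ3, g3⟩ := hg.exists_gm hB h hp hc fc bc.mv.symm
  obtain ⟨γ4, g4⟩ := hg.exists_gm hB h hd.mv hc fc bc.mv.symm
  have A := (g2.act hB h E rfl).mul (g1.act hB h E rfl)
  obtain ⟨π, hπ⟩ : ∃ π, π = swap q b * swap (ζ q) (μ b) * (swap p a * swap (ζ p) (μ a)) := ⟨_, rfl⟩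
  rw [← hπ] at A
  have π1 : π a = p ∧ π (μ a) = ζ p ∧ π b = q ∧ π (μ b) = ζ q ∧ π p = a ∧ π (ζ p) = μ a ∧
      π q = b ∧ π (ζ q) = μ b := by
    simp only [hπ, mul_apply]; clear * - hd ab ha hb fa fb n1 n2; grind (splits := 40)
  have π2 : ∀ i, π i ≠ i → i = a ∨ i = μ a ∨ i = b ∨ i = μ b ∨ i = p ∨ i = ζ p ∨ i = q ∨ i = ζ q :=
    fun i => by simp only [hπ, mul_apply]; clear * -; grind
  obtain ⟨p1, p2, p3, p4, p5, p6, p7, p8⟩ := π1
  clear hπ
  have π3 : π c = c ∧ π (μ c) = μ c := by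
    have e1 := π2 c; have e2 := π2 (μ c)
    clear * - e1 e2 hd ac bc hc fc n1 n2; grind
  have fixF : ∀ {x y : Ω}, ζ x = x → ζ y = y → ∀ i, ζ i ≠ i → sw μ x y i = i :=
    fun {x y} hx hy i hi => by
      have := S.fx hB.sq hx; have := S.fx hB.sq hy
      exact sw_off (by clear * - hi hx; grind) (by clear π2; grind) (by clear * - hi hy; grind)
        (by clear π2; grind)
  have memF : ∀ {x y : Ω}, ζ x = x → ζ y = y → Df μ x y → sw μ x y ∈ HU ζ :=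
    fun hx hy hxy => mem_HU_of_fix (sign_sw hxy) (fixF hx hy)
  have hs := memF ha hb ab
  have As := A.cj (Act.of_mem hB h E hs (sw_comm E.sq ab))
  rw [show π * sw μ a b * π⁻¹ = sw ζ p q by rw [sw, AltC.conj_dbl, p1, p2, p3, p4]; rfl] at As
  obtain ⟨k, hk, ek, k1, k3⟩ := As.exists hB h E (sw_mem hB.sq hd) ha ab.mv'
  have k3' : ∀ x, ζ x = x → μ x ≠ x →
      (k x = x ∧ k (μ x) = μ x) ∨ (k x = μ x ∧ k (μ x) = x) := fun x h1 h2 => by
    have e1 := k3 x h1 h2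
    have e2 : ∀ y, ζ y = y → sw ζ p q y = y := fun y hy =>
      sw_off (by clear * - hy hd; grind) (by clear * - hy hd n1; grind) (by clear * - hy hd; grind)
        (by clear * - hy hd n2; grind)
    rwa [e2 x h1, e2 _ (S.fx hB.sq h1)] at e1
  have hcm : ∀ c0 : G, c0 * ι (sw μ a b) = ι (sw μ a b) * c0 → ∀ k' ∈ HU ζ,
      ι k' = γ2 * γ1 * c0 * (γ2 * γ1)⁻¹ → k * k' = k' * k := fun c0 h1 k' hk' e =>
    (h.comm_iff hk hk').1 (by rw [ek, e, conj_mul, conj_mul, h1])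
  have sc : ∀ i, ζ i ≠ i ∨ i = c ∨ i = μ c → sw μ a b i = i := by
    rintro i (hi | hi | hi)
    · exact fixF ha hb i hi
    · rw [hi]; exact sw_off ac.2.1.symm ac.2.2.2.1.symm bc.2.1.symm bc.2.2.2.1.symm
    · rw [hi]; exact sw_off ac.2.2.1.symm ac.2.2.2.2.1.symm bc.2.2.1.symm bc.2.2.2.2.1.symm
  have hac : k a = a ↔ k c = c := by
    have A3 := A.cj (g3.act hB h E rfl)
    rw [AltC.conj_dbl, p5, p6, π3.1, π3.2] at A3
    obtain ⟨k', hk', e', -, k4⟩ := A3.exists hB h E (memF ha hc ac) ha ab.mv'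
    refine iff_of_move ac (hcm γ3 (g3.cen _ hs.1 sc) k' hk' e') (k3' a ha ab.mv') (k3' c hc ac.mv) ?_
    have e1 := k4 a ha ab.mv'
    simp only [mul_apply] at e1
    clear * - e1 ac; grind
  have hbc : k b = b ↔ k c = c := by
    have A3 := A.cj (g4.act hB h E rfl)
    rw [AltC.conj_dbl, p7, p8, π3.1, π3.2] at A3
    obtain ⟨k', hk', e', -, k4⟩ := A3.exists hB h E (memF hb hc bc) ha ab.mv'
    refine iff_of_move bc (hcm γ4 (g4.cen _ hs.1 sc) k' hk' e') (k3' b hb ab.mv) (k3' c hc ac.mv) ?_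
    have e1 := k4 b hb ab.mv
    simp only [mul_apply] at e1
    clear * - e1 bc; grind
  have hu : ∀ r s, Df ζ p r → Df ζ q r → Df ζ p s → Df ζ q s → Df ζ r s → (k r = r ↔ k s = s) := by
    intro r s r1 r2 s1 s2 rs
    have m1 := sq_ap hB.sq r
    have m2 := sq_ap hB.sq s
    have e0 : sw ζ r s = sw μ r s := by rw [sw, sw, E.mv r r1.mv, E.mv s s1.mv]
    have rs' : Df μ r s := by rwa [Df, E.mv r r1.mv, E.mv s s1.mv]
    have mv : ∀ i, sw ζ r s i ≠ i → i = r ∨ i = ζ r ∨ i = s ∨ i = ζ s := fun i hi => by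
      by_contra! h7; exact hi (sw_off h7.1 h7.2.1 h7.2.2.1 h7.2.2.2)
    have A3 := A.cj (Act.of_mem hB h E (sw_mem hB.sq rs) (e0 ▸ sw_comm E.sq rs'))
    rw [← comm_of_fix (x := sw ζ r s) (y := π) (fun i hi => by
      have e1 := mv i hi; have e2 := π2 i
      clear * - e1 e2 r1 r2 s1 s2 ha hb fa fb m1 m2; grind), mul_inv_cancel_right] at A3
    obtain ⟨k', hk', e', k4, -⟩ := A3.exists hB h E (sw_mem hB.sq rs) ha ab.mv'
    have e1 := cm_ap (hcm _ ((h.comm_iff (sw_mem hB.sq rs) hs).2 (comm_of_fix fun i hi =>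
      fixF ha hb i (by have e1 := mv i hi; clear * - e1 rs m1 m2; grind))) k' hk' e') r
    have e2 := k4 r r1.mv
    have e3 := k1 r r1.mv
    have e4 := k1 s s1.mv
    have e5 := cm_ap hk.2 s
    have e6 := cm_ap hk'.2 r
    have e7 := sq_ap hB.sq (k s)
    simp only [sw, mul_apply] at e2 e3 e4
    clear * - e1 e2 e3 e4 e5 e6 e7 r1 r2 s1 s2 rs m1 m2
    grind (splits := 20)
  have hf : ∀ i, ζ i = i → i ≠ a → i ≠ μ a → i ≠ b → i ≠ μ b → i ≠ c → i ≠ μ c → k i = i := by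
    intro i hi i1 i2 i3 i4 i5 i6
    have y1 : sign (swap c (μ c) * swap c i) = 1 := AltC.sign_dbl ac.mv.symm i5.symm
    have y2 : ∀ j, ζ j ≠ j ∨ j = a ∨ j = μ a ∨ j = b ∨ j = μ b → (swap c (μ c) * swap c i) j = j :=
      fun j hj => by
        simp only [mul_apply]; clear * - hj hi hc fc ac bc i1 i2 i3 i4; grind (splits := 20)
    have hy := mem_HU_of_fix y1 fun j hj => y2 j (.inl hj)
    refine fix_of_three ac.mv.symm i5 i6 (k3' c hc ac.mv) (hcm _ ((h.comm_iff hy hs).2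
      (comm_of_fix (fun j hj => y2 j ?_)).symm) _ hy ?_)
    · by_contra! h7; exact hj (sw_off h7.2.1 h7.2.2.1 h7.2.2.2.1 h7.2.2.2.2)
    · rw [eq_mul_inv_iff_mul_eq, mul_assoc, g1.cen _ y1 (fun j hj => y2 j (by tauto)), ← mul_assoc,
        ← mul_assoc, g2.cen _ y1 (fun j hj => y2 j (by tauto))]
  have k2 : k * k = 1 := h.inj (mul_mem hk hk) (by
    rw [h.mul hk hk, ek, conj_mul, ← h.mul hs hs, sw_sq ab, h.one, mul_one, mul_inv_cancel])
  obtain ⟨q', hq', e⟩ := S.at hB hd hk k2 k1 (k3' a ha ab.mv') (k3' b hb ab.mv) (k3' c hc ac.mv)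
    hac hbc hf hu
  suffices hZ : IsConj z (ι (k * (ζ * (tr ζ p * tr ζ q)))) from
    ⟨p, q', hq', e.imp (fun e => by rwa [e] at hZ) (fun e => by rwa [e] at hZ)⟩
  have m := tr_tr_mem hB.sq hd.mv' hd.mv
  have b1 : Bs μ (ζ * (tr ζ p * tr ζ q)) := (E.bs hB).mul E.sq
    (E.of_bs ha fa rfl (bs_tr_tr hB.sq hd.mv' hd.mv ha fa))
  have b2 : Bs μ (tr μ a * tr μ b) := bs_pair E.sq ab.mv' ab.mv
  have z'f : ∀ i, i = a ∨ i = μ a ∨ i = b ∨ i = μ b ∨ i = p ∨ i = ζ p ∨ i = q ∨ i = ζ q →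
      (ζ * (tr ζ p * tr ζ q)) i = i := fun i hi => by
    simp only [mul_apply, tr]; clear * - hi hd ha hb fa fb n1 n2; grind (splits := 20)
  have e1 : π * (ζ * (tr ζ p * tr ζ q)) * π⁻¹ = ζ * (tr ζ p * tr ζ q) := by
    rw [comm_of_fix fun i hi => z'f i (π2 i hi), mul_inv_cancel_right]
  have e2 := A.act _ (b2.mul E.sq b1)
  rw [← conj_mul, e1, show π * (tr μ a * tr μ b) * π⁻¹ = tr ζ p * tr ζ q by
      rw [tr, tr, AltC.conj_dbl, p1, p2, p3, p4]; rfl, ← mul_assoc (tr ζ p * tr ζ q),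
    m.2, mul_assoc ζ, b0_sq hB.sq (b0_mul hB.sq (b0_tr hB.sq p) (b0_tr hB.sq q)), mul_one,
    h.ιζ] at e2
  have z1 : IsConj z (ι (tr μ a * tr μ b * (ζ * (tr ζ p * tr ζ q)))) :=
    (isConj_iff.2 ⟨_, e2⟩).symm
  have ρf : ∀ i, (swap (μ a) (μ b) * swap (μ a) b) i ≠ i → i = μ a ∨ i = b ∨ i = μ b :=
    fun i => by simp only [mul_apply]; clear * -; grind
  have hρ : swap (μ a) (μ b) * swap (μ a) b ∈ HU ζ := mem_HU_of_fix
    (AltC.sign_dbl ab.2.2.2.2.1 ab.2.2.2.1) fun i hi => by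
      have := ρf i; clear * - this hi hb fa fb; grind
  have z2 := h.isConj hρ (E.mem hB.sq (b2.mul E.sq b1)) z1
  have e3 : swap (μ a) (μ b) * swap (μ a) b * (tr μ a * tr μ b) *
      (swap (μ a) (μ b) * swap (μ a) b)⁻¹ = sw μ a b := by
    rw [tr, tr, AltC.conj_dbl, sw, swap_comm (μ a) (μ b)]
    simp only [mul_apply]
    congr 2 <;> (clear * - ab; grind)
  rw [← conj_mul, e3, comm_of_fix (fun i hi => z'f i (by have := ρf i hi; tauto)),
    mul_inv_cancel_right, h.mul hs (E.mem hB.sq b1)] at z2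
  have z3 := z2.trans (isConj_iff.2 ⟨γ2 * γ1, rfl⟩)
  rwa [← conj_mul, A.act _ b1, e1, ← ek, ← h.mul hk (E.mem hB.sq b1)] at z3

theorem ZC.alpha_pair [Finite G] (hB : Big ζ) (h : ZC z ζ ι) (hG : ∀ K : Subgroup G, K.index ≠ 2)
    {r α β : Ω} {g : G} (hg : GG ζ ι r α β g) :
    ∃ p q, Df ζ p q ∧ (IsConj z (ι (sw ζ p q)) ∨ IsConj z (ι (sw ζ p q * ζ))) := by
  by_cases h3 : ∀ γ δ, ζ γ = γ → ζ δ = δ → γ ≠ α → γ ≠ β → δ ≠ α → δ ≠ β → γ = δ
  · exact h.alpha_small hB hG hg.hα hg.hβ hg.ne h3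
  push Not at h3
  obtain ⟨γ, δ, hγ, hδ, n1, n2, n3, n4, n5⟩ := h3
  have hn := hg.ne
  have h4 : 4 ≤ (Finset.univ.filter fun p => ζ p = p).card := by
    rw [← show ({α, β, γ, δ} : Finset Ω).card = 4 from Finset.card_eq_four.2
      ⟨α, β, γ, δ, hn, n1.symm, n3.symm, n2.symm, n4.symm, n5, rfl⟩]
    refine Finset.card_le_card fun i hi => ?_
    simp only [Finset.mem_insert, Finset.mem_singleton] at hi
    rcases hi with rfl | rfl | rfl | rfl <;> simp [hg.hα, hg.hβ, hγ, hδ]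
  have h6 : 6 ≤ (Finset.univ.filter fun p => ζ p = p).card := by
    have := hB.card_fix; have := hB.hm; omega
  have key : ∀ e : Ω, ∃ i, ζ i = i ∧ i ≠ α ∧ i ≠ β ∧ i ≠ γ ∧ i ≠ δ ∧ i ≠ e := fun e => by
    obtain ⟨i, hi, hi'⟩ := Finset.exists_mem_notMem_of_card_lt_card
      (lt_of_le_of_lt (Finset.card_le_five (a := α) (b := β) (c := γ) (d := δ) (e := e))
        (lt_of_lt_of_le (by norm_num) h6))
    exact ⟨i, by simpa using hi, by simpa [not_or] using hi'⟩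
  obtain ⟨e, he⟩ := key α
  obtain ⟨f, hf⟩ := key e
  obtain ⟨μ, S⟩ := exists_six hB.sq (a := α) (a' := β) (b := γ) (b' := δ) (c := e) (c' := f)
    (by clear key; grind) (by clear key; grind) (by clear key; grind) hg.hα hg.hβ hγ hδ he.1 hf.1
  exact h.alpha_large hB hg S

end Cfsg.Lib.AltZ
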