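import Cfsg.Agent.AltC.Bad3
import Cfsg.Agent.Spor.SymCox

/-! The bad transvection: the twist by the outer automorphism on six fixed points. -/

set_option autoImplicit false
set_option linter.unusedSectionVars false

namespace Cfsg.Lib.AltZ

open Equiv Equiv.Perm
open Cfsg.Lib.AltC (N4 sq_ap cm_ap sign_cases)

variable {Ω : Type*} [DecidableEq Ω] [Fintype Ω] {G : Type*} [Group G]
  {z : G} {ζ μ : Perm Ω} {ι : Perm Ω → G} {r a b c : Ω} {g : G}

set_option maxRecDepth 4000 in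
theorem exists_out6 : ∃ β : Perm (Fin 6) →* Perm (Fin 6), Function.Bijective β ∧
    (∀ y, sign (β y) = sign y) ∧ β (swap 4 5) = swap 0 1 * swap 2 3 * swap 4 5 := by
  obtain ⟨β, hβ⟩ := Spor.SymCox.exists_hom (W := Perm (Fin 6)) (n := 5)
    ![swap 0 3 * swap 1 2 * swap 4 5, swap 0 1 * swap 2 5 * swap 3 4,
      swap 0 2 * swap 1 3 * swap 4 5, swap 0 3 * swap 1 4 * swap 2 5,
      swap 0 1 * swap 2 3 * swap 4 5] (by decide) (by unfold Commute SemiconjBy; decide) (by decide)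
  have h0 : β (swap 0 1) = _ := hβ 0
  have h1 : β (swap 1 2) = _ := hβ 1
  have h2 : β (swap 2 3) = _ := hβ 2
  have h3 : β (swap 3 4) = _ := hβ 3
  have h4 : β (swap 4 5) = _ := hβ 4
  refine ⟨β, Finite.surjective_iff_bijective.1 fun y => ?_, fun y => ?_, h4⟩
  · have : y ∈ Submonoid.closure (Set.range fun i : Fin 5 => swap i.castSucc i.succ) := by
      rw [mclosure_swap_castSucc_succ]; trivial
    refine (Submonoid.closure_le (S := MonoidHom.mrange β)).2 ?_ this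
    rintro _ ⟨i, rfl⟩
    fin_cases i
    · exact ⟨swap 0 1 * swap 1 2 * swap 0 1 * swap 2 3 * swap 1 2 * swap 0 1 * swap 4 5, by
        simp only [map_mul, h0, h1, h2, h4]; decide⟩
    · exact ⟨swap 0 1 * swap 3 4 * swap 2 3 * swap 4 5 * swap 3 4, by
        simp only [map_mul, h0, h2, h3, h4]; decide⟩
    · exact ⟨swap 1 2 * swap 0 1 * swap 2 3 * swap 1 2 * swap 4 5, by
        simp only [map_mul, h0, h1, h2, h4]; decide⟩
    · exact ⟨swap 0 1 * swap 1 2 * swap 0 1 * swap 3 4 * swap 2 3 * swap 1 2 * swap 0 1 *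
        swap 4 5 * swap 3 4, by simp only [map_mul, h0, h1, h2, h3, h4]; decide⟩
    · exact ⟨swap 0 1 * swap 2 3 * swap 4 5, by simp only [map_mul, h0, h2, h4]; decide⟩
  · refine DFunLike.congr_fun (MonoidHom.eq_of_eqOn_denseM (f := sign.comp β) (g := sign)
      (mclosure_swap_castSucc_succ 5) ?_) y
    rintro _ ⟨i, rfl⟩
    rw [MonoidHom.comp_apply, hβ]
    revert i
    decide

theorem exists_out {R : Type*} [Fintype R] [DecidableEq R] (e : Fin 6 ≃ R) :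
    ∃ β : Perm R →* Perm R, Function.Injective β ∧ (∀ y, sign (β y) = sign y) ∧
      β (swap (e 4) (e 5)) = swap (e 0) (e 1) * swap (e 2) (e 3) * swap (e 4) (e 5) := by
  obtain ⟨β, b1, b2, b3⟩ := exists_out6
  have he : ∀ i j, e.permCongrHom (swap i j) = swap (e i) (e j) :=
    fun i j => symm_trans_swap_trans _ _ _
  refine ⟨e.permCongrHom.toMonoidHom.comp (β.comp e.permCongrHom.symm.toMonoidHom),
    e.permCongrHom.injective.comp (b1.1.comp e.permCongrHom.symm.injective), fun y => ?_, ?_⟩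
  · obtain ⟨y, rfl⟩ := e.permCongrHom.surjective y
    change sign (e.permCongr (β (e.permCongrHom.symm (e.permCongrHom y)))) = sign (e.permCongr y)
    rw [MulEquiv.symm_apply_apply, sign_permCongr, sign_permCongr, b2]
  · rw [← he]
    change e.permCongrHom (β (e.permCongrHom.symm (e.permCongrHom _))) = _
    rw [MulEquiv.symm_apply_apply, b3, map_mul, map_mul, he, he, he]

/-- The twist of the centraliser by an automorphism of the symmetric group on the fixed points. -/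
noncomputable def tw (ζ : Perm Ω) (β : Perm {p // ζ p = p} →* Perm {p // ζ p = p}) (x : Perm Ω) :
    Perm Ω :=
  restr (fun p => ¬ ζ p = p) x *
    if h : ∀ p, ζ (x p) = x p ↔ ζ p = p then ofSubtype (β (x.subtypePerm h)) else 1

section tw

variable {β : Perm {p // ζ p = p} →* Perm {p // ζ p = p}} {x y : Perm Ω}

theorem hu_fix (hx : x ∈ HU ζ) : ∀ p, (fun p => ζ p = p) (x p) ↔ (fun p => ζ p = p) p :=
  fix_iff (mem_HU.1 hx).2

/-- The action on the fixed points. -/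
def fxp (hx : x ∈ HU ζ) : Perm {p // ζ p = p} := x.subtypePerm (hu_fix hx)

theorem fxp_apply (hx : x ∈ HU ζ) (q : {p // ζ p = p}) : (fxp hx q : Ω) = x q := rfl

theorem tw_mv (hx : x ∈ HU ζ) {p : Ω} (hp : ζ p ≠ p) : tw ζ β x p = x p := by
  rw [tw, dif_pos (hu_fix hx), mul_apply, ofSubtype_apply_of_not_mem (p := fun p => ζ p = p) _ hp,
    restr_pos (S := fun p => ¬ ζ p = p) (fun p => by rw [fix_iff hx.2]) hp]

theorem tw_fx (hx : x ∈ HU ζ) {p : Ω} (hp : ζ p = p) :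
    tw ζ β x p = β (fxp hx) ⟨p, hp⟩ := by
  rw [tw, dif_pos (hu_fix hx), mul_apply, ofSubtype_apply_of_mem (p := fun p => ζ p = p) _ hp,
    restr_neg (S := fun p => ¬ ζ p = p) x (not_not.2 (β _ ⟨p, hp⟩).2)]
  rfl

theorem tw_mem (hs : ∀ y, sign (β y) = sign y) (hx : x ∈ HU ζ) : tw ζ β x ∈ HU ζ := by
  refine ⟨?_, Equiv.ext fun p => ?_⟩
  · have e := restr_mul_compl (S := fun p => ζ p = p) (hu_fix hx)
    have := hx.1
    rw [← e, Perm.sign_mul, restr, dif_pos (hu_fix hx), mul_comm] at this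
    rw [tw, dif_pos (hu_fix hx), Perm.sign_mul, sign_ofSubtype, hs, ← this]
    congr 1
    convert (sign_ofSubtype _).symm
  · rw [mul_apply, mul_apply]
    by_cases hp : ζ p = p
    · rw [hp, tw_fx hx hp]; exact (β _ ⟨p, hp⟩).2.symm
    · rw [tw_mv hx hp, tw_mv hx (fun e => hp (ζ.injective e)), cm_ap hx.2]

theorem tw_mul (hx : x ∈ HU ζ) (hy : y ∈ HU ζ) : tw ζ β (x * y) = tw ζ β x * tw ζ β y := by
  ext p
  rw [mul_apply]
  by_cases hp : ζ p = p
  · rw [tw_fx (mul_mem hx hy) hp, tw_fx hy hp, tw_fx hx (β _ ⟨p, hp⟩).2, ← mul_apply,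
      ← map_mul]
    rfl
  · rw [tw_mv (mul_mem hx hy) hp, tw_mv hy hp, tw_mv hx (by rwa [Ne, fix_iff hy.2]), mul_apply]

theorem tw_of_fix (hx : x ∈ HU ζ) (h : ∀ p, ζ p = p → x p = p) : tw ζ β x = x := by
  ext p
  by_cases hp : ζ p = p
  · rw [tw_fx hx hp, show fxp hx = 1 from
      Equiv.ext fun q => Subtype.ext (h q q.2), map_one, h p hp]; rfl
  · exact tw_mv hx hp

theorem tw_inj (hi : Function.Injective β) (hx : x ∈ HU ζ) (e : tw ζ β x = 1) : x = 1 := by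
  have e1 : fxp hx = 1 := hi (by
    rw [map_one]; ext q; rw [← tw_fx hx q.2, e]; rfl)
  ext p
  by_cases hp : ζ p = p
  · exact congrArg Subtype.val (DFunLike.congr_fun e1 ⟨p, hp⟩)
  · rw [← tw_mv (β := β) hx hp, e]

theorem ZC.tw (hB : Big ζ) (h : ZC z ζ ι) (hi : Function.Injective β)
    (hs : ∀ y, sign (β y) = sign y) : ZC z ζ (fun x => ι (tw ζ β x)) where
  mul := fun hx hy => by rw [tw_mul hx hy, h.mul (tw_mem hs hx) (tw_mem hs hy)]
  inj := fun hx e => tw_inj hi hx (h.inj (tw_mem hs hx) e)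
  ιζ := by rw [tw_of_fix hB.mem fun _ hp => hp, h.ιζ]
  surj := fun c hc => by
    obtain ⟨x, hx, e⟩ := h.surj c hc
    let f : HU ζ →* HU ζ := MonoidHom.mk' (fun x => ⟨AltZ.tw ζ β x, tw_mem hs x.2⟩)
      fun x y => Subtype.ext (tw_mul x.2 y.2)
    obtain ⟨y, hy⟩ := Finite.surjective_of_injective (f := f) ((injective_iff_map_eq_one f).2
      fun x e => Subtype.ext (tw_inj hi x.2 (congrArg Subtype.val e))) ⟨x, hx⟩
    exact ⟨y, y.2, by rw [← e]; exact congrArg (fun t : HU ζ => ι t) hy⟩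

end tw

theorem Tri.six (hB : Big ζ) (h : ZC z ζ ι) (hμ : Full ζ μ) (T : Tri ζ μ a b c) (hr : ζ r ≠ r)
    (ht : TB ι ζ μ r g) (h6 : ∀ i, ζ i = i → μ i ≠ i) :
    ∃ ι' : Perm Ω → G, ZC z ζ ι' ∧ GG ζ ι' r c (μ c) g := by
  have fa := hμ.fx a T.ha
  have fb := hμ.fx b T.hb
  have fc := hμ.fx c T.hc
  have ha := T.ha
  have hb := T.hb
  have hc := T.hc
  have ab := T.ab
  have ac := T.ac
  have bc := T.bc
  let e : Fin 6 ≃ {p // ζ p = p} := Equiv.ofBijective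
    ![⟨a, ha⟩, ⟨μ a, fa⟩, ⟨b, hb⟩, ⟨μ b, fb⟩, ⟨c, hc⟩, ⟨μ c, fc⟩] ⟨fun i j e => by
      fin_cases i <;> fin_cases j <;> simp_all <;> grind, fun x => by
      rcases (T.all x x.2).resolve_left (h6 x x.2) with e | e | e | e | e | e
      exacts [⟨0, Subtype.ext e.symm⟩, ⟨1, Subtype.ext e.symm⟩, ⟨2, Subtype.ext e.symm⟩,
        ⟨3, Subtype.ext e.symm⟩, ⟨4, Subtype.ext e.symm⟩, ⟨5, Subtype.ext e.symm⟩]⟩
  obtain ⟨β, b1, b2, b3⟩ := exists_out e
  change β (swap ⟨c, hc⟩ ⟨μ c, fc⟩) =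
    swap ⟨a, ha⟩ ⟨μ a, fa⟩ * swap ⟨b, hb⟩ ⟨μ b, fb⟩ * swap ⟨c, hc⟩ ⟨μ c, fc⟩ at b3
  have zr := sq_ap hB.sq r
  have mc := sq_ap hμ.sq c
  have cc : c ≠ μ c := bc.2.2.2.2.2
  have sub : ∀ {x}, Bs (ζ * swap c (μ c)) x → Bs μ x := fun {x} hx => ⟨hx.1, fun p => by
    have := hx.2 p; have := hμ.mv p
    simp only [mul_apply] at *; grind⟩
  have t1 : ∀ {x}, Bs (ζ * swap c (μ c)) x → x c = c → ∀ p, ζ p = p → x p = p :=
    fun {x} hx e p hp => by
      have := hx.2 p; have := b0_ap hμ.sq (sub hx).2 c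
      simp only [mul_apply] at *; grind
  have t2 : ∀ {x}, Bs (ζ * swap c (μ c)) x → x c ≠ c → ∀ p, ζ p = p → x p = swap c (μ c) p :=
    fun {x} hx e p hp => by
      have := hx.2 p; have := b0_ap hμ.sq (sub hx).2 c; have := (sub hx).2 c
      simp only [mul_apply] at *; grind
  have t3 : ∀ {x}, Bs (ζ * swap c (μ c)) x → x c ≠ c → tw ζ β x = tr μ a * tr μ b * x :=
    fun {x} hx e => by
      have hx' := hμ.le (sub hx)
      ext p
      by_cases hp : ζ p = p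
      · rw [tw_fx hx' hp, show fxp hx' = swap ⟨c, hc⟩ ⟨μ c, fc⟩ from
          Equiv.ext fun q => Subtype.ext (by
            rw [fxp_apply, t2 hx e q q.2]
            exact (Subtype.val_injective.map_swap (⟨c, hc⟩ : {p // ζ p = p}) ⟨μ c, fc⟩ q).symm), b3, mul_apply, mul_apply,
          Subtype.val_injective.map_swap, Subtype.val_injective.map_swap,
          Subtype.val_injective.map_swap, mul_apply, mul_apply, t2 hx e p hp]
        rfl
      · rw [tw_mv hx' hp, mul_apply, T.y_fix hμ _ (by rwa [Ne, fix_iff hx'.2])]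
  refine ⟨_, h.tw hB b1 b2, hr, hc, fc, cc, fun x hx => ?_⟩
  have hd := bs_tr_swap hB.sq hr hc fc cc
  have rc : Df μ r c := by rw [Df, hμ.mv r hr]; grind
  have hx' := hμ.le (sub hx)
  have e1 := sw_conj hμ.sq (sub hx).2 rc
  rw [sw, hμ.mv r hr, hμ.tr_eq hr] at e1
  rw [e1]
  have hb : Bs μ (tw ζ β x) ∧ (ε1 ζ (tw ζ β x) = 1 ↔ x c = c) := by
    by_cases e : x c = c
    · rw [tw_of_fix hx' (t1 hx e), ε1_of_fix (t1 hx e)]; exact ⟨sub hx, by simp [e]⟩
    · rw [t3 hx e, chr_ε1.mul (hμ.le (T.y_bs hμ)) hx', ε1_of_mv (T.y_fix hμ), (T.y_bs hμ).1, ε1,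
        restr_eq (y := swap c (μ c)) (fun p hp => (t2 hx e p hp).symm) (fun p hp => by grind),
        sign_swap cc]
      exact ⟨(T.y_bs hμ).mul hμ.sq (sub hx), by simp [e]⟩
  rw [ht _ hb.1]
  simp only [hb.2, tw_mv hx' hr]
  split_ifs
  · rfl
  · rw [show tr μ c = swap c (μ c) from rfl, tw_mul hx' (hμ.le (sub hd)),
      t3 hd (by simp only [tr, mul_apply]; grind), (T.cB hB hμ r).resolve_right hr]
    rfl

theorem ZC.tv_bad (hB : Big ζ) (h : ZC z ζ ι) (hμ : Full ζ μ) {r α1 α2 : Ω} {g : G} (hr : ζ r ≠ r)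
    (h1 : ζ α1 = α1) (h2 : ζ α2 = α2) (h12 : Df μ α1 α2) (ht : TV ι μ (tr ζ r * (μ * ζ)) g) :
    ∃ ι' : Perm Ω → G, ZC z ζ ι' ∧ ∃ r α β g, GG ζ ι' r α β g := by
  have tb := ht.tb hB hμ hr
  have m1 := sq_ap hμ.sq α1
  have m2 := sq_ap hμ.sq α2
  obtain ⟨c, hc, c1, c2⟩ : ∃ c, ζ c = c ∧ Df μ α1 c ∧ Df μ α2 c := by
    by_contra! H
    have := hμ.sign hB
    rw [show μ * ζ = tr μ α1 * tr μ α2 from Equiv.ext fun i => by
      have f1 := hμ.fx _ h1; have f2 := hμ.fx _ h2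
      by_cases hi : ζ i = i
      · have : μ i = i ∨ i = α1 ∨ i = μ α1 ∨ i = α2 ∨ i = μ α2 := by
          by_contra! K
          exact H i hi (df_of hμ.sq h12.1.symm K.1 K.2.1 K.2.2.1)
            (df_of hμ.sq h12.2.2.2.2.2.symm K.1 K.2.2.2.1 K.2.2.2.2)
        clear H
        rw [Full.tau_fx hi]; simp only [tr, mul_apply]; grind
      · rw [hμ.tau_mv hB hi]; simp only [tr, mul_apply]; grind,
      (bs_pair hμ.sq h12.1.symm h12.2.2.2.2.2.symm).1] at this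
    exact absurd this (by decide)
  have T : Tri ζ μ α1 α2 c := ⟨h1, h2, hc, h12, c1, c2, fun i hi => by
    by_contra! H
    exact tb.four hB h hμ hr h1 h2 hc hi h12 c1
      (df_of hμ.sq h12.1.symm H.1 H.2.1 H.2.2.1) c2
      (df_of hμ.sq c2.1.symm H.1 H.2.2.2.1 H.2.2.2.2.1)
      (df_of hμ.sq c2.2.2.2.2.2.symm H.1 H.2.2.2.2.2.1 H.2.2.2.2.2.2)⟩
  obtain ⟨ι', a, b⟩ := T.six hB h hμ hr tb fun i hi e => T.seven hB h hμ hr tb hi e
  exact ⟨ι', a, _, _, _, _, b⟩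

end Cfsg.Lib.AltZ
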