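import Cfsg.Agent.AltC.Pair3
import Cfsg.Agent.AltC.EndPerm
import Cfsg.Agent.Chev.OverFix
import Cfsg.Agent.Class.PSLSimple
import Cfsg.Agent.S0243
import Cfsg.Agent.S0495
import Cfsg.Agent.S1004
import Cfsg.Agent.S1005

/-! Automorphisms of alternating groups and of the simple group of order 168. -/

set_option autoImplicit false

namespace Cfsg.Lib.AltC.Spl

open Equiv Equiv.Perm Cfsg.Lib.Known

variable {R : Type*} [Fintype R] [DecidableEq R]

theorem aut_fin {n : ℕ} (h6 : 6 ≤ n) (φ : MulAut (alternatingGroup (Fin n)))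
    (h : n = 6 → ∃ x, orderOf x = 3 ∧ IsConj x (φ x)) :
    ∃ σ : Perm (Fin n), MulAut.conjNormal σ = φ := by
  rcases h6.eq_or_lt with rfl | h7
  · obtain ⟨x, h3, hx⟩ := h rfl
    obtain ⟨k, hk⟩ := isConj_iff.1 hx
    obtain ⟨σ, hσ⟩ := Local.exists_conjNormal_eq ((MulAut.conj k)⁻¹ * φ) x h3 (by
      rw [MulAut.mul_apply, ← hk]; simp [mul_assoc])
    refine ⟨k.1 * σ, ?_⟩
    rw [map_mul, hσ, MulAut.conjNormal_val, mul_inv_cancel_left]
  · exact (Agent.S2119.result n (by omega) (by omega)).2 φ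

/-- An automorphism keeping the class of an element of order three comes from `S_R`. -/
theorem aut_of_conj (h6 : 6 ≤ Fintype.card R) (φ : MulAut (alternatingGroup R))
    (h : Fintype.card R = 6 → ∃ x, orderOf x = 3 ∧ IsConj x (φ x)) :
    ∃ σ : Perm R, ∀ τ : alternatingGroup R, (φ τ).1 = σ * τ * σ⁻¹ := by
  let e := Fintype.equivFin R
  obtain ⟨σ, hσ⟩ := aut_fin h6 (MulAut.congr e.altCongrHom φ) fun h' => by
    obtain ⟨x, h3, hx⟩ := h h'
    refine ⟨e.altCongrHom x, by rw [MulEquiv.orderOf_eq, h3], ?_⟩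
    simpa using e.altCongrHom.toMonoidHom.map_isConj hx
  refine ⟨e.permCongrHom.symm σ, fun τ => ?_⟩
  have h1 := congrArg (fun f : MulAut (alternatingGroup (Fin (Fintype.card R))) =>
    (f (e.altCongrHom τ)).1) hσ
  simp only [MulAut.conjNormal_apply, MulAut.congr_apply, MulEquiv.trans_apply,
    MulEquiv.symm_apply_apply] at h1
  apply e.permCongrHom.injective
  rw [map_mul, map_mul, map_inv, MulEquiv.apply_symm_apply]
  exact h1.symm

theorem three_cases (h6 : Fintype.card R = 6) {x : Perm R} (h3 : orderOf x = 3) :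
    x.cycleType = {3} ∨ x.cycleType = {3, 3} := by
  obtain ⟨n, hn⟩ := cycleType_prime_order (σ := x) (by rw [h3]; exact Nat.prime_three)
  have h1 := sum_cycleType_le x
  rw [hn, h3, Multiset.sum_replicate, smul_eq_mul, h6] at h1
  rw [hn, h3]
  obtain rfl | rfl : n = 0 ∨ n = 1 := by omega
  · exact .inl rfl
  · exact .inr rfl

theorem threeCycle_of_fix (h6 : Fintype.card R = 6) {x : Perm R} (h3 : orderOf x = 3) {f : R}
    (hf : x f = f) : IsThreeCycle x := by
  rcases three_cases h6 h3 with h | h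
  · exact h
  · have h1 := sum_cycleType x
    rw [h] at h1
    have h2 : x.support = Finset.univ := Finset.eq_univ_of_card _ (by rw [← h1, h6]; rfl)
    exact absurd hf (mem_support.1 (h2 ▸ Finset.mem_univ f))

theorem sq_six (φ : MulAut (alternatingGroup (Fin 6))) :
    ∃ x, orderOf x = 3 ∧ IsConj x (φ (φ x)) := by
  have hx : IsThreeCycle (swap (0 : Fin 6) 1 * swap 0 2) :=
    isThreeCycle_swap_mul_swap_same (by decide) (by decide) (by decide)
  let x : alternatingGroup (Fin 6) := ⟨_, hx.mem_alternatingGroup⟩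
  have o : orderOf x = 3 := by rw [← Subgroup.orderOf_coe]; exact hx.orderOf
  have o1 : orderOf (φ x) = 3 := by rw [MulEquiv.orderOf_eq, o]
  have o2 : orderOf (φ (φ x)) = 3 := by rw [MulEquiv.orderOf_eq, o1]
  refine ⟨x, o, ?_⟩
  have c := fun y z : alternatingGroup (Fin 6) =>
    @alternatingGroup.isThreeCycle_isConj (Fin 6) _ _ (by simp) y z
  rcases Local.cycleType_of_order_three _ o2 with h2 | h2
  · exact c _ _ hx h2
  rcases Local.cycleType_of_order_three _ o1 with h1 | h1
  · exact (c _ _ hx h1).trans (φ.toMonoidHom.map_isConj (c _ _ hx h1))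
  · have h3 : IsConj x (φ x) := by
      simpa using φ.symm.toMonoidHom.map_isConj (Local.isConj_of_cycleType_33 _ _ h1 h2)
    exact h3.trans (φ.toMonoidHom.map_isConj h3)

/-- The square of an automorphism comes from `S_R`. -/
theorem aut_sq (h6 : 6 ≤ Fintype.card R) (φ : MulAut (alternatingGroup R)) :
    ∃ σ : Perm R, ∀ τ : alternatingGroup R, (φ (φ τ)).1 = σ * τ * σ⁻¹ := by
  refine aut_of_conj h6 (φ * φ) fun h => ?_
  let e := (Fintype.equivFinOfCardEq h).altCongrHom
  obtain ⟨x, o, hx⟩ := sq_six (MulAut.congr e φ)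
  refine ⟨e.symm x, by rw [MulEquiv.orderOf_eq, o], ?_⟩
  simpa using e.symm.toMonoidHom.map_isConj hx

theorem dbl_of_six (hR : Sz R) (h6 : Fintype.card R = 6) {s : Perm R} (s2 : s * s = 1)
    (s1 : s ≠ 1) (se : sign s = 1) : Dbl s := by
  by_contra hd
  obtain ⟨p, q, hn⟩ := Bld.two_cycles s2 s1 se
  obtain ⟨f, g, hfg, hf, hg⟩ := fix_two hR s2 se
  have hn' := n4_iff.1 hn
  obtain ⟨r, hr, ho⟩ := third s2 hn' hd
  have e := sq_ap s2
  have : [p, s p, q, s q, f, g, r].Nodup := by
    simp only [List.nodup_cons, List.mem_cons, List.not_mem_nil, List.nodup_nil]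
    grind
  have := this.length_le_card
  simp at this
  omega

/-- An automorphism keeps the class of an involution. -/
theorem isConj_aut (hR : Sz R) (φ : MulAut (alternatingGroup R)) {s : alternatingGroup R}
    (s2 : s * s = 1) (s1 : s ≠ 1) : IsConj s (φ s) := by
  have a2 : ∀ t : alternatingGroup R, t * t = 1 → t.1 * t.1 = 1 := fun t h => congrArg Subtype.val h
  have a1 : ∀ t : alternatingGroup R, t ≠ 1 → t.1 ≠ 1 := fun t h e => h (Subtype.ext e)
  by_cases h6 : Fintype.card R = 6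
  · obtain ⟨y, hy, e⟩ := (dbl_of_six hR h6 (a2 s s2) (a1 s s1) (mem_alternatingGroup.1 s.2)).conj
      (dbl_of_six hR h6 (a2 (φ s) (by rw [← map_mul, s2, map_one]))
        (a1 _ (by simpa using s1)) (mem_alternatingGroup.1 (φ s).2))
    exact isConj_iff.2 ⟨⟨y, mem_alternatingGroup.2 hy⟩, Subtype.ext e⟩
  · obtain ⟨σ, hσ⟩ := aut_of_conj hR.1 φ fun h => absurd h h6
    rcases sign_cases σ with he | ho
    · exact isConj_iff.2 ⟨⟨σ, mem_alternatingGroup.2 he⟩, Subtype.ext (hσ s).symm⟩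
    · obtain ⟨f, g, hfg, hf, hg⟩ := fix_two hR (a2 s s2) (mem_alternatingGroup.1 s.2)
      refine isConj_iff.2 ⟨⟨σ * swap f g, mem_alternatingGroup.2 (by
        rw [map_mul, ho, sign_swap hfg]; rfl)⟩, Subtype.ext ?_⟩
      rw [hσ]
      calc σ * swap f g * s.1 * (σ * swap f g)⁻¹
          = σ * (swap f g * s.1) * (swap f g)⁻¹ * σ⁻¹ := by group
        _ = _ := by rw [fix_comm hf hg]; group

/-- An automorphism fixing the centraliser of an involution comes from `S_R`. -/
theorem aut_of_cent (hR : Sz R) (φ : MulAut (alternatingGroup R)) {s : alternatingGroup R}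
    (s2 : s * s = 1) (s1 : s ≠ 1) (h : Fintype.card R = 6 → ∀ τ, τ * s = s * τ → φ τ = τ) :
    ∃ σ : Perm R, ∀ τ : alternatingGroup R, (φ τ).1 = σ * τ * σ⁻¹ := by
  refine aut_of_conj hR.1 φ fun h6 => ?_
  have t2 : s.1 * s.1 = 1 := congrArg Subtype.val s2
  obtain ⟨p, q, r, u, hn, hs⟩ := dbl_of_six hR h6 t2 (fun e => s1 (Subtype.ext e))
    (mem_alternatingGroup.1 s.2)
  obtain ⟨f, g, hfg, hf, hg⟩ := fix_two hR t2 (mem_alternatingGroup.1 s.2)
  have h3 := isThreeCycle_swap_mul_swap_same hn.2.2.2.1 hn.2.2.2.2.1 hn.2.2.2.2.2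
  let x : alternatingGroup R := ⟨_, h3.mem_alternatingGroup⟩
  have o : orderOf x = 3 := by rw [← Subgroup.orderOf_coe]; exact h3.orderOf
  have o1 : orderOf (φ x).1 = 3 := by rw [Subgroup.orderOf_coe, MulEquiv.orderOf_eq, o]
  have hw : (x * s * x⁻¹).1 = swap p u * swap q r := by
    change swap q r * swap q u * s.1 * (swap q r * swap q u)⁻¹ = _
    rw [hs, conj_dbl]
    simp only [Perm.mul_apply, swap_apply_def]
    grind
  have hc : φ (x * s * x⁻¹) = x * s * x⁻¹ := h h6 _ (Subtype.ext (by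
    rw [Subgroup.coe_mul, Subgroup.coe_mul _ s, hw, hs]
    ext y
    simp only [Perm.mul_apply, swap_apply_def]
    grind))
  rw [map_mul, map_mul, map_inv, h h6 s rfl] at hc
  have hc' : (φ x).1 * s.1 * (φ x).1⁻¹ = swap p u * swap q r := by rw [← hw, ← hc]; rfl
  have all : ∀ y, y = p ∨ y = q ∨ y = r ∨ y = u ∨ y = f ∨ y = g := fun y => by
    by_contra hy
    have : [p, q, r, u, f, g, y].Nodup := by
      simp only [List.nodup_cons, List.mem_cons, List.not_mem_nil, List.nodup_nil]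
      rw [hs] at hf hg
      simp only [Perm.mul_apply, swap_apply_def] at hf hg
      grind
    have := this.length_le_card
    simp at this
    omega
  have K : ∀ y, s.1 y = y → (φ x).1 y = f ∨ (φ x).1 y = g := fun y hy => by
    have e : (swap p u * swap q r) ((φ x).1 y) = (φ x).1 y := by rw [← hc']; simp [hy]
    have := all ((φ x).1 y)
    simp only [Perm.mul_apply, swap_apply_def] at e
    grind
  have hfix : (φ x).1 f = f := by
    rcases K f hf with e | e
    · exact e
    rcases K g hg with e' | e'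
    · have e3 := congrArg (fun z : Perm R => z f) (o1 ▸ pow_orderOf_eq_one (φ x).1)
      simp only [pow_succ, pow_zero, one_mul, Perm.mul_apply, Perm.one_apply, e, e'] at e3
      exact absurd e3.symm hfg
    · exact absurd ((φ x).1.injective (e.trans e'.symm)) hfg
  exact ⟨x, o, alternatingGroup.isThreeCycle_isConj (by simp [h6]) h3
    (threeCycle_of_fix h6 o1 hfix)⟩

/-- The simple group of order 168. -/
theorem l27 {X : Type*} [Group X] {F : Type} [Field F] [Fintype F] (hF : Fintype.card F = 7)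
    (e : X ≃* Matrix.ProjectiveSpecialLinearGroup (Fin 2) F) :
    (∀ s t : X, s * s = 1 → s ≠ 1 → t * t = 1 → t ≠ 1 → IsConj s t) ∧
      ∀ (σ : MulAut X) (z : X), σ * σ = 1 → z * z = 1 → z ≠ 1 → (∀ x, x * z = z * x → σ x = x) →
        ∃ g, ∀ x, σ x = g * x * g⁻¹ := by
  have c3 : Nat.card (Matrix.ProjectiveSpecialLinearGroup (Fin 3) (ZMod 2)) = 168 := by
    simpa [Fin.prod_univ_three] using Agent.S0243.result (F := ZMod 2) (ZMod.card 2) 3 (by decide)
  haveI : IsSimpleGroup (Matrix.ProjectiveSpecialLinearGroup (Fin 3) (ZMod 2)) :=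
    Class.PSL_isSimpleGroup (by simp)
  haveI : Finite (Matrix.ProjectiveSpecialLinearGroup (Fin 3) (ZMod 2)) :=
    Nat.finite_of_card_ne_zero (by rw [c3]; decide)
  obtain ⟨e1⟩ := Agent.S0495.result c3 hF
  let e2 := e.trans e1.symm
  haveI : Finite X := Finite.of_equiv _ e2.symm.toEquiv
  haveI : IsSimpleGroup X := e2.isSimpleGroup
  have cX : Nat.card X = 168 := (Nat.card_congr e2.toEquiv).trans c3
  haveI : Fact (Nat.Prime 2) := ⟨Nat.prime_two⟩
  have o2 : ∀ s : X, s * s = 1 → s ≠ 1 → orderOf s = 2 := fun s h1 h2 =>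
    orderOf_eq_prime (by rw [sq, h1]) h2
  have cj := (Agent.S1005.result cX).2.2
  refine ⟨fun s t a b c d => cj s t (o2 s a b) (o2 t c d), fun σ z s2 z2 z1 h => ?_⟩
  by_cases s1 : σ = 1
  · exact ⟨1, fun x => by simp [s1]⟩
  obtain ⟨T⟩ : Nonempty (Sylow 2 X) := inferInstance
  obtain ⟨d⟩ := (Agent.S1004.result cX T).1
  have w2 : (d.symm (.r 2)) * d.symm (.r 2) = 1 := by
    rw [← map_mul, map_eq_one_iff _ d.symm.injective]; decide
  have w1 : d.symm (.r 2) ≠ 1 := by rw [Ne, map_eq_one_iff _ d.symm.injective]; decide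
  have wc : ∀ t : T, t * d.symm (.r 2) = d.symm (.r 2) * t := fun t => d.injective (by
    rw [map_mul, map_mul, MulEquiv.apply_symm_apply]
    generalize d t = y
    revert y; decide)
  obtain ⟨g, hg⟩ := isConj_iff.1 (cj _ z (o2 (d.symm (.r 2)).1 (congrArg Subtype.val w2)
    fun e => w1 (Subtype.ext e)) (o2 z z2 z1))
  rcases Chev.mem_inn_of_fix_sylow (X := X) (.inl (.inl ⟨ZMod 2, inferInstance, inferInstance,
    inferInstance, 3, by decide, by decide, ⟨e2⟩⟩)) (orderOf_eq_prime (by rw [sq, s2]) s1) (g • T)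
    (fun s hs => h s (by
      have hs' : g⁻¹ * s * g ∈ (T : Subgroup X) := by
        simpa [Sylow.coe_subgroup_smul, Subgroup.mem_pointwise_smul_iff_inv_smul_mem] using hs
      have : g⁻¹ * s * g * (d.symm (.r 2)).1 = (d.symm (.r 2)).1 * (g⁻¹ * s * g) :=
        congrArg Subtype.val (wc ⟨_, hs'⟩)
      rw [← hg]
      calc _ = g * (g⁻¹ * s * g * (d.symm (.r 2)).1) * g⁻¹ := by group
        _ = _ := by rw [this]; group)) with ⟨k, hk⟩ | ⟨⟨e6⟩⟩
  · exact ⟨k, fun x => by rw [← hk]; rfl⟩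
  · have h2 := two_mul_nat_card_alternatingGroup (α := Fin 6)
    rw [← Nat.card_congr e6.toEquiv, cX, Nat.card_perm] at h2
    simp [Nat.factorial] at h2

end Cfsg.Lib.AltC.Spl
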