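import Cfsg.Agent.AltC.BaseSm
import Cfsg.Agent.AltC.Build
import Cfsg.Agent.AltC.Zm
import Cfsg.Agent.AltC.Iso
import Cfsg.Agent.AltC.SplA
import Cfsg.Prelude.Def_CaseTheorems

/-! The base of the induction and the statements that follow from the main theorem. -/

set_option autoImplicit false
set_option linter.unusedSectionVars false

namespace Cfsg.Lib.AltZ

open Equiv Equiv.Perm
open Cfsg.Lib.AltC (N4 Off sq_ap cm_ap sign_cases InV Ch)

universe u

section Chart

variable {Ω : Type*} [DecidableEq Ω] [Fintype Ω] {G : Type*} [Group G] {z : G} {ζ : Perm Ω}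
  {ι : Perm Ω → G} {p q : Ω}

theorem four_cases (h2 : ζ * ζ = 1) (he : sign ζ = 1) (hd : Df ζ p q)
    (hf : ∀ x, Off p (ζ p) q (ζ q) x → ζ x = x) {w : Perm Ω} (hw : w ∈ HU ζ)
    (h : ∀ x, ζ x = x → w x = x) : w = 1 ∨ w = ζ ∨ w = sw ζ p q ∨ w = ζ * sw ζ p q := by
  have s := sq_ap h2
  have hζ : ζ ∈ HU ζ := ⟨he, rfl⟩
  have hv := sw_mem h2 hd
  have fv : ∀ x, ζ x = x → sw ζ p q x = x := fun x hx =>
    sw_off (by grind) (by grind) (by grind) (by grind)
  have off : ∀ {w : Perm Ω}, w ∈ HU ζ → ∀ x, ζ x ≠ x → ¬ Off p (ζ p) q (ζ q) (w x) :=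
    fun hw x hx e => hx ((fix_iff hw.2 x).1 (hf _ e))
  have K : ∀ {w : Perm Ω}, w ∈ HU ζ → (∀ x, ζ x = x → w x = x) → w p = p → w = 1 := by
    intro w hw h e
    have a1 := cm_ap hw.2 p
    have a2 := cm_ap hw.2 q
    have a3 := off hw q (by grind)
    have a4 : w q ≠ w p := w.injective.ne (by grind)
    have a5 : w q ≠ w (ζ p) := w.injective.ne (by grind)
    by_cases e' : w q = q
    · ext x
      by_cases hx : Off p (ζ p) q (ζ q) x
      · exact h x (hf x hx)
      · simp only [one_apply]; clear off hf h; grind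
    · have : w = tr ζ q := by
        ext x
        by_cases hx : Off p (ζ p) q (ζ q) x
        · rw [h x (hf x hx), tr_apply]; clear off hf h; grind
        · rw [tr_apply]; clear off hf h; grind
      have e2 := hw.1
      rw [this, sign_tr (by grind)] at e2
      exact absurd e2 (by decide)
  have a := off hw p (by grind)
  have b : w p = p ∨ w p = ζ p ∨ w p = q ∨ w p = ζ q := by clear K off hf; grind
  rcases b with b | b | b | b
  · exact .inl (K hw h b)
  · have := K (mul_mem hζ hw) (fun x hx => by rw [mul_apply, h x hx, hx]) (by rw [mul_apply, b, s])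
    exact .inr (.inl (by rw [eq_inv_of_mul_eq_one_right this, inv_eq_of_mul_eq_one_right h2]))
  · have := K (mul_mem hv hw) (fun x hx => by rw [mul_apply, h x hx, fv x hx])
      (by rw [mul_apply, b, sw_right hd])
    exact .inr (.inr (.inl (by rw [eq_inv_of_mul_eq_one_right this, sw_inv hd])))
  · have := K (mul_mem (mul_mem hv hζ) hw)
      (fun x hx => by rw [mul_apply, mul_apply, h x hx, hx, fv x hx])
      (by rw [mul_apply, mul_apply, b, s, sw_right hd])
    refine .inr (.inr (.inr ?_))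
    rw [eq_inv_of_mul_eq_one_right this, mul_inv_rev, inv_eq_of_mul_eq_one_right h2, sw_inv hd]

/-- The chart of a double transposition. -/
theorem ZC.ch (h : ZC z ζ ι) (h2 : ζ * ζ = 1) (he : sign ζ = 1) (hd : Df ζ p q)
    (hf : ∀ x, Off p (ζ p) q (ζ q) x → ζ x = x) :
    ∃ ψ : Perm {x // ζ x = x} →* G, Ch z (ι (sw ζ p q)) ψ := by
  have s := sq_ap h2
  have hζ : ζ ∈ HU ζ := ⟨he, rfl⟩
  have hv := sw_mem h2 hd
  have hp : ζ p ≠ p := by grind
  have fx : ∀ (y : Perm {x // ζ x = x}) x, ζ x ≠ x → ofSubtype y x = x := fun y x hx =>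
    ofSubtype_apply_of_not_mem y hx
  have cζ : ∀ y : Perm {x // ζ x = x}, ofSubtype y * ζ = ζ * ofSubtype y := fun y => by
    ext x
    by_cases hx : ζ x = x
    · rw [mul_apply, mul_apply, hx, ofSubtype_apply_of_mem y hx, (y ⟨x, hx⟩).2]
    · rw [mul_apply, mul_apply, fx y x hx, fx y _ (by grind)]
  have ct : ∀ y : Perm {x // ζ x = x}, ofSubtype y * tr ζ p = tr ζ p * ofSubtype y := fun y => by
    rw [← mul_inv_eq_iff_eq_mul, conj_tr (cζ y), fx y p hp]
  have cv : ∀ y : Perm {x // ζ x = x}, ofSubtype y * sw ζ p q = sw ζ p q * ofSubtype y :=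
    fun y => by rw [← mul_inv_eq_iff_eq_mul, conj_sw (cζ y), fx y p hp, fx y q (by grind)]
  let φ : Perm {x // ζ x = x} → Perm Ω := fun y =>
    if sign y = 1 then ofSubtype y else tr ζ p * ofSubtype y
  have φe : ∀ y, sign y = 1 → φ y = ofSubtype y := fun y hy => if_pos hy
  have φo : ∀ y, sign y = -1 → φ y = tr ζ p * ofSubtype y := fun y hy =>
    if_neg (by rw [hy]; decide)
  have φm : ∀ y, φ y ∈ HU ζ := fun y => by
    rcases sign_cases y with e | e
    · rw [φe y e]; exact ⟨by rw [sign_ofSubtype, e], cζ y⟩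
    · rw [φo y e]
      exact ⟨by rw [map_mul, sign_ofSubtype, e, sign_tr hp]; decide,
        by rw [mul_assoc, cζ, ← mul_assoc, tr_comm h2, mul_assoc]⟩
  have φmul : ∀ x y, φ (x * y) = φ x * φ y := fun x y => by
    rcases sign_cases x with a | a <;> rcases sign_cases y with b | b
    · rw [φe x a, φe y b, φe _ (by simp [a, b]), map_mul]
    · rw [φe x a, φo y b, φo _ (by simp [a, b]), map_mul, ← mul_assoc, ← mul_assoc, ct]
    · rw [φo x a, φe y b, φo _ (by simp [a, b]), map_mul, mul_assoc]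
    · rw [φo x a, φo y b, φe _ (by simp [a, b]), map_mul, mul_assoc, ← mul_assoc (ofSubtype x),
        ct, ← mul_assoc, ← mul_assoc, tr_sq, one_mul]
  have φa : ∀ y (x : {x // ζ x = x}), φ y x = y x := fun y x => by
    rcases sign_cases y with e | e
    · rw [φe y e, ofSubtype_apply_coe]
    · have := (y x).2
      rw [φo y e, mul_apply, ofSubtype_apply_coe, tr_apply]; grind
  have eζ : ζ = tr ζ p * tr ζ q := by
    ext x
    by_cases hx : Off p (ζ p) q (ζ q) x
    · rw [hf x hx, mul_apply, tr_apply, tr_apply]; clear hf; grind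
    · rw [mul_apply, tr_apply, tr_apply]; clear hf; grind
  have inv : ∀ {x}, InV z (ι (sw ζ p q)) x ↔
      ∃ w, (w = 1 ∨ w = ζ ∨ w = sw ζ p q ∨ w = ζ * sw ζ p q) ∧ x = ι w := by
    intro x
    simp only [InV, or_and_right, exists_or, exists_eq_left, h.one, h.ιζ, h.mul hζ hv]
  refine ⟨MonoidHom.mk' (fun y => ι (φ y)) fun x y => by rw [φmul, h.mul (φm x) (φm y)],
    h.z2 he h2, fun e => ?_, by rw [← h.mul hv hv, sw_sq hd, h.one], (h.comm he hv).symm,
    fun e => ?_, fun e => ?_, fun y => h.comm he (φm y), fun y hy => ?_, fun y hy => ?_,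
    fun c hc => ?_, fun x y hx e => ?_⟩
  · exact hp (by rw [h.inj hζ (h.ιζ.trans e), one_apply])
  · have := sw_left hd
    rw [h.inj hv e, one_apply] at this; grind
  · have := sw_left hd
    rw [h.eq hv hζ (e.trans h.ιζ.symm)] at this; grind
  · exact (h.comm_iff (φm y) hv).2 (by rw [φe y hy, cv])
  · change ι (φ y) * _ = _ * ι (φ y)
    rw [← h.ιζ, ← h.mul hζ hv, ← h.mul (φm y) hv, ← h.mul (mul_mem hζ hv) (φm y), φo y hy,
      mul_assoc, cv, ← mul_assoc, ← mul_assoc]
    congr 2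
    nth_rw 3 [eζ]
    clear hf fx cζ ct cv φe φo φm φmul φa eζ inv
    ext x
    simp only [mul_apply, tr, sw]
    grind
  · obtain ⟨x, hx, rfl⟩ := h.surj c hc
    let y : Perm {x // ζ x = x} := x.subtypePerm (fix_iff hx.2)
    have hw := mul_mem hx (inv_mem (φm y))
    refine ⟨_, y, inv.2 ⟨_, four_cases h2 he hd hf hw fun i hi => ?_, rfl⟩, ?_⟩
    · have e : y (y⁻¹ ⟨i, hi⟩) = ⟨i, hi⟩ := by simp
      have := φa y (y⁻¹ ⟨i, hi⟩)
      rw [e] at this
      rw [mul_apply, inv_eq_iff_eq.2 this.symm]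
      exact congrArg Subtype.val e
    · change _ = _ * ι (φ y)
      rw [← h.mul hw (φm y), inv_mul_cancel_right]
  · obtain ⟨w, hw, rfl⟩ := inv.1 hx
    have fv : ∀ x, ζ x = x → sw ζ p q x = x := fun x hx =>
      sw_off (by grind) (by grind) (by grind) (by grind)
    have w1 : w ∈ HU ζ ∧ ∀ x, ζ x = x → w x = x := by
      rcases hw with rfl | rfl | rfl | rfl
      exacts [⟨one_mem _, fun _ _ => rfl⟩, ⟨hζ, fun _ e => e⟩, ⟨hv, fv⟩,
        ⟨mul_mem hζ hv, fun x hx => by rw [mul_apply, fv x hx, hx]⟩]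
    change _ * ι (φ y) = 1 at e
    rw [← h.mul w1.1 (φm y)] at e
    ext x
    have := congrArg (· x.1) (h.inj (mul_mem w1.1 (φm y)) e)
    simp only [mul_apply, one_apply] at this ⊢
    rwa [φa, w1.2 _ (y x).2] at this

/-- A central involution of the centraliser is `ζ`. -/
theorem eq_of_central (hR : AltC.Sz Ω) (h2 : ζ * ζ = 1) (he : sign ζ = 1) {w : Perm Ω}
    (hw : w ∈ HU ζ) (w1 : w ≠ 1) (h : ∀ x ∈ HU ζ, w * x = x * w) (h1 : ζ ≠ 1) : w = ζ := by
  have s := sq_ap h2
  obtain ⟨α, β, hn, hα, hβ⟩ := AltC.fix_two hR h2 he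
  obtain ⟨p, hp⟩ := AltC.ne_one_ap h1
  have K : ∀ {w : Perm Ω}, w ∈ HU ζ → (∀ x ∈ HU ζ, w * x = x * w) → w p = p → w = 1 := by
    intro w hw h e
    have a1 : ∀ x, ζ x ≠ x → w x = x := fun x hx => by
      by_cases b1 : x = p
      · rw [b1, e]
      by_cases b2 : x = ζ p
      · rw [b2, cm_ap hw.2, e]
      have hd := df_of h2 hp hx b1 b2
      have := cm_ap (h _ (sw_mem h2 hd)) p
      rwa [e, sw_left hd] at this
    have a2 : ∀ α β, ζ α = α → ζ β = β → α ≠ β → w α = α ∨ w α = β := fun α β hα hβ hn => by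
      have b1 := cm_ap (h _ (tr_swap_mem h2 hp hα hβ hn)) α
      have b2 := (fix_iff hw.2 α).2 hα
      have b3 : w α ≠ w β := w.injective.ne hn
      simp only [mul_apply, tr] at b1
      grind
    by_contra w1
    obtain ⟨x, hx⟩ := AltC.ne_one_ap w1
    have b1 : ζ x = x := by_contra fun e => hx (a1 x e)
    have b2 := (fix_iff hw.2 x).2 b1
    have : w = swap x (w x) := by
      ext i
      by_cases hi : ζ i = i
      · have := a2 x i b1 hi
        have := a2 (w x) x b2 b1 hx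
        have : w (w x) ≠ w x := w.injective.ne hx
        grind
      · have := a1 i hi
        grind
    have e2 := hw.1
    rw [this, sign_swap (Ne.symm hx)] at e2
    exact absurd e2 (by decide)
  have b1 := cm_ap (h _ (tr_swap_mem h2 hp hα hβ hn)) p
  have b2 := (fix_iff hw.2 p).not.2 hp
  have b3 : w p ≠ w (ζ p) := w.injective.ne hp.symm
  have b4 : w p = p ∨ w p = ζ p := by
    simp only [mul_apply, tr] at b1
    clear K
    grind
  rcases b4 with e | e
  · exact absurd (K hw h e) w1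
  · have := K (mul_mem (⟨he, rfl⟩ : ζ ∈ HU ζ) hw)
      (fun x hx => by rw [mul_assoc, h x hx, ← mul_assoc, ← hx.2, mul_assoc])
      (by rw [mul_apply, e, s])
    rw [eq_inv_of_mul_eq_one_right this, inv_eq_of_mul_eq_one_right h2]

end Chart

theorem ZC.base {G : Type u} [Group G] [Finite G] {Ω : Type} [Fintype Ω] [DecidableEq Ω] {z : G}
    {ζ : Perm Ω} {ι : Perm Ω → G} (h2 : ζ * ζ = 1) (he : sign ζ = 1) (h4 : ζ.support.card = 4)
    (hm : Fintype.card Ω % 4 = 2 ∨ Fintype.card Ω % 4 = 3) (h : ZC z ζ ι)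
    (hG : ∀ K : Subgroup G, K.index ≠ 2) : Nonempty (G ≃* alternatingGroup Ω) ∨
      (Fintype.card Ω = 6 ∧ ∃ (F : Type) (_ : Field F) (_ : Fintype F), Fintype.card F = 7 ∧
        Nonempty (G ≃* Matrix.ProjectiveSpecialLinearGroup (Fin 2) F)) := by
  obtain ⟨p, q, hd⟩ := AltC.exists_n4 h2 he (by rintro rfl; simp at h4)
  have hf : ∀ x, Off p (ζ p) q (ζ q) x → ζ x = x := fun x hx => by
    by_contra e
    have s := sq_ap h2
    have h5 : ({x, p, ζ p, q, ζ q} : Finset Ω) ⊆ ζ.support := fun i hi => by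
      simp only [Finset.mem_insert, Finset.mem_singleton] at hi
      rw [mem_support]; grind
    have h6 := Finset.card_le_card h5
    rw [Finset.card_insert_of_notMem (by simp; grind), Finset.card_insert_of_notMem (by simp; grind),
      Finset.card_insert_of_notMem (by simp; grind), Finset.card_pair (by grind)] at h6
    omega
  obtain ⟨ψ, hc⟩ := h.ch h2 he hd hf
  have hR : Fintype.card {x // ζ x = x} + 4 = Fintype.card Ω := by
    rw [← card_fix_add ζ, h4, Fintype.card_subtype, add_comm]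
  have tr : ∀ {Ω' : Type} [Fintype Ω'] [DecidableEq Ω'], Fintype.card Ω' = Fintype.card Ω →
      Nonempty (G ≃* alternatingGroup Ω') → Nonempty (G ≃* alternatingGroup Ω) :=
    fun e ⟨f⟩ => ⟨f.trans (Fintype.equivOfCardEq e).altCongrHom⟩
  by_cases c6 : Fintype.card Ω = 6
  · exact ((hc.congr (Fintype.equivFinOfCardEq (n := 2) (by omega)).symm).six hG).imp
      (tr (by simp [c6])) fun e => ⟨c6, e⟩
  by_cases c7 : Fintype.card Ω = 7
  · exact .inl (tr (by simp [c7])
      ((hc.congr (Fintype.equivFinOfCardEq (n := 3) (by omega)).symm).seven hG))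
  obtain ⟨ψ', h'⟩ := hc.exists_good hG (by omega) (by omega)
  exact .inl (tr (by simpa using hR) (h'.iso (by omega)))

theorem exists_zc {G : Type*} [Group G] {m : ℕ} (h6 : 6 ≤ m) (hm : m % 4 = 2 ∨ m % 4 = 3)
    (zt : alternatingGroup (Fin m)) (hzt : orderOf zt = 2) {z : G} (hz : orderOf z = 2)
    (e : Subgroup.centralizer ({z} : Set G) ≃*
      Subgroup.centralizer ({zt} : Set (alternatingGroup (Fin m)))) : ∃ ι, ZC z zt.1 ι := by
  classical
  have he : sign zt.1 = 1 := mem_alternatingGroup.1 zt.2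
  let k : ∀ x ∈ HU zt.1, Subgroup.centralizer ({zt} : Set (alternatingGroup (Fin m))) :=
    fun x hx => ⟨⟨x, mem_alternatingGroup.2 hx.1⟩,
      Subgroup.mem_centralizer_singleton_iff.2 (Subtype.ext hx.2)⟩
  have mem : ∀ c : Subgroup.centralizer ({zt} : Set (alternatingGroup (Fin m))), c.1.1 ∈ HU zt.1 :=
    fun c => ⟨mem_alternatingGroup.1 c.1.2,
      congrArg Subtype.val (Subgroup.mem_centralizer_singleton_iff.1 c.2)⟩
  let z0 : Subgroup.centralizer ({z} : Set G) := ⟨z, Subgroup.mem_centralizer_singleton_iff.2 rfl⟩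
  have ez : (e z0).1.1 = zt.1 := by
    refine eq_of_central ⟨by simpa using h6, by simpa using hm⟩
      (congrArg Subtype.val (Local.mul_self_of_orderOf_two hzt)) he (mem _) (fun e1 => ?_)
      (fun x hx => ?_) fun e1 => Local.ne_one_of_orderOf_two hzt (Subtype.ext e1)
    · exact Local.ne_one_of_orderOf_two hz
        (congrArg Subtype.val (e.map_eq_one_iff.1 (Subtype.ext (Subtype.ext e1))))
    · have : z0 * e.symm (k x hx) = e.symm (k x hx) * z0 :=
        Subtype.ext (Subgroup.mem_centralizer_singleton_iff.1 (e.symm (k x hx)).2).symm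
      have := congrArg (fun u => (e u).1.1) this
      simpa [k] using this
  refine ⟨fun x => if hx : x ∈ HU zt.1 then (e.symm (k x hx) : G) else 1, fun {x y} hx hy => ?_,
    fun {x} hx h => ?_, ?_, fun c hc => ?_⟩
  · rw [dif_pos hx, dif_pos hy, dif_pos (mul_mem hx hy), ← Subgroup.coe_mul, ← map_mul]; rfl
  · rw [dif_pos hx] at h
    exact congrArg (fun u => u.1.1) (e.symm.map_eq_one_iff.1 (Subtype.ext h))
  · rw [dif_pos ⟨he, rfl⟩, show k _ ⟨he, rfl⟩ = e z0 from Subtype.ext (Subtype.ext ez.symm),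
      e.symm_apply_apply]
  · let c0 : Subgroup.centralizer ({z} : Set G) := ⟨c, Subgroup.mem_centralizer_singleton_iff.2 hc⟩
    refine ⟨_, mem (e c0), ?_⟩
    rw [dif_pos (mem _), show k _ (mem (e c0)) = e c0 from rfl, e.symm_apply_apply]

/-- The characterisation of alternating groups by the centraliser of an arbitrary involution. -/
def MainAlt : Prop :=
  ∀ {G : Type u} [Group G] [Finite G] {Ω : Type} [Fintype Ω] [DecidableEq Ω] (z : G) (ζ : Perm Ω)
    (ι : Perm Ω → G), ζ * ζ = 1 → sign ζ = 1 → ζ ≠ 1 →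
    (Fintype.card Ω % 4 = 2 ∨ Fintype.card Ω % 4 = 3) → ZC z ζ ι →
    (∀ K : Subgroup G, K.index ≠ 2) → Nonempty (G ≃* alternatingGroup Ω) ∨
      (Fintype.card Ω = 6 ∧ ∃ (F : Type) (_ : Field F) (_ : Fintype F), Fintype.card F = 7 ∧
        Nonempty (G ≃* Matrix.ProjectiveSpecialLinearGroup (Fin 2) F))

theorem MainAlt.of_equiv (H : MainAlt.{u}) {G : Type u} [Group G] [Finite G]
    (hG : ∀ K : Subgroup G, K.index ≠ 2) {m : ℕ} (h6 : 6 ≤ m) (hm : m % 4 = 2 ∨ m % 4 = 3)
    (zt : alternatingGroup (Fin m)) (hzt : orderOf zt = 2) {z : G} (hz : orderOf z = 2)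
    (e : Subgroup.centralizer ({z} : Set G) ≃*
      Subgroup.centralizer ({zt} : Set (alternatingGroup (Fin m)))) :
    Nonempty (G ≃* alternatingGroup (Fin m)) ∨
      (m = 6 ∧ ∃ (F : Type) (_ : Field F) (_ : Fintype F), Fintype.card F = 7 ∧
        Nonempty (G ≃* Matrix.ProjectiveSpecialLinearGroup (Fin 2) F)) := by
  obtain ⟨ι, h⟩ := exists_zc h6 hm zt hzt hz e
  simpa using H z zt.1 ι (congrArg Subtype.val (Local.mul_self_of_orderOf_two hzt))
    (mem_alternatingGroup.1 zt.2) (fun e1 => Local.ne_one_of_orderOf_two hzt (Subtype.ext e1))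
    (by simpa using hm) h hG

theorem s3218 (H : MainAlt.{u}) {G : Type u} [Group G] [Finite G]
    (hG : ∀ H : Subgroup G, H.index ≠ 2) (m : ℕ) (hm : 7 ≤ m) (hmod : m % 4 = 2 ∨ m % 4 = 3)
    (zt : ↥(alternatingGroup (Fin m))) (hzt : orderOf zt = 2) (z : G) (hz : orderOf z = 2)
    (e : ↥(Subgroup.centralizer ({z} : Set G)) ≃*
      ↥(Subgroup.centralizer ({zt} : Set ↥(alternatingGroup (Fin m))))) :
    Nonempty (G ≃* ↥(alternatingGroup (Fin m))) :=
  (H.of_equiv hG (by omega) hmod zt hzt hz e).resolve_right fun h => by omega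

theorem card_classes {G : Type*} [Group G] {n : ℕ} (f : G → ℕ)
    (hf : ∀ x y, orderOf x = 2 → orderOf y = 2 → (IsConj x y ↔ f x = f y))
    (h1 : ∀ x, orderOf x = 2 → f x < n) (h2 : ∀ k < n, ∃ x, orderOf x = 2 ∧ f x = k) :
    Nat.card {c : ConjClasses G // ∃ x ∈ c.carrier, orderOf x = 2} = n := by
  choose g g1 g2 using h2
  rw [← Nat.card_fin n]
  refine (Nat.card_eq_of_bijective (fun k : Fin n => (⟨ConjClasses.mk (g k k.2), _,
    ConjClasses.mem_carrier_mk, g1 k k.2⟩ :
      {c : ConjClasses G // ∃ x ∈ c.carrier, orderOf x = 2})) ⟨fun k l e => ?_, ?_⟩).symm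
  · have := (hf _ _ (g1 k k.2) (g1 l l.2)).1
      (ConjClasses.mk_eq_mk_iff_isConj.1 (congrArg Subtype.val e))
    rw [g2, g2] at this
    exact Fin.ext this
  · rintro ⟨c, x, hx, ho⟩
    refine ⟨⟨f x, h1 x ho⟩, Subtype.ext ?_⟩
    exact (ConjClasses.mk_eq_mk_iff_isConj.2 ((hf _ _ (g1 _ _) ho).2 (g2 _ _))).trans
      (ConjClasses.mem_carrier_iff_mk_eq.1 hx)

theorem card_classes_alt {G : Type*} [Group G] {n r : ℕ} (hr : r < 4)
    (e : G ≃* alternatingGroup (Fin (4 * n + r))) :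
    Nat.card {c : ConjClasses G // ∃ x ∈ c.carrier, orderOf x = 2} = n := by
  have sq : ∀ x, orderOf x = 2 → (e x).1 * (e x).1 = 1 := fun x hx => by
    rw [← Subgroup.coe_mul, ← map_mul, Local.mul_self_of_orderOf_two hx, map_one]; rfl
  have ne : ∀ x, orderOf x = 2 → (e x).1 ≠ 1 := fun x hx h =>
    Local.ne_one_of_orderOf_two hx (e.map_eq_one_iff.1 (Subtype.ext h))
  have c4 : ∀ x, orderOf x = 2 → (e x).1.support.card % 4 = 0 ∧ (e x).1.support.card ≠ 0 :=
    fun x hx => ⟨((sign_invol (sq x hx)).resolve_right fun h => by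
      rw [mem_alternatingGroup.1 (e x).2] at h; exact absurd h.1 (by decide)).2,
      fun h => ne x hx (card_support_eq_zero.1 h)⟩
  refine card_classes (fun x => (e x).1.support.card / 4 - 1)
    (fun x y hx hy => ⟨fun h => ?_, fun h => ?_⟩) (fun x hx => ?_) fun k hk => ?_
  · obtain ⟨g, rfl⟩ := isConj_iff.1 h
    simp only [map_mul, map_inv, Subgroup.coe_mul, Subgroup.coe_inv, card_support_conj]
  · have h1 := c4 x hx
    have h2 := c4 y hy
    obtain ⟨g, hg⟩ := isConj_iff.1 (AltC.isConj_of_card (sq x hx) (sq y hy) (by omega))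
    have K : ∀ g : Perm (Fin (4 * n + r)), sign g = 1 → g * (e x).1 * g⁻¹ = (e y).1 →
        IsConj x y := fun g h1 h2 => isConj_iff.2 ⟨e.symm ⟨g, mem_alternatingGroup.2 h1⟩,
      e.injective (Subtype.ext (by simpa using h2))⟩
    rcases sign_cases g with a | a
    · exact K g a hg
    · obtain ⟨p, hp⟩ := AltC.ne_one_ap (ne x hx)
      refine K (g * tr (e x).1 p) (by simp [a, sign_tr hp]) ?_
      rw [mul_assoc g, tr_comm (sq x hx), ← hg]; group
  · have h1 := c4 x hx
    have h2 := (e x).1.support.card_le_univ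
    rw [Fintype.card_fin] at h2
    omega
  · obtain ⟨g, hg⟩ := (exists_with_cycleType_iff (Fin (4 * n + r))
      (m := Multiset.replicate (2 * (k + 1)) 2)).2
      ⟨by simp; omega, fun a ha => (Multiset.eq_of_mem_replicate ha).ge⟩
    have h1 : orderOf g = 2 := by
      refine orderOf_eq_prime (orderOf_dvd_iff_pow_eq_one.1 ?_) fun e => ?_
      · rw [← lcm_cycleType, hg]
        exact Multiset.lcm_dvd.2 fun b hb => (Multiset.eq_of_mem_replicate hb).dvd
      · rw [e, cycleType_one] at hg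
        simpa using congrArg Multiset.card hg
    have h2 : g.support.card = 4 * (k + 1) := by
      rw [← sum_cycleType, hg]; simp; omega
    have h3 : sign g = 1 := ((sign_invol (Local.mul_self_of_orderOf_two h1)).resolve_right
      fun h => by omega).1
    refine ⟨e.symm ⟨g, mem_alternatingGroup.2 h3⟩, ?_, ?_⟩
    · rw [MulEquiv.orderOf_eq, ← Subgroup.orderOf_coe, h1]
    · simp only [MulEquiv.apply_symm_apply, h2]; omega

theorem s3191 (H : MainAlt.{u}) (n r : ℕ) (hn : 1 ≤ n) (hr : r = 2 ∨ r = 3)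
    (α : ↥(alternatingGroup (Fin (4 * n + r)))) (hα : orderOf α = 2)
    (_hα4 : (α : Equiv.Perm (Fin (4 * n + r))).support.card = 4 * n)
    {G : Type u} [Group G] [Finite G] (h2 : ∀ H : Subgroup G, H.Normal → H.index ≠ 2)
    (t : G) (ht : orderOf t = 2) (S : Sylow 2 G) (_htS : t ∈ (S : Subgroup G))
    (_htZ : ∀ s ∈ (S : Subgroup G), s * t = t * s)
    (hiso : Nonempty (↥(Subgroup.centralizer ({t} : Set G)) ≃*
      ↥(Subgroup.centralizer ({α} : Set ↥(alternatingGroup (Fin (4 * n + r))))))) :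
    Nat.card {c : ConjClasses G // ∃ x ∈ c.carrier, orderOf x = 2} = n := by
  obtain ⟨e⟩ := hiso
  rcases H.of_equiv (fun K hK => h2 K (Subgroup.normal_of_index_eq_two hK) hK) (by omega)
    (by omega) α hα ht e with ⟨⟨e'⟩⟩ | ⟨h6, F, _, _, h7, ⟨e'⟩⟩
  · exact card_classes_alt (by omega) e'
  · refine card_classes (fun _ => 0) (fun x y hx hy => iff_of_true ?_ rfl) (fun _ _ => hn)
      fun k hk => ⟨t, ht, by omega⟩
    exact (AltC.Spl.l27 h7 e').1 x y (Local.mul_self_of_orderOf_two hx)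
      (Local.ne_one_of_orderOf_two hx) (Local.mul_self_of_orderOf_two hy)
      (Local.ne_one_of_orderOf_two hy)

end Cfsg.Lib.AltZ
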