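import Cfsg.Agent.AltC.Pp1

/-! Matching of blocks under an isomorphism of centralisers of four-groups. -/

set_option autoImplicit false
set_option linter.unusedSectionVars false

namespace Cfsg.Lib.AltZ

open Equiv Equiv.Perm
open scoped commutatorElement
open Cfsg.Lib.AltC (N4 Sz sq_ap cm_ap sign_cases)

variable {Ω : Type*} [DecidableEq Ω] [Fintype Ω] {ζ w w' μ ν μ' ν' x x' y : Perm Ω}
  {r : Perm Ω → Perm Ω → Prop}

theorem restr_eq_one {S : Ω → Prop} (h : ∀ p, S p → x p = p) : restr S x = 1 :=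
  restr_eq (fun p hp => (h p hp).symm) fun _ _ => rfl

theorem restr_congr {S : Ω → Prop} (hy : ∀ p, S (y p) ↔ S p) (h : ∀ p, S p → x p = y p) :
    restr S x = restr S y :=
  restr_eq (fun p hp => by rw [restr_pos hy hp, h p hp]) fun _ hp => restr_neg y hp

/-- Permutations fixing a set pointwise. -/
def fixS (S : Ω → Prop) : Subgroup (Perm Ω) where
  carrier := {x | ∀ p, S p → x p = p}
  mul_mem' := fun {a b} ha hb p hp => by rw [mul_apply, hb p hp, ha p hp]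
  one_mem' := fun _ _ => rfl
  inv_mem' := fun {a} ha p hp => by rw [Perm.inv_eq_iff_eq, ha p hp]

theorem fixS_conj {S : Ω → Prop} (hy : ∀ p, S (y p) ↔ S p) (hx : x ∈ fixS S) :
    y * x * y⁻¹ ∈ fixS S := fun p hp => by
  obtain ⟨q, rfl⟩ := y.surjective p
  simp [hx q ((hy q).1 hp)]

/-- Points with a regular orbit. -/
def Q4 (ζ w : Perm Ω) (p : Ω) : Prop := ζ p ≠ p ∧ w p ≠ p ∧ w p ≠ ζ p

theorem q4_inv (hx : x ∈ CU ζ w) (p : Ω) : Q4 ζ w (x p) ↔ Q4 ζ w p := by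
  simp only [Q4, ← cm_ap hx.1.2, ← cm_ap hx.2.2, ne_eq, x.injective.eq_iff]

/-- Another pair of generators of the four-group. -/
structure Sb (ζ w μ ν : Perm Ω) : Prop where
  u : U2 μ ν
  c : CU μ ν = CU ζ w
  ph : Ph μ ν = Ph ζ w

theorem U2.bJ (h : U2 ζ w) : Sb ζ w ζ (ζ * w) :=
  ⟨h.mul, CU_mul _ _, by
    funext p; have := sq_ap h.μ2 (w p); simp only [Ph, mul_apply]; grind⟩

theorem U2.bF (h : U2 ζ w) : Sb ζ w ζ w := ⟨h, rfl, rfl⟩

theorem U2.bI (h : U2 ζ w) : Sb ζ w w ζ := ⟨h.symm, CU_symm _ _, by funext p; simp [Ph, and_comm]⟩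

theorem U2.bkJ (h : U2 ζ w) {p : Ω} : Bk ζ (ζ * w) p ↔ ζ p ≠ p ∧ w p = ζ p := by
  have := sq_ap h.μ2 (w p); have := sq_ap h.μ2 p; simp only [Bk, mul_apply]; grind

theorem Sb.ev (b : Sb ζ w μ ν) (h : Ev ζ w) : Ev μ ν := by unfold Ev at *; rwa [b.ph]

theorem Sb.inv (b : Sb ζ w μ ν) (hx : x ∈ CU ζ w) (p : Ω) : Bk μ ν (x p) ↔ Bk μ ν p :=
  bk_inv (b.c ▸ hx) p

theorem U2.cover (h : U2 ζ w) (p : Ω) :
    Bk ζ (ζ * w) p ∨ Bk ζ w p ∨ Bk w ζ p ∨ Ph ζ w p ∨ Q4 ζ w p := by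
  rw [h.bkJ]; simp only [Bk, Ph, Q4]; grind

theorem U2.decomp (h : U2 ζ w) (hx : x ∈ CU ζ w) : x = restr (Bk ζ (ζ * w)) x * restr (Bk ζ w) x *
    restr (Bk w ζ) x * restr (Ph ζ w) x * restr (Q4 ζ w) x := by
  ext p
  have a1 := h.bJ.inv hx
  have a2 := h.bF.inv hx
  have a3 := h.bI.inv hx
  have a4 := ph_inv hx
  have a5 := q4_inv hx
  have b0 := @U2.bkJ _ _ _ _ _ h p
  have b1 := a1 p; have b2 := a2 p; have b3 := a3 p; have b4 := a4 p
  simp only [mul_apply]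
  rcases h.cover p with e | e | e | e | e
  · rw [restr_neg (S := Q4 ζ w), restr_neg (S := Ph ζ w), restr_neg (S := Bk w ζ),
      restr_neg (S := Bk ζ w), restr_pos a1 e] <;> simp only [Bk, Ph, Q4] at * <;> grind
  · rw [restr_neg (S := Q4 ζ w), restr_neg (S := Ph ζ w), restr_neg (S := Bk w ζ),
      restr_pos a2 e, restr_neg] <;> simp only [Bk, Ph, Q4] at * <;> grind
  · rw [restr_neg (S := Q4 ζ w), restr_neg (S := Ph ζ w), restr_pos a3 e,
      restr_neg (S := Bk ζ w), restr_neg] <;> simp only [Bk, Ph, Q4] at * <;> grind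
  · rw [restr_neg (S := Q4 ζ w), restr_pos a4 e, restr_neg (S := Bk w ζ),
      restr_neg (S := Bk ζ w), restr_neg] <;> simp only [Bk, Ph, Q4] at * <;> grind
  · rw [restr_pos a5 e, restr_neg (S := Ph ζ w), restr_neg (S := Bk w ζ),
      restr_neg (S := Bk ζ w), restr_neg] <;> simp only [Bk, Ph, Q4] at * <;> grind

theorem U2.ζ_eq (h : U2 ζ w) :
    ζ = restr (Bk ζ (ζ * w)) ζ * restr (Bk ζ w) ζ * restr (Q4 ζ w) ζ := by
  have := h.decomp h.memμ
  rwa [restr_eq_one (S := Bk w ζ) fun _ a => a.2, restr_eq_one (S := Ph ζ w) fun _ a => a.1,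
    mul_one, mul_one] at this

theorem U2.w_eq (h : U2 ζ w) :
    w = restr (Bk ζ (ζ * w)) ζ * restr (Bk w ζ) w * restr (Q4 ζ w) w := by
  have := h.decomp h.memν
  rwa [restr_eq_one (S := Bk ζ w) fun _ a => a.2, restr_eq_one (S := Ph ζ w) fun _ a => a.2,
    mul_one, mul_one, restr_congr (x := w) (h.bJ.inv h.memμ) fun _ a => (h.bkJ.1 a).2] at this

theorem U2.par (h : U2 ζ w) (h1 : sign (restr (Q4 ζ w) ζ) = 1) (h2 : sign (restr (Q4 ζ w) w) = 1) :
    sign (restr (Bk ζ (ζ * w)) ζ) = sign (restr (Bk w ζ) w) ∧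
      sign (restr (Bk ζ w) ζ) = sign (restr (Bk w ζ) w) := by
  have a := congrArg sign h.ζ_eq
  have b := congrArg sign h.w_eq
  rw [map_mul, map_mul, h1, h.μe] at a
  rw [map_mul, map_mul, h2, h.νe] at b
  revert a b
  rcases sign_cases (restr (Bk ζ (ζ * w)) ζ) with e | e <;>
  rcases sign_cases (restr (Bk ζ w) ζ) with e' | e' <;>
  rcases sign_cases (restr (Bk w ζ) w) with e'' | e'' <;> rw [e, e', e''] <;> decide

theorem J0.nq (h : J0 ζ w) (p : Ω) : ¬ Q4 ζ w p := fun a => by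
  have := h p a.1; simp only [Q4] at a; grind

theorem J0.par (hj : J0 ζ w) (h : U2 ζ w) :
    sign (restr (Bk ζ (ζ * w)) ζ) = sign (restr (Bk w ζ) w) ∧
      sign (restr (Bk ζ w) ζ) = sign (restr (Bk w ζ) w) :=
  h.par (by rw [restr_eq_one fun p a => absurd a (hj.nq p), map_one])
    (by rw [restr_eq_one fun p a => absurd a (hj.nq p), map_one])

theorem U2.card_ph (h : U2 ζ w) (S : Finset Ω) (hS : ∀ p, p ∈ S ↔ Ph ζ w p) :
    S.card + (restr (Bk w ζ) w).support.card = (Finset.univ.filter fun p => ζ p = p).card := by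
  have hi := h.bI.inv h.memν
  have e : ∀ p, p ∈ (restr (Bk w ζ) w).support ↔ Bk w ζ p := fun p => by
    rw [mem_support]
    by_cases hp : Bk w ζ p
    · rw [restr_pos hi hp]; exact ⟨fun _ => hp, fun _ => hp.1⟩
    · rw [restr_neg w hp]; simp [hp]
  rw [← Finset.card_union_of_disjoint (Finset.disjoint_left.2 fun p a b =>
    ((e p).1 b).1 ((hS p).1 a).2)]
  congr 1
  ext p
  simp only [Finset.mem_union, hS, e, Finset.mem_filter, Finset.mem_univ, Ph, Bk]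
  grind

theorem U2.ev (h : U2 ζ w) (he : sign (restr (Bk w ζ) w) = 1) : Ev ζ w := fun S hS => by
  have a := h.card_ph S hS
  have b := card_fix_mod h.μ2 h.μe
  have c := h.sz.2
  rcases sign_invol h.symm.tau_sq with e | e
  · omega
  · rw [he] at e; exact absurd e.1 (by decide)

theorem U2.not_two (h : U2 ζ w) (he : sign (restr (Bk w ζ) w) = -1) {α β : Ω} (hn : α ≠ β)
    (H : ∀ p, Ph ζ w p ↔ p = α ∨ p = β) : False := by
  have a := h.card_ph {α, β} (by simp [H])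
  have b := card_fix_mod h.μ2 h.μe
  have c := h.sz.2
  rw [Finset.card_pair hn] at a
  rcases sign_invol h.symm.tau_sq with e | e
  · rw [he] at e; exact absurd e.1 (by decide)
  · omega

theorem Pr.u2 (hB : Big ζ) (h : Pr ζ w w' r) : U2 ζ w :=
  ⟨hB.sz, hB.sq, h.w2, hB.ev, h.hw.1, h.hw.2⟩

/-- The preimage of a subgroup. -/
def Pr.pull (h : Pr ζ w w' r) (N : Subgroup (Perm Ω)) : Subgroup (Perm Ω) where
  carrier := {x | ∃ x', r x x' ∧ x' ∈ N}
  mul_mem' := fun ⟨_, a, b⟩ ⟨_, c, d⟩ => ⟨_, h.mul a c, mul_mem b d⟩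
  one_mem' := ⟨1, h.one_one, one_mem _⟩
  inv_mem' := fun ⟨_, a, b⟩ => ⟨_, h.inv a, inv_mem b⟩

theorem Pr.of_pull (h : Pr ζ w w' r) {N : Subgroup (Perm Ω)} (hx : x ∈ h.pull N) (hr : r x x') :
    x' ∈ N := by
  obtain ⟨y, a, b⟩ := hx
  rwa [h.uniq' hr a]

theorem Pr.com (h : Pr ζ w w' r) (hr : r x x') (hx : x ∈ ⁅CU ζ w, CU ζ w⁆) :
    x' ∈ ⁅CU ζ w', CU ζ w'⁆ :=
  h.of_pull ((Subgroup.commutator_le.2 fun a ha b hb => by
    obtain ⟨a', e⟩ := h.ex ha
    obtain ⟨b', e'⟩ := h.ex hb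
    exact ⟨_, h.mul (h.cj e e') (h.inv e'),
      Subgroup.commutator_mem_commutator (h.cod e) (h.cod e')⟩) hx) hr

theorem Pr.sq (h : Pr ζ w w' r) (hr : r x x') (hx : x * x = 1) : x' * x' = 1 :=
  (h.eq_iff (h.mul hr hr) h.one_one).1 hx

theorem Pr.cc (h : Pr ζ w w' r) (hr : r x x') (hx : CC (CU ζ w) x) : CC (CU ζ w') x' :=
  ⟨h.cod hr, h.sq hr hx.sq, fun y' hy => by
    obtain ⟨y, e⟩ := h.ex' hy
    exact (h.comm_iff (h.cj e hr) hr).1 (hx.cm y (h.dom e))⟩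

theorem Pr.cent (h : Pr ζ w w' r) (hr : r x x') (hx : ∀ y ∈ CU ζ w, y * x = x * y) :
    ∀ y ∈ CU ζ w', y * x' = x' * y := fun y' hy => by
  obtain ⟨y, e⟩ := h.ex' hy
  exact (h.comm_iff e hr).1 (hx y (h.dom e))

theorem Pr.pull_le (h : Pr ζ w w' r) (N : Subgroup (Perm Ω)) : h.pull N ≤ CU ζ w :=
  fun _ ⟨_, a, _⟩ => h.dom a

theorem Pr.pull_norm (h : Pr ζ w w' r) {S : Ω → Prop} (hS : ∀ x ∈ CU ζ w', ∀ p, S (x p) ↔ S p) :
    ∀ y ∈ CU ζ w, ∀ x ∈ h.pull (fixS S), y * x * y⁻¹ ∈ h.pull (fixS S) :=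
  fun _ hy _ ⟨_, a, b⟩ => by
    obtain ⟨y', e⟩ := h.ex hy
    exact ⟨_, h.cj e a, fixS_conj (hS _ (h.cod e)) b⟩

theorem Cen.comm (hc : Cen μ ν x) (hy : y ∈ CU μ ν) {p : Ω} (hp : Bk μ ν p) :
    y (x p) = x (y p) := by
  have hq := (bk_inv hy p).2 hp
  rcases hc with H | H
  · rw [H p hp, H _ hq]
  · rw [H p hp, H _ hq, cm_ap hy.1.2]

theorem Cen.restr (hc : Cen μ ν x) (h : U2 μ ν) :
    restr (Bk μ ν) x = 1 ∨ restr (Bk μ ν) x = restr (Bk μ ν) μ :=
  hc.imp restr_eq_one (restr_congr (bk_inv h.memμ))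

/-- The image of the centre of an even block is the centre of a block or acts trivially on it. -/
theorem Pr.single0 (h : Pr ζ w w' r) (b : Sb ζ w μ ν) (b' : Sb ζ w' μ' ν') (ev : Ev ζ w')
    (he : sign (restr (Bk μ ν) μ) = 1) (he' : sign (restr (Bk μ' ν') μ') = 1) {t : Perm Ω}
    (hr : r (restr (Bk μ ν) μ) t) : t = restr (Bk μ' ν') μ' ∨ ∀ p, Bk μ' ν' p → t p = p := by
  let N := h.symm.pull (fixS fun p => ¬ Bk μ ν p)
  by_cases H : ∀ x ∈ N, Cen μ' ν' x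
  · refine .inr (h.of_pull (N := fixS (Bk μ' ν')) (b.u.restr_base _ (fun p q hp hq hd => ?_) he) hr)
    obtain ⟨θ, hθ, e⟩ := b.u.tt_eq hp hd
    obtain ⟨θ', a1⟩ := h.ex (b.c ▸ hθ)
    obtain ⟨s', a2⟩ := h.ex (b.c ▸ b.u.sw_mem hp hq hd)
    refine ⟨_, e ▸ h.mul (h.cj a1 a2) (h.inv a2), fun i hi => ?_⟩
    have c1 : θ' ∈ CU μ' ν' := b'.c ▸ h.cod a1
    have c2 : s' ∈ CU μ' ν' := b'.c ▸ h.cod a2
    have c3 : Cen μ' ν' s' := H s' ⟨_, a2, fun i hi => by
      have := b.u.bk_ap hp; have := b.u.bk_ap hq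
      exact sw_off (by grind) (by grind) (by grind) (by grind)⟩
    have := c3.comm c1 ((bk_inv (inv_mem c1) _).2 ((bk_inv (inv_mem c2) i).2 hi))
    simpa using this
  push Not at H
  obtain ⟨x, hx, hc⟩ := H
  obtain ⟨y, a1, a2⟩ := b'.u.restr_base N (fun p q hp hq _ => b'.u.nc (b'.ev ev) N
    (b'.c ▸ h.symm.pull_le _) (b'.c ▸ h.symm.pull_norm fun x hx p => (b.inv hx p).not)
    hx hc hp hq) he'
  have yc : y ∈ CU μ ν := b.c ▸ h.dom a1
  have e : y = restr (Bk μ ν) y := (restr_eq (fun _ _ => rfl) a2).symm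
  rcases (b.u.cen (b.c ▸ h.symm.cent a1 fun k hk => b'.u.tau_comm (b'.c ▸ hk)) yc).restr b.u
    with e1 | e1
  · rw [e, e1] at a1
    refine .inr fun p hp => absurd ?_ hp.1
    rw [← restr_pos (bk_inv b'.u.memμ) hp, h.one' a1, one_apply]
  · rw [e, e1] at a1
    exact .inl (h.uniq' hr a1)

theorem Pr.single (hB : Big ζ) (h : Pr ζ w w' r) (hj : J0 ζ w')
    (ev : sign (restr (Bk w' ζ) w') = 1) (b : Sb ζ w μ ν) (he : sign (restr (Bk μ ν) μ) = 1)
    (h1 : restr (Bk μ ν) μ ≠ 1) {t : Perm Ω} (hr : r (restr (Bk μ ν) μ) t) :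
    t = restr (Bk ζ (ζ * w')) ζ ∨ t = restr (Bk ζ w') ζ ∨ t = restr (Bk w' ζ) w' := by
  have u := h.symm.u2 hB
  have e := u.ev ev
  have pa := hj.par u
  rcases h.single0 b u.bJ e he (pa.1.trans ev) hr with a | a
  · exact .inl a
  rcases h.single0 b u.bF e he (pa.2.trans ev) hr with a' | a'
  · exact .inr (.inl a')
  rcases h.single0 b u.bI e he ev hr with a'' | a''
  · exact .inr (.inr a'')
  refine absurd (h.one ?_) h1
  have hc : CC (CU ζ w') t := h.cc hr (cc_of_cent (h.dom hr) b.u.tau_sq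
    fun k hk => b.u.tau_comm (b.c ▸ hk))
  have hm := h.com hr (b.c ▸ b.u.tau_com he)
  have : t = 1 := by
    ext p
    rcases u.cover p with c | c | c | c | c
    exacts [a p c, a' p c, a'' p c, e.cc hc (com_restr _ (fun _ => ph_inv) hm) c,
      absurd c (hj.nq p)]
  rwa [this] at hr

/-- Evenness of the blocks passes to the other side. -/
theorem Pr.even (hB : Big ζ) (h : Pr ζ w w' r) (hj : J0 ζ w) (hj' : J0 ζ w')
    (ev : sign (restr (Bk w ζ) w) = 1) : sign (restr (Bk w' ζ) w') = 1 := by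
  have u := h.u2 hB
  have u' := h.symm.u2 hB
  have : w ∈ ⁅CU ζ w, CU ζ w⁆ := by
    have e := u.w_eq
    rw [restr_eq_one fun p a => absurd a (hj.nq p), mul_one] at e
    have a := u.bJ.u.tau_com ((hj.par u).1.trans ev)
    have b := u.bI.u.tau_com ev
    rw [u.bJ.c] at a; rw [u.bI.c] at b
    have := mul_mem a b
    rwa [← e] at this
  rw [← (hj'.par u').1]
  exact com_restr _ (fun _ => u'.bJ.inv) (h.com h.rw this)

/-- Elements of order three on the common fixed points correspond to such elements. -/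
theorem Pr.m0 (hB : Big ζ) (h : Pr ζ w w' r) (ev : Ev ζ w) {j j' : Perm Ω} (j3 : j ^ 3 = 1)
    (hj : ∀ p, ¬ Ph ζ w p → j p = p) (hr : r j j') (p : Ω) (hp : ¬ Ph ζ w' p) : j' p = p := by
  have u := h.symm.u2 hB
  have jc := h.cod hr
  have j3' : j' (j' (j' p)) = p := by
    have := (h.eq_iff (h.mul hr (h.mul hr hr)) h.one_one).1 (by rwa [pow_three] at j3)
    exact DFunLike.congr_fun this p
  have key : ∀ {u b : Perm Ω}, (∀ y ∈ CU ζ w', y * u = u * y) → b ∈ CU ζ w' → b * b = 1 →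
      (∀ p, b p = p ∨ b p = u p) → j' * b = b * j' := fun {u b} hu hb b2 bb => by
    have c1 := cc_of_base hu hb b2 bb
    have c2 : CC (CU ζ w') (j' * b * j'⁻¹ * b) := by
      refine ⟨mul_mem (mul_mem (mul_mem jc hb) (inv_mem jc)) hb, ?_, fun y hy => ?_⟩
      · rw [← pow_two, Commute.mul_pow (c1.cm _ jc), pow_two, pow_two, conj_mul, b2]; group
      · have d1 := c1.cm2 (mul_mem hy jc) jc
        have d2 := c1.cm _ (mul_mem hy jc)
        have d3 := c1.cm2 hy jc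
        have d4 := c1.cm _ hy
        rw [show y * (j' * b * j'⁻¹ * b) * y⁻¹ = y * j' * b * (y * j')⁻¹ * (y * b * y⁻¹) by group]
        exact (Commute.mul_left (Commute.mul_right d1 d2) (Commute.mul_right d3 d4)).eq
    obtain ⟨b0, e⟩ := h.ex' hb
    have e2 := h.mul (h.cj hr e) e
    have c3 := h.symm.cc e2 c2
    have b02 := h.symm.sq e b2
    have c4 : j * b0 * j⁻¹ * b0 ∈ fixS fun p => ¬ Ph ζ w p := by
      have : j * b0 * j⁻¹ * b0 = j * (b0 * j⁻¹ * b0⁻¹) := by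
        rw [inv_eq_of_mul_eq_one_right b02]; group
      rw [this]
      exact mul_mem hj (fixS_conj (fun p => (ph_inv (h.dom e) p).not) (inv_mem hj))
    have c5 : j * b0 * j⁻¹ * b0 = 1 := by
      ext p
      by_cases hp : Ph ζ w p
      · exact ev.cc c3 (by rw [restr_eq (fun _ _ => rfl) c4]; exact c3.mem.1.1) hp
      · exact c4 p hp
    have := h.one' (c5 ▸ e2)
    rw [← mul_inv_eq_iff_eq_mul, eq_inv_of_mul_eq_one_left this, inv_eq_of_mul_eq_one_right b2]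
  by_contra hn
  have blk : ∀ {μ ν}, Sb ζ w' μ ν → ¬ Bk μ ν p := fun {μ ν} b hp => by
    have jc' : j' ∈ CU μ ν := b.c ▸ jc
    have hq := (bk_inv jc' p).2 hp
    have z := sq_ap b.u.μ2
    have := key (u := μ) (fun y hy => (b.c ▸ hy : y ∈ CU μ ν).1.2) (b.c ▸ b.u.tt_mem hp hq)
      (by rw [mul_assoc, ← mul_assoc (tr μ (j' p)), ← tr_tr_comm b.u.μ2, mul_assoc, tr_sq,
        mul_one, tr_sq])
      (fun i => by have := z i; have := z p; have := z (j' p); simp only [mul_apply, tr]; grind)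
    have e := DFunLike.congr_fun this (j' p)
    have c := cm_ap jc'.1.2
    have := c p; have := c (j' p); have := c (j' (j' p)); have := z p; have := z (j' p)
    have := hp.1; have := hq.1; have := ((bk_inv jc' _).2 hq).1
    have : j' (j' p) ≠ j' p := j'.injective.ne hn
    simp only [mul_apply, tr] at e
    grind
  rcases u.cover p with c | c | c | c | c
  · exact blk u.bJ c
  · exact blk u.bF c
  · exact blk u.bI c
  · exact hp c
  have z := sq_ap hB.sq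
  have z' := sq_ap h.w2'
  have zc := cm_ap u.cm
  have hb : tr ζ p * tr ζ (w' p) ∈ CU ζ w' := by
    refine ⟨tr_tr_mem hB.sq c.1 ((fix_iff u.cm p).not.2 c.1), by
      simp [sign_tr c.1, sign_tr ((fix_iff u.cm p).not.2 c.1)], ?_⟩
    rw [eq_comm, ← mul_inv_eq_iff_eq_mul, ← conj_mul, conj_tr u.cm, conj_tr u.cm, z',
      tr_tr_comm hB.sq]
  have := key (u := ζ) (fun y hy => hy.1.2) hb
    (by rw [mul_assoc, ← mul_assoc (tr ζ (w' p)), ← tr_tr_comm hB.sq, mul_assoc, tr_sq,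
      mul_one, tr_sq])
    (fun i => by
      have := z i; have := z p; have := z (w' p); have := c.2.1; have := c.2.2; have := zc p
      simp only [mul_apply, tr]; grind)
  have e := DFunLike.congr_fun this p
  have c1 := cm_ap jc.1.2
  have c2 := cm_ap jc.2.2
  have := c1 p; have := c2 p; have := c1 (w' p); have := z p; have := z' p; have := z (w' p)
  have := zc p; have := z' (ζ p); have := zc (w' p)
  have := ((q4_inv jc p).2 c).1
  obtain ⟨d1, d2, d3⟩ := c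
  simp only [mul_apply, tr] at e
  grind

/-- If `w` fixes the fixed points of `ζ`, the alternating groups on them correspond. -/
theorem Pr.l0 (hB : Big ζ) (h : Pr ζ w w' r) (fx : ∀ s, ζ s = s → w s = s) :
    (∀ x x', r x x' → (∀ i, ζ i ≠ i → x i = i) → ∀ i, ¬ Ph ζ w' i → x' i = i) ∧
      ∀ x', sign x' = 1 → (∀ i, ζ i ≠ i → x' i = i) → ∃ x, r x x' ∧ ∀ i, ζ i ≠ i → x i = i := by
  have u := h.u2 hB
  have ev : Ev ζ w := u.ev (by rw [restr_eq_one fun p a => fx p a.2, map_one])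
  have hm : ∀ x : Perm Ω, sign x = 1 → (∀ i, ζ i ≠ i → x i = i) → x ∈ CU ζ w := fun x a b =>
    ph_mem a fun p hp => b p fun c => hp ⟨c, fx p c⟩
  have h1 : ∀ x x', r x x' → (∀ i, ζ i ≠ i → x i = i) → ∀ i, ¬ Ph ζ w' i → x' i = i :=
    fun x x' hr hx => h.of_pull (N := fixS fun i => ¬ Ph ζ w' i)
      (gen3 (fun i => ζ i = i) _ (fun j j3 je hj => by
        obtain ⟨j', e⟩ := h.ex (hm j je hj)
        exact ⟨j', e, h.m0 hB ev j3 (fun p hp => hj p fun c => hp ⟨c, fx p c⟩) e⟩)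
      (h.dom hr).1.1 hx) hr
  refine ⟨h1, fun x' a b => ?_⟩
  let T := {x : Perm Ω // sign x = 1 ∧ ∀ i, ζ i ≠ i → x i = i}
  choose f hf using fun t : T => h.ex (hm t.1 t.2.1 t.2.2)
  let F : T → T := fun t => ⟨f t, (h.cod (hf t)).1.1,
    fun i hi => h1 _ _ (hf t) t.2.2 i fun c => hi c.1⟩
  have hF : Function.Injective F := fun s t e =>
    Subtype.ext ((h.eq_iff (hf s) (hf t)).2 (congrArg Subtype.val e))
  obtain ⟨t, e⟩ := Finite.surjective_of_injective hF ⟨x', a, b⟩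
  have e' : f t = x' := congrArg Subtype.val e
  exact ⟨t.1, e' ▸ hf t, t.2.2⟩

theorem Pr.fx' (hB : Big ζ) (h : Pr ζ w w' r) (fx : ∀ s, ζ s = s → w s = s)
    (ev : sign (restr (Bk w' ζ) w') = 1) (s : Ω) (hs : ζ s = s) : w' s = s := by
  by_contra hn
  have u := h.symm.u2 hB
  obtain ⟨α, β, hne, hα, hβ⟩ := (u.ev ev).two
  have he : sign (swap s α * swap s β) = 1 :=
    AltC.sign_dbl (fun e => hn (e ▸ hα.2)) (fun e => hn (e ▸ hβ.2))
  have := hα.1; have := hβ.1; have := hα.2; have := hβ.2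
  obtain ⟨x, a, b⟩ := (h.l0 hB fx).2 _ he (fun i hi => by simp only [mul_apply]; grind)
  have := (h.l0 hB fx).1 _ _ a b s fun c => hn c.2
  simp only [mul_apply] at this
  grind

end Cfsg.Lib.AltZ
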