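import Cfsg.Agent.AltC.Tr
import Cfsg.Agent.AltC.Pp2

/-! Which involutions of the centraliser can be fused to the central involution. -/

set_option autoImplicit false
set_option linter.unusedSectionVars false

namespace Cfsg.Lib.AltZ

open Equiv Equiv.Perm
open scoped commutatorElement
open Cfsg.Lib.AltC (N4 sq_ap cm_ap sign_cases)

variable {Ω : Type*} [DecidableEq Ω] [Fintype Ω] {G : Type*} [Group G]
  {z : G} {ζ w w' μ ν x y : Perm Ω} {ι : Perm Ω → G} {r : Perm Ω → Perm Ω → Prop}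

theorem Big.ne_one (hB : Big ζ) : ζ ≠ 1 := fun e => by
  have := hB.h8; rw [e, support_one] at this; simp at this

theorem U2.q4 (u : U2 ζ w) {p : Ω} (hp : Q4 ζ w p) : Df ζ p (w p) :=
  df_of u.μ2 hp.1 ((fix_iff u.cm p).not.2 hp.1) hp.2.1 hp.2.2

theorem U2.a_mem (u : U2 ζ w) {p : Ω} (hp : Q4 ζ w p) : tr ζ p * tr ζ (w p) ∈ CU ζ w := by
  have h := tr_tr_mem u.μ2 hp.1 ((fix_iff u.cm p).not.2 hp.1)
  refine ⟨h, h.1, ?_⟩
  rw [eq_comm, ← mul_inv_eq_iff_eq_mul, ← conj_mul, conj_tr u.cm, conj_tr u.cm, sq_ap u.ν2,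
    tr_tr_comm u.μ2]

theorem U2.v_mem (u : U2 ζ w) {p : Ω} (hp : Q4 ζ w p) : sw ζ p (w p) ∈ CU ζ w := by
  have h := AltZ.sw_mem u.μ2 (u.q4 hp)
  refine ⟨h, h.1, ?_⟩
  rw [eq_comm, ← mul_inv_eq_iff_eq_mul, conj_sw u.cm, sq_ap u.ν2, sw_symm]

theorem U2.a_cc (u : U2 ζ w) {p : Ω} (hp : Q4 ζ w p) : CC (CU ζ w) (tr ζ p * tr ζ (w p)) :=
  cc_of_base (u := ζ) (fun _ hy => hy.1.2) (u.a_mem hp) (AltC.dbl_sq (u.q4 hp)) fun i => by
    have := u.q4 hp; have := sq_ap u.μ2 p; have := sq_ap u.μ2 (w p)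
    simp only [mul_apply, tr]; grind

theorem U2.v_cc (u : U2 ζ w) {p : Ω} (hp : Q4 ζ w p) : CC (CU ζ w) (sw ζ p (w p)) :=
  cc_of_base (u := w) (fun _ hy => hy.2.2) (u.v_mem hp) (sw_sq (u.q4 hp)) fun i => by
    have := u.q4 hp; have := sq_ap u.ν2 p; have := cm_ap u.cm p; have := cm_ap u.cm (w p)
    simp only [mul_apply, sw]; grind

/-- An element either preserves the regular orbit or moves it off itself. -/
theorem U2.dich (u : U2 ζ w) {p : Ω} (hp : Q4 ζ w p) (hy : y ∈ CU ζ w) {a v : Perm Ω}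
    (ha : a = tr ζ p * tr ζ (w p)) (hv : v = sw ζ p (w p)) :
    (y * a * y⁻¹ = a ∧ y * v * y⁻¹ = v) ∨ (y * a * y⁻¹ ≠ a ∧ y * v * y⁻¹ ≠ v ∧
      a * (y * a * y⁻¹)⁻¹ ≠ v * (y * v * y⁻¹)⁻¹) := by
  have d := u.q4 hp
  have d' := u.q4 ((q4_inv hy p).2 hp)
  have z := sq_ap u.μ2
  have z' := sq_ap u.ν2
  have c := cm_ap u.cm
  rw [ha, hv, ← conj_mul, conj_tr hy.1.2, conj_tr hy.1.2, conj_sw hy.1.2, cm_ap hy.2.2]
  generalize y p = t at d'
  by_cases h1 : t = p
  · exact .inl ⟨by rw [h1], by rw [h1]⟩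
  by_cases h2 : t = ζ p
  · refine .inl ⟨by rw [h2, c, tr_ap u.μ2, tr_ap u.μ2], ?_⟩
    rw [h2, c, sw, sw, z, z]
    exact (AltC.sw_comm (by grind)).eq
  by_cases h3 : t = w p
  · exact .inl ⟨by rw [h3, z', tr_tr_comm u.μ2], by rw [h3, z', sw_symm]⟩
  by_cases h4 : t = ζ (w p)
  · refine .inl ⟨by rw [h4, c, z', tr_ap u.μ2, tr_ap u.μ2, tr_tr_comm u.μ2], ?_⟩
    rw [h4, c, z', sw_symm, sw, sw, z, z]
    exact (AltC.sw_comm (by grind)).eq
  have e1 : (tr ζ t * tr ζ (w t)) p = p := by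
    have := z t; have := z (w t); have := z' t; have := c t; have := z' (ζ t)
    simp only [mul_apply, tr]; grind
  have e2 : sw ζ t (w t) p = p := by
    have := z t; have := z (w t); have := z' t; have := c t; have := z' (ζ t)
    exact sw_off (by grind) (by grind) (by grind) (by grind)
  have e3 : (tr ζ p * tr ζ (w p)) p = ζ p := by simp only [mul_apply, tr]; grind
  refine .inr ⟨fun e => ?_, fun e => ?_, fun e => ?_⟩
  · rw [e, e3] at e1; exact hp.1 e1
  · rw [e, sw_left d] at e2; exact hp.2.1 e2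
  · have := DFunLike.congr_fun e p
    rw [mul_apply, mul_apply _ (_)⁻¹, Perm.inv_eq_iff_eq.2 e1.symm, Perm.inv_eq_iff_eq.2 e2.symm, e3,
      sw_left d] at this
    exact hp.2.2 this.symm

/-- The hypothesis satisfied by the preimages of the four-group of a regular orbit. -/
def Tst (C : Subgroup (Perm Ω)) (x y : Perm Ω) : Prop :=
  ∀ k ∈ C, ∀ e, k * k = 1 → (x * k * x⁻¹ = k ∨ x * k * x⁻¹ = e * k) →
    (y * k * y⁻¹ = k ∨ y * k * y⁻¹ = e * k) → x * k * x⁻¹ = k ∧ y * k * y⁻¹ = k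

theorem Tst.symm {C : Subgroup (Perm Ω)} (h : Tst C x y) : Tst C y x :=
  fun k hk e a b c => (h k hk e a c b).symm

theorem Pr.tst (hB : Big ζ) (h : Pr ζ w w' r) {p : Ω} (hp : Q4 ζ w' p)
    (hx : r x (tr ζ p * tr ζ (w' p))) (hy : r y (sw ζ p (w' p))) : Tst (CU ζ w) x y := by
  intro k hk e k2 a b
  obtain ⟨k', c⟩ := h.ex hk
  have e1 : ∀ {x x'}, r x x' → (x * k * x⁻¹ = k ↔ k' * x' * k'⁻¹ = x') := fun hx => by
    rw [mul_inv_eq_iff_eq_mul, mul_inv_eq_iff_eq_mul, h.comm_iff hx c, eq_comm]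
  rcases (h.symm.u2 hB).dich hp (h.cod c) rfl rfl with H | H
  · exact ⟨(e1 hx).2 H.1, (e1 hy).2 H.2⟩
  have a' := a.resolve_left ((e1 hx).not.2 H.1)
  have b' := b.resolve_left ((e1 hy).not.2 H.2.1)
  refine absurd ((h.eq_iff (h.mul hx (h.inv (h.cj c hx))) (h.mul hy (h.inv (h.cj c hy)))).1 ?_)
    H.2.2
  calc _ = x * k * x⁻¹ * k⁻¹ := by group
    _ = y * k * y⁻¹ * k⁻¹ := by rw [a', b']
    _ = _ := by group

theorem Tst.cen (u : U2 μ ν) (h : Tst (CU μ ν) x y) (hx : CC (CU μ ν) x) (hy : CC (CU μ ν) y)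
    (hc : x * y = y * x) : Cen μ ν x := by
  have z := sq_ap u.μ2
  have base : ∀ {x y}, Tst (CU μ ν) x y → CC (CU μ ν) x → CC (CU μ ν) y → x * y = y * x →
      ∀ p, Bk μ ν p → x p = p ∨ x p = μ p := fun {x y} h hx hy hc p hp => by
    by_contra! hn
    obtain ⟨α, β, a, b, c, d, e, f⟩ := u.exists_o2 hx.mem hy.mem hx.sq hy.sq hc
    have hk := u.to_mem hp a b c d
    have e1 : ∀ {x}, x ∈ CU μ ν → x * swap α β = swap α β * x →
        x * (tr μ p * swap α β) * x⁻¹ = tr μ (x p) * swap α β := fun hx e => by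
      rw [← conj_mul, conj_tr hx.1.2, e, mul_inv_cancel_right]
    have e2 : tr μ (x p) * swap α β = tr μ (x p) * tr μ p * (tr μ p * swap α β) := by
      rw [mul_assoc, ← mul_assoc (tr μ p), tr_sq, one_mul]
    have := (h _ hk (tr μ (x p) * tr μ p) (AltC.dbl_sq (by have := hp.1; have := z p; grind))
      (.inr (by rw [e1 hx.mem e, e2])) (by
        rw [e1 hy.mem f, ← e2]
        rcases u.omega hx hp hn.1 hn.2 ((bk_inv hy.mem p).2 hp) with g | g | g | g <;>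
          simp [g, tr_ap u.μ2])).1
    rw [e1 hx.mem e, mul_left_inj] at this
    have := DFunLike.congr_fun this p
    have := hp.1
    simp only [tr] at *
    grind
  have h1 := base h hx hy hc
  have h2 := base h.symm hy hx hc.symm
  by_contra hn
  simp only [Cen, not_or, not_forall] at hn
  obtain ⟨⟨q, hq, e1⟩, p, hp, e2⟩ := hn
  have a1 := (h1 q hq).resolve_left e1
  have a2 := (h1 p hp).resolve_right e2
  have hd : Df μ p q := df_of u.μ2 hp.1 hq.1 (by grind) (by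
    have := cm_ap hx.mem.1.2 p; have := z p; have := hp.1; grind)
  have e3 : sw μ (μ p) (μ q) = sw μ p q := by
    rw [sw, sw, z, z]; exact (AltC.sw_comm (by grind)).eq
  have := (h _ (u.sw_mem hp hq hd) (tr μ p * tr μ q) (sw_sq hd)
    (.inr (by rw [conj_sw hx.mem.1.2, a1, a2, sw_ap u.μ2 hd])) (by
      rw [conj_sw hy.mem.1.2, ← sw_ap u.μ2 hd]
      rcases h2 p hp with g | g <;> rcases h2 q hq with g' | g' <;> rw [g, g']
      · exact .inl rfl
      · exact .inr rfl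
      · right; rw [sw, sw, z, z]; exact (AltC.sw_comm (by grind)).eq
      · exact .inl e3)).1
  rw [conj_sw hx.mem.1.2, a1, a2] at this
  have := DFunLike.congr_fun this p
  rw [sw_left hd, sw_left (hd.ap u.μ2)] at this
  exact hq.1 this

theorem Tst.ph (u : U2 μ ν) (h : Tst (CU μ ν) x y) (hx : CC (CU μ ν) x) (hy : CC (CU μ ν) y)
    (hc : x * y = y * x) : (∀ p, Ph μ ν p → x p = p) ∨
      ∃ α β, α ≠ β ∧ x α = β ∧ ∀ p, Ph μ ν p ↔ p = α ∨ p = β := by
  classical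
  by_cases H : ∀ p, Ph μ ν p → x p = p
  · exact .inl H
  push Not at H
  obtain ⟨α, hα, h1⟩ := H
  have hβ := (ph_inv hx.mem α).2 hα
  rcases cc_ph hx hα h1 with H | ⟨γ, hγ, hn, H⟩
  · exact .inr ⟨α, x α, h1.symm, rfl, fun p => ⟨H p, by grind⟩⟩
  exfalso
  have hδ := (ph_inv hx.mem γ).2 hγ
  have a1 := hx.mem.1.2
  have a2 := hx.mem.2.2
  have a3 := hy.mem.1.2
  have a4 := hy.mem.2.2
  have hS : (Finset.univ.filter fun p => ¬ Ph μ ν p).card + 4 = Fintype.card Ω := by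
    rw [← Finset.card_eq_four.2 ⟨_, _, _, _, hn.1, hn.2.1, hn.2.2.1, hn.2.2.2.1, hn.2.2.2.2.1,
      hn.2.2.2.2.2, rfl⟩, ← Finset.card_univ,
      ← Finset.card_filter_add_card_filter_not (s := Finset.univ) (Ph μ ν), add_comm]
    congr 2
    ext p; have := H p; grind
  obtain ⟨s, hs, t, ht, hst, K⟩ := exists_o_set {μ, ν, x, y} (by simp [u.μ2, u.ν2, hx.sq, hy.sq])
    (by simp [a1, a2, a3, a4, hc, u.cm]) (Finset.univ.filter fun p => ¬ Ph μ ν p)
    (by simp [ph_inv u.memμ, ph_inv u.memν, ph_inv hx.mem, ph_inv hy.mem])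
    (by have := u.sz.2; omega)
  simp only [Finset.mem_filter, Finset.mem_univ, true_and] at hs ht
  have hk : swap α γ * swap s t ∈ CU μ ν := mem_CU.2 ⟨AltC.sign_dbl hn.2.1 hst,
    (Commute.mul_left (AltC.fix_comm hα.1 hγ.1) (K μ (by simp)).symm).eq,
    (Commute.mul_left (AltC.fix_comm hα.2 hγ.2) (K ν (by simp)).symm).eq⟩
  have e1 : ∀ {x}, x * swap s t = swap s t * x →
      x * (swap α γ * swap s t) * x⁻¹ = swap (x α) (x γ) * swap s t := fun e => by
    rw [← conj_mul, conj_swap, e, mul_inv_cancel_right]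
  have e2 : swap (x α) (x γ) * swap s t = swap (x α) (x γ) * swap α γ * (swap α γ * swap s t) := by
    rw [mul_assoc, ← mul_assoc (swap α γ), swap_mul_self, one_mul]
  have y1 : ∀ p, Ph μ ν p → y p = p → ∀ q, Ph μ ν q → y q = q := fun p hp e q hq => by
    by_contra hq'
    rcases cc_ph hy hq hq' with L | ⟨g, -, L', L⟩
    · have := L _ hα; have := L _ hβ; have := L _ hγ; grind
    · have := L p hp; have := sq_ap hy.sq q; have := sq_ap hy.sq g; grind
  have := (h _ hk (swap (x α) (x γ) * swap α γ) (AltC.dbl_sq (by grind))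
    (.inr (by rw [e1 (K x (by simp)), e2])) (by
      rw [e1 (K y (by simp)), ← e2]
      have b1 := H _ ((ph_inv hy.mem α).2 hα)
      have b2 := H _ ((ph_inv hy.mem γ).2 hγ)
      have b3 := y1 α hα; have b4 := y1 γ hγ
      have := sq_ap hy.sq α; have := sq_ap hy.sq γ; have := cm_ap hc α; have := cm_ap hc γ
      have := sq_ap hx.sq α; have := sq_ap hx.sq γ
      have : (y α = α ∧ y γ = γ) ∨ (y α = γ ∧ y γ = α) ∨ (y α = x α ∧ y γ = x γ) ∨
          (y α = x γ ∧ y γ = x α) := by grind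
      rcases this with ⟨g, g'⟩ | ⟨g, g'⟩ | ⟨g, g'⟩ | ⟨g, g'⟩ <;> rw [g, g'] <;>
        simp [swap_comm])).1
  rw [e1 (K x (by simp)), mul_left_inj] at this
  have := DFunLike.congr_fun this α
  grind

/-- The preimage of the four-group of a regular orbit is central away from regular orbits. -/
theorem Pr.bl (hB : Big ζ) (h : Pr ζ w w' r) {p : Ω} (hp : Q4 ζ w' p)
    (hx : r x (tr ζ p * tr ζ (w' p))) :
    Cen ζ (ζ * w) x ∧ Cen ζ w x ∧ Cen w ζ x ∧ ((∀ p, Ph ζ w p → x p = p) ∨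
      ∃ α β, α ≠ β ∧ x α = β ∧ ∀ p, Ph ζ w p ↔ p = α ∨ p = β) := by
  have u := h.u2 hB
  have u' := h.symm.u2 hB
  obtain ⟨y, hy⟩ := h.ex' (u'.v_mem hp)
  have t := h.tst hB hp hx hy
  have c1 := h.symm.cc hx (u'.a_cc hp)
  have c2 := h.symm.cc hy (u'.v_cc hp)
  have c3 := (h.comm_iff hx hy).2 (tr_tr_sw (u'.q4 hp))
  have H : ∀ {μ ν}, Sb ζ w μ ν → Cen μ ν x := fun b =>
    Tst.cen b.u (b.c ▸ t) (b.c ▸ c1) (b.c ▸ c2) c3
  exact ⟨H u.bJ, H u.bF, H u.bI, t.ph u c1 c2 c3⟩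

theorem U2.cent_of (u : U2 ζ w) (h1 : Cen ζ (ζ * w) x) (h2 : Cen ζ w x)
    (h3 : Cen w ζ x) (h4 : (∀ p, Ph ζ w p → x p = p) ∨
      ∃ α β, α ≠ β ∧ x α = β ∧ ∀ p, Ph ζ w p ↔ p = α ∨ p = β) (hx : x ∈ CU ζ w)
    (hy : y ∈ CU ζ w) (h5 : ∀ p, Q4 ζ w p → y (x p) = x (y p)) : y * x = x * y := by
  ext p
  rcases u.cover p with c | c | c | c | c
  · exact h1.comm (u.bJ.c ▸ hy) c
  · exact h2.comm hy c
  · exact h3.comm (u.bI.c ▸ hy) c
  · have c1 := (ph_inv hy p).2 c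
    rcases h4 with H | ⟨α, β, hn, e, H⟩
    · rw [mul_apply, mul_apply, H p c, H _ c1]
    · have a1 := (H _).1 ((ph_inv hx β).2 ((H β).2 (.inr rfl)))
      have a2 := (H _).1 ((ph_inv hy α).2 ((H α).2 (.inl rfl)))
      have a3 := (H _).1 ((ph_inv hy β).2 ((H β).2 (.inr rfl)))
      have a4 := (H p).1 c
      have : x α ≠ x β := x.injective.ne hn
      have : y α ≠ y β := y.injective.ne hn
      simp only [mul_apply]; grind
  · exact h5 p c

theorem U2.orb (u : U2 ζ w) {p : Ω} (hp : Q4 ζ w p) (hy : y ∈ CU ζ w)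
    (hc : y * (tr ζ p * tr ζ (w p)) = tr ζ p * tr ζ (w p) * y) :
    y p = p ∨ y p = ζ p ∨ y p = w p ∨ y p = ζ (w p) := by
  have e := DFunLike.congr_fun hc p
  have d := u.q4 hp
  have := cm_ap hy.1.2 p
  have := ((q4_inv hy p).2 hp).1
  simp only [mul_apply, tr] at e
  grind

/-- A commutator fixes a regular orbit preserved by the whole group. -/
theorem U2.com_fix (u : U2 ζ w) {p : Ω}
    (H : ∀ y ∈ CU ζ w, y p = p ∨ y p = ζ p ∨ y p = w p ∨ y p = ζ (w p)) (hp : Q4 ζ w p)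
    (hx : x ∈ ⁅CU ζ w, CU ζ w⁆) : x p = p := by
  have z := sq_ap u.μ2
  have z' := sq_ap u.ν2
  have c := cm_ap u.cm
  have h1 := com_half (C := CU ζ w) u.μ2 (fun y hy => hy.1.2) (p := p) (q := w p) H (fun y hy => by
    have := H y hy; have := cm_ap hy.2.2 p; have := z' p; have := c p; have := c (w p); grind) hx
  have h2 := com_half (C := CU ζ w) u.ν2 (fun y hy => hy.2.2) (p := p) (q := ζ p) (fun y hy => by
    have := H y hy; have := c p; grind) (fun y hy => by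
    have := H y hy; have := cm_ap hy.1.2 p; have := z p; have := c p; have := z (w p); grind) hx
  have := hp.2.2
  grind

theorem Pr.j0 (hB : Big ζ) (h : Pr ζ w w' r) (hj : J0 ζ w) : J0 ζ w' := by
  intro p h0
  by_contra! hn
  have hp : Q4 ζ w' p := ⟨h0, hn⟩
  have u := h.u2 hB
  have u' := h.symm.u2 hB
  obtain ⟨x, hx⟩ := h.ex' (u'.a_mem hp)
  obtain ⟨h1, h2, h3, h4⟩ := h.bl hB hp hx
  have xc := h.dom hx
  have hc := h.cent hx fun y hy => u.cent_of h1 h2 h3 h4 xc hy fun p a => absurd a (hj.nq p)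
  have e3 : (tr ζ p * tr ζ (w' p)) p = ζ p := by
    have := u'.q4 hp; simp only [mul_apply, tr]; grind
  have dx := u.decomp xc
  have sx := congrArg sign dx
  rw [restr_eq_one fun p a => absurd a (hj.nq p), mul_one] at dx sx
  simp only [map_mul] at sx
  rw [xc.1.1] at sx
  obtain ⟨pJ, pF⟩ := hj.par u
  rcases sign_cases (restr (Bk w ζ) w) with ev | ev <;> rw [ev] at pJ pF
  · have k : ∀ {μ ν}, Sb ζ w μ ν → Cen μ ν x → sign (restr (Bk μ ν) μ) = 1 →
        restr (Bk μ ν) x ∈ ⁅CU ζ w, CU ζ w⁆ := fun b c e => by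
      rcases c.restr b.u with a | a <;> rw [a]
      · exact one_mem _
      · exact b.c ▸ b.u.tau_com e
    have k1 := k u.bJ h1 pJ
    have k2 := k u.bF h2 pF
    have k3 := k u.bI h3 ev
    rw [(com_le k1).1.1, (com_le k2).1.1, (com_le k3).1.1] at sx
    have k4 : restr (Ph ζ w) x = 1 := by
      rcases h4 with H | ⟨α, β, hn, e, H⟩
      · exact restr_eq_one H
      · have a1 := (H _).1 ((ph_inv xc β).2 ((H β).2 (.inr rfl)))
        have : x α ≠ x β := x.injective.ne hn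
        rw [restr_eq (y := swap α β) (fun p hp => by have := (H p).1 hp; grind)
          (fun p hp => by have := (H p).not.1 hp; grind), sign_swap hn] at sx
        exact absurd sx (by decide)
    rw [k4, mul_one] at dx
    have := u'.com_fix (fun y hy => u'.orb hp hy (hc y hy)) hp
      (h.com hx (dx ▸ mul_mem (mul_mem k1 k2) k3))
    exact h0 (e3.symm.trans this)
  · have k4 : restr (Ph ζ w) x = 1 :=
      restr_eq_one (h4.resolve_right fun ⟨α, β, hn, _, H⟩ => u.not_two ev hn H)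
    have eζ := u.ζ_eq
    have ew := u.w_eq
    rw [restr_eq_one fun p a => absurd a (hj.nq p), mul_one] at eζ ew
    have eζw : ζ * w = restr (Bk ζ w) ζ * restr (Bk w ζ) w := by
      have := u.decomp (mul_mem u.memμ u.memν)
      rwa [restr_eq_one (S := Bk ζ (ζ * w)) fun _ a => a.2,
        restr_eq_one (S := Ph ζ w) fun p a => by rw [mul_apply, a.2, a.1],
        restr_eq_one fun p a => absurd a (hj.nq p), mul_one, mul_one, one_mul,
        restr_congr (x := ζ * w) (u.bF.inv u.memμ) fun p a => by rw [mul_apply, a.2],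
        restr_congr (x := ζ * w) (u.bI.inv u.memν) fun p a => by
          rw [mul_apply, ((u.bI.inv u.memν p).2 a).2]] at this
    have : x = 1 ∨ x = ζ ∨ x = w ∨ x = ζ * w := by
      rw [k4] at dx sx
      rcases h1.restr u.bJ.u with a | a <;> rcases h2.restr u with b | b <;>
        rcases h3.restr u.symm with c | c <;> rw [a, b, c] at dx sx <;>
        simp only [map_one, pJ, pF, ev, mul_one, one_mul] at dx sx
      exacts [.inl dx, absurd sx (by decide), absurd sx (by decide),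
        .inr (.inr (.inr (dx.trans eζw.symm))), absurd sx (by decide),
        .inr (.inr (.inl (dx.trans ew.symm))), .inr (.inl (dx.trans eζ.symm)),
        absurd sx (by decide)]
    have z := sq_ap hB.sq
    rcases this with e | e | e | e <;> rw [e] at hx
    · rw [h.one' hx] at e3; exact h0 e3.symm
    · rw [h.uniq' hx h.rζ] at e3; exact hn.2 e3
    · obtain ⟨t, t0, t1⟩ := hB.fresh p (w' p) p
      have := DFunLike.congr_fun (h.uniq' hx h.rw) t
      simp only [mul_apply, tr] at this; grind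
    · rw [h.uniq' hx (h.mul h.rζ h.rw), mul_apply, cm_ap h.hw'.2] at e3
      exact hn.1 (ζ.injective e3)

theorem Pr.not_base (hB : Big ζ) (h : Pr ζ w w' r) : ¬ ∀ p, w p = p ∨ w p = ζ p := by
  intro hb
  have hj : J0 ζ w := fun p _ => hb p
  have hj' := h.j0 hB hj
  have u := h.u2 hB
  have u' := h.symm.u2 hB
  have fx : ∀ s, ζ s = s → w s = s := fun s hs => by have := hb s; grind
  have eI : restr (Bk w ζ) w = 1 := restr_eq_one fun p a => fx p a.2
  have ev : sign (restr (Bk w ζ) w) = 1 := by rw [eI, map_one]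
  have ev' := h.even hB hj hj' ev
  have fx' := h.fx' hB fx ev'
  have ew := u.w_eq
  rw [eI, restr_eq_one fun p a => absurd a (hj.nq p), mul_one, mul_one] at ew
  have hr := h.rw
  nth_rw 1 [ew] at hr
  have k : ∀ {S : Ω → Prop} {y : Perm Ω}, ζ = restr S y → ∀ p, ζ p ≠ p → S p :=
    fun e p hp => by_contra fun hn => hp (by rw [e, restr_neg _ hn])
  rcases h.single hB hj' ev' u.bJ ((hj.par u).1.trans ev) (fun e => hB.ne_one (h.one' (e ▸ hr))) hr
    with e | e | e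
  · refine h.symm.ne (Equiv.ext fun p => ?_)
    by_cases hp : ζ p = p
    · rw [fx' p hp, hp]
    · exact (u'.bkJ.1 (k e p hp)).2
  · refine hB.ne_one (h.one ?_)
    have : w' = 1 := Equiv.ext fun p => by
      by_cases hp : ζ p = p
      · exact fx' p hp
      · exact (k e p hp).2
    exact this ▸ h.rζ
  · obtain ⟨p, hp⟩ := AltC.ne_one_ap hB.ne_one
    exact hp (k e p hp).2

theorem Pr.moves (hB : Big ζ) (h : Pr ζ w w' r) (hj : J0 ζ w) : ∃ α, ζ α = α ∧ w α ≠ α := by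
  by_contra! H
  refine h.not_base hB fun p => ?_
  by_cases hp : ζ p = p
  · exact .inl (H p hp)
  · exact hj p hp

theorem single_sup {t : Perm Ω}
    (h : t = restr (Bk ζ (ζ * w)) ζ ∨ t = restr (Bk ζ w) ζ ∨ t = restr (Bk w ζ) w) :
    (∀ p, ζ p = p → t p = p) ∨ ∀ p, ζ p ≠ p → t p = p := by
  rcases h with e | e | e <;> rw [e]
  · exact .inl fun p hp => restr_neg _ fun a => a.1 hp
  · exact .inl fun p hp => restr_neg _ fun a => a.1 hp
  · exact .inr fun p hp => restr_neg _ fun a => hp a.2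

theorem Pr.not_f0 (hB : Big ζ) (h : Pr ζ w w' r) : ¬ ∀ p, ζ p ≠ p → w p = ζ p := by
  intro hb
  have hj : J0 ζ w := fun p hp => .inr (hb p hp)
  have hj' := h.j0 hB hj
  have u := h.u2 hB
  have eF : restr (Bk ζ w) ζ = 1 := restr_eq_one fun p a => by rw [← hb p a.1, a.2]
  have pa := hj.par u
  have ev : sign (restr (Bk w ζ) w) = 1 := by rw [← pa.2, eF, map_one]
  have ev' := h.even hB hj hj' ev
  have eζ := u.ζ_eq
  have ew := u.w_eq
  rw [restr_eq_one fun p a => absurd a (hj.nq p), mul_one] at eζ ew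
  rw [eF, mul_one] at eζ
  rw [← eζ] at ew
  have eI : restr (Bk w ζ) w = ζ * w := by
    nth_rw 3 [ew]; rw [← mul_assoc, hB.sq, one_mul]
  obtain ⟨α, a1, a2⟩ := h.symm.moves hB hj'
  obtain ⟨p, hp⟩ := AltC.ne_one_ap hB.ne_one
  have s1 := (single_sup (h.single hB hj' ev' u.bJ (pa.1.trans ev) (eζ ▸ hB.ne_one)
    (eζ ▸ h.rζ))).resolve_left fun H => a2 (H α a1)
  rcases single_sup (h.single hB hj' ev' u.bI ev (fun e => h.ne (by rw [ew, e, mul_one]))
    (eI ▸ h.mul h.rζ h.rw)) with H | H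
  · have := H α a1; rw [mul_apply, a1] at this; exact a2 this
  · have := H p hp
    rw [mul_apply, s1 _ (ζ.injective.ne hp)] at this; exact hp this

theorem Pr.ccb (hB : Big ζ) (h : Pr ζ w w' r) (hj : J0 ζ w) (ev : sign (restr (Bk w ζ) w) = 1)
    (hx : CC (CU ζ w) x) (hc : x ∈ ⁅CU ζ w, CU ζ w⁆) (p : Ω) :
    x p = p ∨ (ζ p ≠ p ∧ x p = ζ p) ∨ (ζ p = p ∧ x p = w p) := by
  have u := h.u2 hB
  rcases u.cover p with c | c | c | c | c
  · exact (u.bJ.u.ccb (u.bJ.c ▸ hx) (u.bJ.c ▸ hc) c).imp_right fun a => .inl ⟨c.1, a⟩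
  · exact (u.ccb hx hc c).imp_right fun a => .inl ⟨c.1, a⟩
  · exact (u.bI.u.ccb (u.bI.c ▸ hx) (u.bI.c ▸ hc) c).imp_right fun a => .inr ⟨c.2, a⟩
  · exact .inl ((u.ev ev).cc hx (com_restr _ (fun _ => ph_inv) hc) c)
  · exact absurd c (hj.nq p)

theorem U2.tt_cc (u : U2 μ ν) {p q : Ω} (hp : Bk μ ν p) (hq : Bk μ ν q) :
    CC (CU μ ν) (tr μ p * tr μ q) :=
  cc_of_base (u := μ) (fun _ hy => hy.1.2) (u.tt_mem hp hq)
    (by rw [mul_assoc, ← mul_assoc (tr μ q), ← tr_tr_comm u.μ2, mul_assoc, tr_sq, mul_one, tr_sq])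
    fun i => by
      have := sq_ap u.μ2 i; have := sq_ap u.μ2 p; have := sq_ap u.μ2 q
      simp only [mul_apply, tr]; grind

theorem Pr.not_dbl (hB : Big ζ) (h : Pr ζ w w' r) {a b c d : Ω} (hn : N4 a b c d) (ha : ζ a = a)
    (hb : ζ b = b) (hc : ζ c = c) (hd : ζ d = d) : w ≠ swap a b * swap c d := by
  intro e
  have hw : ∀ p, ζ p ≠ p → w p = p := fun p hp => by rw [e, mul_apply]; grind
  have hj : J0 ζ w := fun p hp => .inl (hw p hp)
  have hj' := h.j0 hB hj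
  have u := h.u2 hB
  have u' := h.symm.u2 hB
  have eI : restr (Bk w ζ) w = w := restr_eq (fun _ _ => rfl) fun p hp => by
    have := hw p; simp only [Bk] at hp; grind
  have ev : sign (restr (Bk w ζ) w) = 1 := by rw [eI, h.hw.1]
  have ev' := h.even hB hj hj' ev
  have eF : restr (Bk ζ w) ζ = ζ := restr_eq (fun _ _ => rfl) fun p hp => by
    have := hw p; simp only [Bk] at hp; grind
  obtain ⟨α, a1, a2⟩ := h.symm.moves hB hj'
  have s1 := (single_sup (h.single hB hj' ev' u.bF (by rw [eF, hB.ev])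
    (by rw [eF]; exact hB.ne_one) (eF.symm ▸ h.rζ))).resolve_left fun H => a2 (H α a1)
  obtain ⟨p, p0, -⟩ := hB.fresh a a a
  obtain ⟨q, q0, q1⟩ := hB.fresh p p p
  obtain ⟨s, s0, s1'⟩ := hB.fresh p q q
  have bp : Bk ζ w' p := ⟨p0, s1 p p0⟩
  have bq : Bk ζ w' q := ⟨q0, s1 q q0⟩
  have bs : Bk ζ w' s := ⟨s0, s1 s s0⟩
  obtain ⟨x, hx⟩ := h.ex' (u'.tt_mem bp bq)
  have xc := h.dom hx
  have cm := h.symm.com hx (u'.tt_com bp bq)
  have H := h.ccb hB hj ev (h.symm.cc hx (u'.tt_cc bp bq)) cm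
  have z := sq_ap hB.sq
  have c2 : Cen ζ w x := by
    by_contra hc
    have := u.restr_base (h.pull (fixS fun p => ζ p = p)) (fun p' q' hp hq _ => u.nc (u.ev ev) _
      (h.pull_le _) (h.pull_norm fun x hx => fix_iff hx.1.2) (x := x)
      ⟨_, hx, fun i hi => by have := z p; have := z q; simp only [mul_apply, tr]; grind⟩
      hc hp hq) (by rw [eF, hB.ev])
    rw [eF] at this
    exact a2 (h.of_pull this h.rζ α a1)
  have c3 : Cen w ζ x := by
    have sI := com_restr _ (fun _ => u.bI.inv) cm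
    have wa : w a = b := by rw [e, mul_apply]; grind
    have wb : w b = a := by rw [e, mul_apply]; grind
    have wc : w c = d := by rw [e, mul_apply]; grind
    have wd : w d = c := by rw [e, mul_apply]; grind
    have hI : ∀ p, Bk w ζ p ↔ p = a ∨ p = b ∨ p = c ∨ p = d := fun p => by
      simp only [Bk]; rw [e, mul_apply]; grind
    have := H a; have := H c; have := cm_ap xc.2.2 a; have := cm_ap xc.2.2 c
    by_cases e1 : x a = a <;> by_cases e2 : x c = c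
    · exact .inl fun p hp => by have := (hI p).1 hp; grind
    · rw [restr_eq (y := swap c d) (fun p hp => by have := (hI p).1 hp; grind)
        (fun p hp => by have := (hI p).not.1 hp; grind), sign_swap hn.2.2.2.2.2] at sI
      exact absurd sI (by decide)
    · rw [restr_eq (y := swap a b) (fun p hp => by have := (hI p).1 hp; grind)
        (fun p hp => by have := (hI p).not.1 hp; grind), sign_swap hn.1] at sI
      exact absurd sI (by decide)
    · exact .inr fun p hp => by have := (hI p).1 hp; grind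
  have hqs := df_of hB.sq q0 s0 s1'.2.2.1 s1'.2.2.2.1
  have := h.cent hx (fun y hy => u.cent_of (.inl fun p hp => absurd
      ((hw p hp.1).symm.trans (u.bkJ.1 hp).2).symm hp.1) c2 c3
    (.inl fun p hp => by have := H p; have := hp.1; have := hp.2; grind) xc hy
    fun p a => absurd a (hj.nq p)) _ (u'.sw_mem bq bs hqs)
  have := DFunLike.congr_fun this s
  have := z p; have := z q; have := z s
  simp only [mul_apply, tr, sw] at *
  grind

theorem Pr.baseI (hB : Big ζ) (h : Pr ζ w w' r) (hj : J0 ζ w) (he : ε1 ζ w' = 1) {α γ : Ω}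
    (hα : ζ α = α) (hγ : ζ γ = γ) (hd : Df w' α γ) {x : Perm Ω} (hx : r x (tr w' α * tr w' γ))
    (p : Ω) : x p = p ∨ (ζ p ≠ p ∧ x p = ζ p) ∨ (ζ p = p ∧ x p = w p) := by
  have u' := h.symm.u2 hB
  have ev' : sign (restr (Bk w' ζ) w') = 1 := by
    rw [← he, ε1]
    congr 1
    refine restr_eq (fun i hi => restr_pos (fix_iff h.hw'.2) hi.2) fun i hi => ?_
    by_cases c : ζ i = i
    · rw [restr_pos (S := fun p => ζ p = p) (fix_iff h.hw'.2) c]; exact by_contra fun a => hi ⟨a, c⟩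
    · exact restr_neg _ c
  have a : Bk w' ζ α := ⟨hd.1.symm, hα⟩
  have b : Bk w' ζ γ := ⟨hd.2.2.2.2.2.symm, hγ⟩
  exact h.ccb hB hj (h.symm.even hB (h.j0 hB hj) hj ev')
    (h.symm.cc hx (u'.bI.c ▸ u'.symm.tt_cc a b)) (h.symm.com hx (u'.bI.c ▸ u'.symm.tt_com a b)) p

theorem Pr.seven (hB : Big ζ) (h : Pr ζ w w' r)
    (h7 : (Finset.univ.filter fun p => ζ p = p).card = 7) {s q a b c d : Ω} (hsq : Df ζ s q)
    (hn : N4 a b c d) (ha : ζ a = a) (hb : ζ b = b) (hc : ζ c = c) (hd : ζ d = d)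
    (hw : w = ζ * (tr ζ s * tr ζ q) * (swap a b * swap c d)) {j j' a' k : Perm Ω} (j3 : j ^ 3 = 1)
    (hj : ∀ p, ζ p ≠ p ∨ w p ≠ p → j p = p) (rj : r j j') (ra : r (tr ζ s * tr ζ q) a')
    (hk : k ∈ HU ζ) (ka : k * a' = a' * k) : k * j' * k⁻¹ = j' ∨ k * j' * k⁻¹ = j'⁻¹ := by
  classical
  have z := sq_ap hB.sq
  have u := h.u2 hB
  have u' := h.symm.u2 hB
  have w1 : ∀ p, ζ p ≠ p → w p = (ζ * (tr ζ s * tr ζ q)) p := fun p hp => by
    rw [hw, mul_apply, mul_apply (swap a b)]; congr 1; grind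
  have w2 : ∀ p, ζ p = p → w p = (swap a b * swap c d) p := fun p hp => by
    have := z s; have := z q
    rw [hw]; simp only [mul_apply, tr]; grind
  have hJ : J0 ζ w := fun p hp => by
    have := z s; have := z q; have := z p
    rw [w1 p hp]; simp only [mul_apply, tr]; grind
  have hJ' := h.j0 hB hJ
  have eI : restr (Bk w ζ) w = swap a b * swap c d :=
    restr_eq (fun p hp => (w2 p hp.2).symm) fun p hp => by
      have := w2 p; simp only [Bk, mul_apply] at *; grind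
  have ev : sign (restr (Bk w ζ) w) = 1 := by rw [eI]; exact AltC.sign_dbl hn.1 hn.2.2.2.2.2
  have ev' := h.even hB hJ hJ' ev
  have eJ : restr (Bk ζ (ζ * w)) ζ = ζ * (tr ζ s * tr ζ q) := by
    have ew := u.w_eq
    rw [restr_eq_one fun p a => absurd a (hJ.nq p), mul_one, eI] at ew
    exact mul_right_cancel (ew.symm.trans hw)
  have r1 := h.mul h.rζ ra
  have r2 : r (swap a b * swap c d) ((w' * a')⁻¹ * ζ) := by
    have := h.mul (h.inv r1) h.rw
    rwa [hw, inv_mul_cancel_left] at this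
  obtain ⟨t, t0, t1⟩ := hB.fresh s q q
  have n1 : ζ * (tr ζ s * tr ζ q) ≠ 1 := fun e => by
    have := DFunLike.congr_fun e t
    simp only [mul_apply, tr, one_apply] at this; grind
  have n2 : swap a b * swap c d ≠ 1 := fun e => by
    have := DFunLike.congr_fun e a
    simp only [mul_apply, one_apply] at this; grind
  have s1 := single_sup (h.single hB hJ' ev' u.bJ ((hJ.par u).1.trans ev) (eJ ▸ n1) (eJ ▸ r1))
  have s2 := single_sup (h.single hB hJ' ev' u.bI ev (eI ▸ n2) (eI ▸ r2))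
  have s3 : ∀ p, ζ p = p → (w' * a') p = p := by
    refine s1.resolve_right fun H => ?_
    rcases s2 with K | K
    · refine n1 (h.one ?_)
      have : w' * a' = 1 := Equiv.ext fun p => by
        by_cases hp : ζ p = p
        · have := K p hp; rw [mul_apply, hp, Perm.inv_eq_iff_eq] at this; exact this.symm
        · exact H p hp
      exact this ▸ r1
    · have := K t t0
      rw [mul_apply, Perm.inv_eq_iff_eq, H t t0] at this; exact t0 this
  have hS : ∀ p, Ph ζ w' p ↔ ζ p = p ∧ a' p = p := fun p => and_congr_right fun hp => by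
    have := s3 p hp; have := sq_ap h.w2' p; have := sq_ap h.w2' (a' p)
    rw [mul_apply] at *; grind
  have hkS : ∀ p, Ph ζ w' (k p) ↔ Ph ζ w' p := fun p => by
    rw [hS, hS, fix_iff hk.2, fix_iff ka]
  have m := h.m0 hB (u.ev ev) j3 (fun p hp => hj p (by simp only [Ph] at hp; grind)) rj
  have j3' : j' ^ 3 = 1 := by
    rw [pow_three] at j3 ⊢; exact (h.eq_iff (h.mul rj (h.mul rj rj)) h.one_one).1 j3
  by_cases e : j' = 1
  · left; rw [e]; group
  have cS := u'.card_ph (Finset.univ.filter (Ph ζ w')) (by simp)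
  obtain ⟨α, a1, a2⟩ := h.symm.moves hB hJ'
  have c0 : 0 < (restr (Bk w' ζ) w').support.card := Finset.card_pos.2 ⟨α, by
    rw [mem_support, restr_pos (u'.bI.inv u'.memν) ⟨a2, a1⟩]; exact a2⟩
  have c4 := ((sign_invol u'.symm.tau_sq).resolve_right fun a => by
    rw [ev'] at a; exact absurd a.1 (by decide)).2
  exact cube_eq (S := Finset.univ.filter (Ph ζ w')) (by omega) j3'
    (by rw [conj_pow, j3']; group) e (fun a => e (conj_eq_one_iff.1 a)) (by simpa using m)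
    fun p hp => fixS_conj (S := fun p => ¬ Ph ζ w' p) (fun p => (hkS p).not) m p (by simpa using hp)

/-- `w` exchanges the cycles of `p` and `q`, preserves the others and fixes the fixed points. -/
structure AT (ζ w : Perm Ω) (p q : Ω) : Prop where
  df : Df ζ p q
  pq : w p = q
  mv : ∀ s, Df ζ p s → Df ζ q s → w s = s ∨ w s = ζ s
  fx : ∀ s, ζ s = s → w s = s

theorem U2.par4 (u : U2 ζ w) {p : Ω} (hp : Q4 ζ w p)
    (H : ∀ t, Q4 ζ w t → t = p ∨ t = ζ p ∨ t = w p ∨ t = ζ (w p)) :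
    sign (restr (Bk ζ (ζ * w)) ζ) = sign (restr (Bk w ζ) w) ∧
      sign (restr (Bk ζ w) ζ) = sign (restr (Bk w ζ) w) := by
  have d := u.q4 hp
  have a1 := (q4_inv u.memμ p).2 hp
  have a2 := (q4_inv u.memν p).2 hp
  have a3 := (q4_inv u.memμ _).2 a2
  have := sq_ap u.μ2 p; have := sq_ap u.μ2 (w p); have := sq_ap u.ν2 p
  have := cm_ap u.cm p; have := cm_ap u.cm (w p)
  refine u.par ?_ ?_
  · rw [restr_eq (y := tr ζ p * tr ζ (w p))
      (fun i hi => by have := H i hi; simp only [mul_apply, tr]; grind)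
      (fun i hi => by simp only [mul_apply, tr]; grind)]
    exact (u.a_mem hp).1.1
  · rw [restr_eq (y := sw ζ p (w p))
      (fun i hi => by have := H i hi; simp only [mul_apply, sw]; grind)
      (fun i hi => by simp only [mul_apply, sw]; grind)]
    exact (u.v_mem hp).1.1

theorem U2.comm4 (u : U2 ζ w) (hx : x ∈ CU ζ w) (hy : y ∈ CU ζ w) {p t : Ω}
    (a1 : x p = p ∨ x p = ζ p ∨ x p = w p ∨ x p = ζ (w p))
    (a2 : y p = p ∨ y p = ζ p ∨ y p = w p ∨ y p = ζ (w p))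
    (a3 : t = p ∨ t = ζ p ∨ t = w p ∨ t = ζ (w p)) : y (x t) = x (y t) := by
  have : y (x p) = x (y p) := by
    rcases a1 with a | a | a | a <;> rcases a2 with b | b | b | b <;>
      simp only [a, b, cm_ap hx.1.2, cm_ap hx.2.2, cm_ap hy.1.2, cm_ap hy.2.2, cm_ap u.cm]
  rcases a3 with c | c | c | c <;>
    simp only [c, this, cm_ap hx.1.2, cm_ap hx.2.2, cm_ap hy.1.2, cm_ap hy.2.2]

theorem U2.one4 (u : U2 ζ w) {p : Ω} (hp : Q4 ζ w p)
    (ob : ∀ y ∈ CU ζ w, y p = p ∨ y p = ζ p ∨ y p = w p ∨ y p = ζ (w p)) (t : Ω)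
    (ht : Q4 ζ w t) : t = p ∨ t = ζ p ∨ t = w p ∨ t = ζ (w p) := by
  by_contra! hn
  have d := u.q4 hp
  have d1 : Df ζ p t := df_of u.μ2 hp.1 ht.1 hn.1 hn.2.1
  have d2 : Df ζ (w p) (w t) := d1.map u.cm
  have d3 : Df ζ (w p) t := df_of u.μ2 d.2.2.2.2.2.symm ht.1 hn.2.2.1 hn.2.2.2
  have d4 : Df ζ (w (w p)) (w t) := d3.map u.cm
  have dt := u.q4 ht
  rw [sq_ap u.ν2] at d4
  have m := mul_mem (AltZ.sw_mem u.μ2 d1) (AltZ.sw_mem u.μ2 d2)
  have e : (sw ζ p t * sw ζ (w p) (w t)) p = t := by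
    rw [mul_apply, sw_off (i := p) (by grind) (by grind) (by grind) (by grind), sw_left d1]
  have := ob (sw ζ p t * sw ζ (w p) (w t)) ⟨m, m.1, by
    rw [eq_comm, ← mul_inv_eq_iff_eq_mul, ← conj_mul, conj_sw u.cm, conj_sw u.cm, sq_ap u.ν2,
      sq_ap u.ν2, ← mul_inv_eq_iff_eq_mul, conj_sw (sw_comm u.μ2 d2),
      sw_off (by grind) (by grind) (by grind) (by grind),
      sw_off (by grind) (by grind) (by grind) (by grind)]⟩
  grind

theorem AT.q4 (u : U2 ζ w) {p q : Ω} (ha : AT ζ w p q) : Q4 ζ w p ∧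
    ∀ t, Q4 ζ w t → t = p ∨ t = ζ p ∨ t = w p ∨ t = ζ (w p) := by
  obtain ⟨d, rfl, mv, fx⟩ := ha
  have hp : Q4 ζ w p := ⟨d.1.symm, d.2.1.symm, d.2.2.2.1.symm⟩
  refine ⟨hp, fun t ht => ?_⟩
  by_contra! hn
  have := mv t (df_of u.μ2 hp.1 ht.1 hn.1 hn.2.1)
    (df_of u.μ2 d.2.2.2.2.2.symm ht.1 hn.2.2.1 hn.2.2.2)
  exact this.elim ht.2.1 ht.2.2

theorem Pr.at1 (hB : Big ζ) (h : Pr ζ w w' r) {p q : Ω} (ha : AT ζ w p q) :
    ∃ p', Q4 ζ w' p' ∧ ∀ y ∈ CU ζ w', y p' = p' ∨ y p' = ζ p' ∨ y p' = w' p' ∨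
      y p' = ζ (w' p') := by
  have u := h.u2 hB
  have u' := h.symm.u2 hB
  obtain ⟨hp, H⟩ := ha.q4 u
  obtain ⟨p', hp'⟩ : ∃ p', Q4 ζ w' p' := by
    by_contra! hn
    exact (h.symm.j0 hB fun t ht => by have := hn t; simp only [Q4] at this; grind).nq p hp
  obtain ⟨x, hx⟩ := h.ex' (u'.a_mem hp')
  obtain ⟨h1, h2, h3, h4⟩ := h.bl hB hp' hx
  have xc := h.dom hx
  have hc := h.cent hx fun y hy => u.cent_of h1 h2 h3 h4 xc hy fun t ht =>
    u.comm4 xc hy (H _ ((q4_inv xc p).2 hp)) (H _ ((q4_inv hy p).2 hp)) (H t ht)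
  exact ⟨p', hp', fun y hy => u'.orb hp' hy (hc y hy)⟩

theorem U2.cf (u : U2 ζ w) {p : Ω} (hp : Q4 ζ w p)
    (ob : ∀ y ∈ CU ζ w, y p = p ∨ y p = ζ p ∨ y p = w p ∨ y p = ζ (w p))
    (hx : x ∈ ⁅CU ζ w, CU ζ w⁆) (t : Ω) (ht : Q4 ζ w t) : x t = t := by
  have e := u.com_fix ob hp hx
  rcases u.one4 hp ob t ht with c | c | c | c <;>
    simp only [c, e, cm_ap (com_le hx).1.2, cm_ap (com_le hx).2.2]

theorem Pr.at2 (hB : Big ζ) (h : Pr ζ w w' r) {p q : Ω} (ha : AT ζ w p q) {p' : Ω}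
    (hp' : Q4 ζ w' p')
    (ob : ∀ y ∈ CU ζ w', y p' = p' ∨ y p' = ζ p' ∨ y p' = w' p' ∨ y p' = ζ (w' p')) :
    sign (restr (Bk w' ζ) w') = 1 := by
  have u := h.u2 hB
  have u' := h.symm.u2 hB
  obtain ⟨hp, H⟩ := ha.q4 u
  have eI : restr (Bk w ζ) w = 1 := restr_eq_one fun p a => ha.fx p a.2
  have ev : sign (restr (Bk w ζ) w) = 1 := by rw [eI, map_one]
  have pa := u.par4 hp H
  have pa' := u'.par4 hp' (u'.one4 hp' ob)
  refine (sign_cases _).resolve_right fun od => ?_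
  have m1 := u.bJ.u.tau_com (pa.1.trans ev)
  rw [u.bJ.c] at m1
  have m2 := u.tau_com (pa.2.trans ev)
  obtain ⟨t, ht⟩ := h.ex (com_le (mul_mem m1 m2))
  have tc := h.com ht (mul_mem m1 m2)
  have tz := h.cent ht fun y hy =>
    (Commute.mul_right (u.bJ.u.tau_comm (u.bJ.c ▸ hy)) (u.tau_comm hy)).eq
  have t2 : t * t = 1 := h.sq ht (by
    rw [mul_assoc, ← mul_assoc (restr (Bk ζ w) ζ), u.bJ.u.tau_comm (u.bJ.c ▸ com_le m2),
      mul_assoc, u.tau_sq, mul_one, u.bJ.u.tau_sq])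
  have k : ∀ {μ ν}, Sb ζ w' μ ν → sign (restr (Bk μ ν) μ) = -1 → ∀ i, Bk μ ν i → t i = i :=
    fun b e => (b.u.cen (b.c ▸ tz) (b.c ▸ h.cod ht)).resolve_right fun K => by
      have := com_restr _ (fun _ => b.inv) tc
      rw [restr_congr (bk_inv b.u.memμ) K, e] at this
      exact absurd this (by decide)
  have : t = 1 := by
    ext i
    rcases u'.cover i with c | c | c | c | c
    · exact k u'.bJ (pa'.1.trans od) i c
    · exact k u'.bF (pa'.2.trans od) i c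
    · exact k u'.bI od i c
    · by_contra hn
      have hβ := (ph_inv (h.cod ht) i).2 c
      rcases cc_ph (cc_of_cent (h.cod ht) t2 tz) c hn with K | ⟨γ, hγ, hn', -⟩
      · exact u'.not_two od (Ne.symm hn) fun a => ⟨K a, fun b => b.elim (· ▸ c) (· ▸ hβ)⟩
      · have := DFunLike.congr_fun (tz (swap i γ * swap i (t i)) (ph_mem
          (AltC.sign_dbl hn'.2.1 hn'.1) fun a ha => by
            have : a ≠ i := fun e => ha (e ▸ c)
            have : a ≠ γ := fun e => ha (e ▸ hγ)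
            have : a ≠ t i := fun e => ha (e ▸ hβ)
            simp only [mul_apply]; grind)) i
        simp only [mul_apply] at this
        have := sq_ap t2 i
        grind
    · exact u'.cf hp' ob tc i c
  have e1 := h.one (this ▸ ht)
  obtain ⟨s, s0, s1⟩ := hB.fresh p (w p) p
  have e2 := DFunLike.congr_fun u.ζ_eq s
  rw [e1, one_mul, restr_neg _ fun a => by have := H s a; grind] at e2
  exact s0 e2

theorem Pr.at (hB : Big ζ) (h : Pr ζ w w' r) {p q : Ω} (ha : AT ζ w p q) :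
    ∃ p' q', AT ζ w' p' q' ∧
      (∀ s t x', Df ζ p s → Df ζ q s → Df ζ p t → Df ζ q t → (w s = s ↔ w t = t) →
        r (tr ζ s * tr ζ t) x' → (∀ i, x' i = i ∨ x' i = ζ i) ∧ x' p' = p' ∧ x' q' = q') ∧
      ∀ x x', r x x' → ((∀ i, ζ i ≠ i → x i = i) ↔ ∀ i, ζ i ≠ i → x' i = i) := by
  have u := h.u2 hB
  have u' := h.symm.u2 hB
  obtain ⟨p', hp', ob⟩ := h.at1 hB ha
  have ev' := h.at2 hB ha hp' ob
  have fx' := h.fx' hB ha.fx ev'
  refine ⟨p', w' p', ⟨u'.q4 hp', rfl, fun s a b => ?_, fx'⟩, fun s t x' a1 a2 a3 a4 a5 hr => ?_,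
    fun x x' hr => ⟨fun a i hi => (h.l0 hB ha.fx).1 x x' hr a i fun c => hi c.1,
      fun a i hi => (h.symm.l0 hB fx').1 x' x hr a i fun c => hi c.1⟩⟩
  · by_contra! hn
    have := u'.one4 hp' ob s ⟨a.2.2.2.2.2.symm, hn⟩
    grind
  have k : CC (CU ζ w) (tr ζ s * tr ζ t) ∧ tr ζ s * tr ζ t ∈ ⁅CU ζ w, CU ζ w⁆ := by
    by_cases e : w s = s
    · exact ⟨u.tt_cc ⟨a1.2.2.2.2.2.symm, e⟩ ⟨a3.2.2.2.2.2.symm, a5.1 e⟩,
        u.tt_com ⟨a1.2.2.2.2.2.symm, e⟩ ⟨a3.2.2.2.2.2.symm, a5.1 e⟩⟩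
    · have b1 := u.bkJ.2 ⟨a1.2.2.2.2.2.symm, (ha.mv s a1 a2).resolve_left e⟩
      have b2 := u.bkJ.2 ⟨a3.2.2.2.2.2.symm, (ha.mv t a3 a4).resolve_left (a5.not.1 e)⟩
      exact ⟨u.bJ.c ▸ u.bJ.u.tt_cc b1 b2, u.bJ.c ▸ u.bJ.u.tt_com b1 b2⟩
  have k1 := h.cc hr k.1
  have k2 := h.com hr k.2
  refine ⟨fun i => ?_, u'.cf hp' ob k2 _ hp', u'.cf hp' ob k2 _ ((q4_inv u'.memν p').2 hp')⟩
  rcases u'.cover i with c | c | c | c | c
  · exact u'.bJ.u.ccb (u'.bJ.c ▸ k1) (u'.bJ.c ▸ k2) c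
  · exact u'.ccb k1 k2 c
  · exact absurd (fx' i c.2) c.1
  · exact .inl ((u'.ev ev').cc k1 (com_restr _ (fun _ => ph_inv) k2) c)
  · exact .inl (u'.cf hp' ob k2 _ c)

theorem ZC.z1 (hB : Big ζ) (h : ZC z ζ ι) (hw : w ∈ HU ζ) (hc : IsConj z (ι w))
    (hb : ∀ p, w p = p ∨ w p = ζ p) : w = ζ := by
  by_contra hn
  obtain ⟨g, hg⟩ := isConj_iff.1 hc
  obtain ⟨w', P⟩ := h.pair hB.ev hB.sq hw hn hg
  exact P.not_base hB hb

theorem ZC.zf (hB : Big ζ) (h : ZC z ζ ι) (hw : w ∈ HU ζ) (hc : IsConj z (ι w))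
    (hb : ∀ p, ζ p ≠ p → w p = ζ p) : w = ζ := by
  by_contra hn
  obtain ⟨g, hg⟩ := isConj_iff.1 hc
  obtain ⟨w', P⟩ := h.pair hB.ev hB.sq hw hn hg
  exact P.not_f0 hB hb

theorem ZC.zd (hB : Big ζ) (h : ZC z ζ ι) {a b c d : Ω} (hn : N4 a b c d) (ha : ζ a = a)
    (hb : ζ b = b) (hc : ζ c = c) (hd : ζ d = d) : ¬ IsConj z (ι (swap a b * swap c d)) := by
  intro hz
  obtain ⟨g, hg⟩ := isConj_iff.1 hz
  have hw : swap a b * swap c d ∈ HU ζ := ⟨AltC.sign_dbl hn.1 hn.2.2.2.2.2, by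
    rw [mul_assoc, AltC.fix_comm hc hd, ← mul_assoc, AltC.fix_comm ha hb, mul_assoc]⟩
  obtain ⟨w', P⟩ := h.pair hB.ev hB.sq hw (fun e => by
    have := DFunLike.congr_fun e a
    simp only [mul_apply] at this; grind) hg
  exact P.not_dbl hB hn ha hb hc hd rfl

end Cfsg.Lib.AltZ
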