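import Cfsg.Agent.AltC.Gam0
import Cfsg.Agent.AltC.Fus

/-! The normalised chart. -/

set_option autoImplicit false

namespace Cfsg.Lib.AltZ

open Equiv Equiv.Perm

variable {Ω : Type*} [DecidableEq Ω] [Fintype Ω] {G : Type*} [Group G]
  {z : G} {ζ : Perm Ω} {ι : Perm Ω → G}

theorem ZC.nice (hB : Big ζ) (h : ZC z ζ ι) {r α β : Ω} {g : G} (hg : GG ζ ι r α β g)
    {ε : Perm Ω → ℤˣ} (hε : Chr ζ ε)
    (ha : ∀ p q α β, Df ζ p q → ζ α = α → ζ β = β → α ≠ β →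
      ∃ θ, A0 z ζ (AltZ.rech z ι ε) p q α β θ) : Nice z ζ (AltZ.rech z ι ε) :=
  Gam.nice hB h hg hε (fun _ hw hc hb => (h.rech hB.ev hB.sq hε).z1 hB hw hc hb) ha

end Cfsg.Lib.AltZ
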