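import Cfsg.Agent.AltC.Pair3

/-! Existence of a chart with the fusion of the alternating group. -/

set_option autoImplicit false

namespace Cfsg.Lib.AltC

open Equiv Equiv.Perm

variable {G : Type*} [Group G] {R : Type*} [Fintype R] [DecidableEq R] {a v : G}
  {ψ : Perm R →* G}

omit [Fintype R] in
theorem cyc_cube {p q r : R} (h1 : p ≠ q) (h2 : p ≠ r) (h3 : q ≠ r) :
    (swap p q * swap p r) ^ 3 = 1 := by
  rw [pow_three']
  ext x
  simp only [mul_apply, one_apply]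
  grind (splits := 20)

omit [Fintype R] in
theorem fix_comm2 {s : Perm R} {p q r u : R} (h1 : s p = p) (h2 : s q = q) (h3 : s r = r)
    (h4 : s u = u) : s * (swap p q * swap r u) = swap p q * swap r u * s := by
  rw [← mul_assoc, ← fix_comm h1 h2, mul_assoc, ← fix_comm h3 h4, mul_assoc]

theorem Ch.psi_comm (h : Ch a v ψ) {s t : Perm R} (e : ψ s * ψ t = ψ t * ψ s) : s * t = t * s :=
  h.prComm (pr_psi s) (pr_psi t) e

omit [Fintype R] [DecidableEq R] in
theorem comm_psi {s t : Perm R} (e : s * t = t * s) : ψ s * ψ t = ψ t * ψ s := by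
  rw [← map_mul, e, map_mul]

theorem Gd.px (h : Gd a v ψ) (hR : Sz R) {p q r u : R} (hn : N4 p q r u) :
    PX a (ψ (swap p q * swap r u)) :=
  (h.px_iff hR ⟨(h.dbl _ _ _ _ hn).1, h.ψa _, fun i => by
    have := congrArg (· p) (h.prUniq (pr_psi _) (pr_V ((h.iv hR).1 i)))
    simp only [mul_apply, one_apply] at this
    grind⟩).2 (h.ψe _ (sign_dbl hn.1 hn.2.2.2.2.2))

theorem Gd.px_dbl [Finite G] (h : Gd a v ψ) (hR : Sz R) {d : G} (hx : PX a d) :
    ∃ p q r u, N4 p q r u ∧ d = ψ (swap p q * swap r u) := by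
  obtain ⟨p, q, r, u, -, hn, -, e, -⟩ := h.x1 hR hx
  exact ⟨p, q, r, u, hn, e⟩

theorem Gd.cyc [Finite G] (h : Gd a v ψ) (hR : Sz R) {p q r u : R} (hn : N4 p q r u) {z : G}
    (hz : z ∈ IL (ψ (swap p q * swap r u))) :
    ψ (swap p q * swap p r) * z = z * ψ (swap p q * swap p r) := by
  obtain ⟨c0, i0⟩ := h.dbl _ _ _ _ hn
  obtain ⟨v1, ψ1, h1⟩ := h.at c0
  have ce : sign (swap p q * swap p r) = 1 := sign_dbl hn.1 hn.2.1
  have e0 : ψ (swap p q * swap p r) * ψ (swap p q * swap r u) * (ψ (swap p q * swap p r))⁻¹ =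
      ψ (swap p r * swap q u) := by
    rw [← map_inv, ← map_mul, ← map_mul, conj_dbl, swap_comm p r]
    simp only [mul_apply]
    grind
  obtain ⟨y, y3, hy⟩ := h1.induced hR (κ := ψ (swap p q * swap p r)) (fun z hz => by
    rw [← h1.il_eq (isConj_iff.2 ⟨_, e0⟩) i0, ← e0]
    exact IL.conj hz _) (by rw [← map_pow, cyc_cube hn.1 hn.2.1 hn.2.2.2.1, map_one])
  obtain ⟨p', q', r', u', hn', ea⟩ := h1.px_dbl hR (h.px_symm hR (h.px hR hn))
  have i1 := (h.iv hR).1 (ea ▸ (h1.dbl _ _ _ _ hn').2)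
  have K : ∀ τ, sign τ = 1 → InV a v (ψ1 τ) → y * τ = τ * y := fun τ hτ i => by
    have := hy τ hτ
    rw [h.even ce i, mul_inv_cancel_right] at this
    exact mul_inv_eq_iff_eq_mul.1 (h1.psi_inj this).symm
  have fy := fix_of_cube hn' (K _ (sign_dbl hn'.1 hn'.2.2.2.2.2) (ea ▸ inV_a))
    (K _ (sign_dbl hn'.2.1 hn'.2.2.2.2.1) i1) y3
  obtain ⟨j, j3, ej⟩ := h.cube (c := ψ1 y)
    (ea ▸ comm_psi (fix_comm2 fy.1 fy.2.1 fy.2.2.1 fy.2.2.2)) (by rw [← map_pow, y3, map_one])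
  have ye := sign_of_cube y3
  have fj := fix_of_cube hn (h.psi_comm (ej ▸ h1.ψa y))
    (h.psi_comm (ej ▸ h1.even ye ((h1.iv hR).1 i0))) j3
  have fj' : j⁻¹ p = p ∧ j⁻¹ q = q ∧ j⁻¹ r = r ∧ j⁻¹ u = u := by
    simp only [inv_eq_iff_eq]
    exact ⟨fj.1.symm, fj.2.1.symm, fj.2.2.1.symm, fj.2.2.2.symm⟩
  have jc := fix_comm2 fj'.1 fj'.2.1 fj'.1 fj'.2.2.1
  have y1 : y = 1 := eq_one_of_cube y3 fy fun x z xz ox oz => by
    have te : sign (swap p' q' * swap x z) = 1 := sign_dbl hn'.1 xz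
    obtain ⟨x0, s, hx0, es⟩ := h.cent (ψ1 (swap p' q' * swap x z)) (ea ▸ comm_psi
      (((Commute.refl _).mul_right (sw_comm hn')).mul_left
        ((sw_comm (by grind)).mul_right (sw_comm (by grind)))).eq)
    have ps : Pr a v ψ _ s := ⟨x0, hx0, es⟩
    have c1 : s * (swap p q * swap p r * j⁻¹) = swap p q * swap p r * j⁻¹ * s := by
      refine h.prComm ps (pr_psi _) ?_
      have := hy _ te
      rw [map_mul ψ1 (y * _), map_mul ψ1 y, map_inv, ej] at this
      rw [← jc, map_mul ψ j⁻¹, map_inv]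
      calc _ = (ψ j)⁻¹ * (ψ j * ψ1 (swap p' q' * swap x z) * (ψ j)⁻¹) *
          ψ (swap p q * swap p r) := by group
        _ = _ := by rw [← this]; group
    have fs := fix_of_cyc hn (h.prComm ps (pr_psi _) (h1.ψa _))
      (h.prComm ps (pr_psi _) (h1.even te ((h1.iv hR).1 i0))) fj' c1
    rw [← mul_assoc, fix_comm2 fs.1 fs.2.1 fs.1 fs.2.2.1, mul_assoc, mul_assoc _ j⁻¹,
      mul_right_inj] at c1
    have c2 : j * s = s * j := Commute.inv_left_iff.1 (show Commute j⁻¹ s from c1.symm)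
    have c3 := h1.psi_comm (s := y) (t := swap p' q' * swap x z) (by
      rw [ej, es, ← mul_assoc, h.even (sign_of_cube j3) hx0, mul_assoc, comm_psi c2, mul_assoc])
    rw [← mul_assoc, ← fix_comm fy.1 fy.2.1, mul_assoc, mul_assoc] at c3
    exact mul_left_cancel c3
  obtain ⟨τ, hτ, rfl⟩ := h1.mem_il.1 hz
  have := hy τ hτ
  rwa [y1, one_mul, inv_one, mul_one, mul_inv_eq_iff_eq_mul] at this

theorem Gd.fixQ [Finite G] (h : Gd a v ψ) (hR : Sz R) {w : G} (hw : Ch a w ψ) {p q r u : R}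
    (hn : N4 p q r u) {z : G} (hz : z ∈ IL (ψ (swap p q * swap r u))) {s : Perm R}
    (ps : Pr a w ψ z s) : s p = p ∧ s q = q ∧ s r = r ∧ s u = u := by
  obtain ⟨c0, i0⟩ := h.dbl _ _ _ _ hn
  obtain ⟨v1, ψ1, h1⟩ := h.at c0
  exact fix_of_cyc hn (j := 1) (hw.prComm ps (pr_psi _) (((h1.iv hR).2 inV_a).2 z hz).symm)
    (hw.prComm ps (pr_psi _) (i0.2 z hz).symm) (by simp)
    (by rw [mul_one]; exact hw.prComm ps (pr_psi _) (h.cyc hR hn hz).symm)

theorem Gd.isSwap [Finite G] (h : Gd a v ψ) (hR : Sz R) {x : G} {s : Perm R}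
    (hd : IsConj a (x * ψ s)) (s2 : s * s = 1) (so : sign s = -1) (hx : x = 1 ∨ x = a) :
    ∃ p q, p ≠ q ∧ s = swap p q := by
  by_contra! H
  have hxV : InV a v x := hx.elim (· ▸ inV_one) (· ▸ inV_a)
  have xc : ∀ z, ψ z * x = x * ψ z := fun z => by
    rcases hx with rfl | rfl
    · simp
    · exact h.ψa z
  have dc : ∀ t, s * t = t * s → x * ψ s * ψ t = ψ t * (x * ψ s) := fun t e => by
    rw [mul_assoc, comm_psi e, ← mul_assoc, ← xc, mul_assoc]
  have h1 := sq_ap s2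
  have W : ∀ p q, N4 p (s p) q (s q) → ∃ v0 ψ0, Gd (R := R) (ψ (swap p (s p) * swap q (s q))) v0 ψ0 ∧
      Ch (ψ (swap p (s p) * swap q (s q))) (ψ (swap p q * swap (s p) (s q))) ψ0 ∧
      PX (ψ (swap p (s p) * swap q (s q))) (x * ψ s) := fun p q hn => by
    obtain ⟨c0, i0⟩ := h.dbl _ _ _ _ hn
    obtain ⟨v0, ψ0, h0⟩ := h.at c0
    have h0' := h0.rechart hR i0 (fun e => by
      have := congrArg (· p) (h.psi_inj (e.trans (map_one ψ).symm))
      simp only [mul_apply, one_apply] at this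
      grind) fun e => by
      have := congrArg (· p) (h.psi_inj e)
      simp only [mul_apply] at this
      grind
    refine ⟨v0, ψ0, h0, h0', (h0'.px_iff hR ⟨c0.symm.trans hd, dc _ ?_, fun i => ?_⟩).2
      (dc _ (cross_comm s2 hn).symm)⟩
    · rw [mul_assoc, tau_comm s2, ← mul_assoc, ← mul_assoc, tau_comm s2]
    · have p1 := pr_mk (ψ := ψ) hxV s
      have a1 := sign_dbl hn.1 hn.2.2.2.2.2
      have a2 := sign_dbl hn.2.1 hn.2.2.2.2.1
      rcases (h0'.iv hR).1 i with e | e | e | e <;> rw [e] at p1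
      · simp [h.prUniq p1 (pr_V inV_one)] at so
      · rw [h.prUniq p1 (pr_psi _), a1] at so; exact absurd so (by decide)
      · rw [h.prUniq p1 (pr_psi _), a2] at so; exact absurd so (by decide)
      · rw [h.prUniq p1 (h.prMul (pr_psi _) (pr_psi _)), map_mul, a1, a2] at so
        exact absurd so (by decide)
  obtain ⟨p, hp⟩ := ne_one_ap (s := s) fun e => by simp [e] at so
  obtain ⟨q, hn⟩ : ∃ q, N4 p (s p) q (s q) := by
    by_contra! H'
    exact H p (s p) hp.symm (Equiv.ext fun z => by have := H' z; clear W H H'; grind)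
  obtain ⟨vd, ψd, hd'⟩ := h.at hd
  have te : sign (swap q (s q) * s) = 1 := by simp [so, hn.2.2.2.2.2]
  have Yd : ψ (swap q (s q) * s) ∈ IL (x * ψ s) :=
    mem_of_pairs (s := s) ((IL (x * ψ s)).comap ψ) (fun p q hn => by
      obtain ⟨v0, ψ0, h0, -, px⟩ := W p q hn
      exact hd'.px_mem hR (h0.px_symm hR px))
      (by rw [mul_assoc, ← mul_assoc s, ← tau_comm s2, mul_assoc, s2, mul_one, swap_mul_self]) te
      fun z => by rw [mul_apply]; clear W H; grind
  have Ya : ψ (swap q (s q) * s) ∈ IL a := h.mem_il.2 ⟨_, te, rfl⟩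
  obtain ⟨v0, ψ0, h0, h0', px⟩ := W p q hn
  clear W H
  obtain ⟨x0, t, hx0, et⟩ := h0'.cent (ψ (swap q (s q) * s)) (comm_psi
    (((sw_comm hn).symm.mul_right (Commute.refl _)).mul_left
      (Commute.mul_right (tau_comm s2 p).symm (tau_comm s2 q).symm)).eq)
  have pt : Pr _ _ ψ0 _ t := ⟨x0, hx0, et⟩
  have tod : sign t = -1 := (sign_cases t).resolve_left fun e => by
    have := congrArg (· p) (h.psi_comm (s := swap q (s q) * s) (t := swap p q * swap (s p) (s q))
      (by rw [et, mul_assoc, h0'.ψe t e, ← mul_assoc, h0'.commV hx0 inV_v, mul_assoc]))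
    simp only [mul_apply] at this
    grind
  have K : ∀ p' q' r' u' r1 r2, N4 p' q' r' u' → r1 ≠ r2 → Off p' q' r' u' r1 →
      Off p' q' r' u' r2 → a = ψ0 (swap p' q' * swap r' u') →
      x * ψ s = ψ0 (swap p' q' * swap r1 r2) → False := fun p' q' r' u' r1 r2 n1 a1 a2 a3 ea ed => by
    have n2 : N4 p' q' r1 r2 := by clear h1; grind
    have f1 := h0.fixQ hR h0' n1 (ea ▸ Ya) pt
    have f2 := h0.fixQ hR h0' n2 (ed ▸ Yd) pt
    obtain ⟨z, hz⟩ := ne_one_ap (s := t) fun e => by simp [e] at tod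
    have o1 : Off p' q' r' u' z := by clear h1; grind
    have o2 : r1 ≠ z ∧ r2 ≠ z := by clear h1; grind
    have j3 := cyc_cube a1 o2.1 o2.2
    have je := sign_of_cube j3
    obtain ⟨j, j3', ej⟩ := h.cube (c := ψ0 (swap r1 r2 * swap r1 z)) (ea ▸ comm_psi
      (((sw_comm (by clear h1; grind)).mul_right (sw_comm (by clear h1; grind))).mul_left
        ((sw_comm (by clear h1; grind)).mul_right (sw_comm (by clear h1; grind)))).eq)
      (by rw [← map_pow, j3, map_one])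
    have fj := fix_of_cube hn (h.psi_comm (ej ▸ h0'.ψa _)) (h.psi_comm (ej ▸ h0'.ψe _ je)) j3'
    have := congrArg (· r2) (h0'.prComm (h0'.prMul (pr_psi (swap p' q' * swap r1 r2)) pt)
      (pr_psi (swap r1 r2 * swap r1 z)) (by
        rw [← ed, ej, mul_assoc x, ← map_mul, ← mul_assoc s, ← tau_comm s2, mul_assoc _ s, s2, mul_one,
          mul_assoc, comm_psi (fix_comm fj.2.2.1 fj.2.2.2), ← mul_assoc, ← xc, mul_assoc]))
    simp only [mul_apply] at this
    clear h1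
    grind
  obtain ⟨p', q', r', u', n1, ea⟩ := h0.px_dbl hR (h.px_symm hR (h.px hR hn))
  obtain ⟨b1, b2, b3, b4, n3, ed⟩ := h0.px_dbl hR px
  obtain ⟨r1, r2, a1, a2, a3, e | e⟩ := dbl_split n1 ⟨b1, b2, b3, b4, n3, rfl⟩
    (h0.psi_comm (by
      rw [← ea, ← ed, mul_assoc, h.ψa, ← mul_assoc, h.commV hxV inV_a, mul_assoc])) fun e => by
    rcases h.odd_comm so hxV ((h.iv hR).1 (ea ▸ (h0.dbl _ _ _ _ n1).2)) (ed ▸ comm_psi e)
      with e' | e'
    · have := congrArg (· p') (h0.psi_inj (e'.trans (map_one ψ0).symm))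
      simp only [mul_apply, one_apply] at this
      clear K h1
      grind
    · have := congrArg (· p') (h0.psi_inj (e'.trans ea))
      simp only [mul_apply] at this
      clear K h1
      grind
  · exact K _ _ _ _ _ _ n1 a1 a2 a3 ea (e ▸ ed)
  · exact K r' u' p' q' _ _ (by clear K h1; grind) a1 (by clear K h1; grind)
      (by clear K h1; grind) ((sw_comm n1).eq ▸ ea) (e ▸ ed)

theorem Gd.gch [Finite G] (h : Gd a v ψ) (hR : Sz R) : GCh a v ψ where
  toCh := h.toCh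
  cls := fun d hd hc => by
    by_cases i : IV a d
    · rcases (h.iv hR).1 i with e | e | e | e
      · exact absurd (by simpa [e] using hd) h.a1
      · exact .inl e
      · exact .inr (.inl e)
      · exact .inr (.inr (.inl e))
    have hp : Pair a d := ⟨hd, hc, i⟩
    obtain ⟨x, s, hx, e, s2, -, so⟩ := h.pair_dec hR hp
    rcases sign_cases s with hs | hs
    · obtain ⟨p, q, r, u, hn, e'⟩ := h.px_dbl hR ((h.px_iff hR hp).2 (by
        rw [e, mul_assoc, h.ψe _ hs, ← mul_assoc, h.commV hx inV_v, mul_assoc]))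
      exact .inr (.inr (.inr (.inl ⟨p, q, r, u, n4_iff.2 hn, e'⟩)))
    · obtain ⟨p, q, hpq, rfl⟩ := h.isSwap hR (e ▸ hd) s2 hs (so hs)
      exact .inr (.inr (.inr (.inr ⟨p, q, hpq, (so hs).imp (fun e' => by rw [e, e', one_mul])
        fun e' => by rw [e, e']⟩)))
  good := fun p q r u hn => by
    have hn := n4_iff.1 hn
    obtain ⟨c0, i0⟩ := h.dbl _ _ _ _ hn
    have K : ∀ g, g * a * g⁻¹ = ψ (swap p q * swap r u) → ∀ y, sign y = 1 →
        ψ (swap p q * swap p r) * (g * ψ y * g⁻¹) = g * ψ y * g⁻¹ * ψ (swap p q * swap p r) :=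
      fun g e y hy => h.cyc hR hn (e ▸ IL.conj (h.mem_il.2 ⟨y, hy, rfl⟩) g)
    obtain ⟨g, e⟩ := isConj_iff.1 c0
    rcases ((h.toCh.conj g).iv hR).1 (e ▸ i0) with e' | e' | e' | e'
    · have := congrArg (· p) (h.psi_inj (e'.trans (map_one ψ).symm))
      simp only [mul_apply, one_apply] at this
      clear K
      grind
    · have := congrArg (· p) (h.psi_inj (e'.trans e))
      simp only [mul_apply] at this
      clear K
      grind
    · exact ⟨g, e, e'.symm, K g e⟩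
    · have e1 : g * ψ (swap p q) * a * (g * ψ (swap p q))⁻¹ = ψ (swap p q * swap r u) := by
        rw [mul_assoc g, h.ψa, ← e]; group
      refine ⟨_, e1, ?_, K _ e1⟩
      rw [mul_assoc g, h.ψo _ (sign_swap hn.1), e']; group

theorem Ch.exists_good [Finite G] (h : Ch a v ψ) (hG : ∀ K : Subgroup G, K.index ≠ 2)
    (h6 : 6 ≤ Fintype.card R) (hm : Fintype.card R % 4 = 2 ∨ Fintype.card R % 4 = 3) :
    ∃ ψ' : Perm R →* G, GCh a v ψ' := by
  obtain ⟨ψ', h'⟩ := h.exists_gd ⟨h6, hm⟩ hG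
  exact ⟨ψ', h'.gch ⟨h6, hm⟩⟩

end Cfsg.Lib.AltC
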