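import Cfsg.Agent.AltC.StpB
import Cfsg.Agent.AltC.Iso
import Cfsg.Agent.AltC.Good
import Cfsg.Agent.AltC.Build
import Cfsg.Agent.Trans.AlpOdd

/-! The induction step in the recognition of alternating groups. -/

set_option autoImplicit false
set_option linter.unusedSectionVars false

namespace Cfsg.Lib.AltZ

open Equiv Equiv.Perm
open Cfsg.Lib.AltC (N4 Off sq_ap cm_ap sign_cases InV)
open Cfsg.Lib.AltC.Spl Stp

universe u

namespace Stp

variable {Ω : Type*} [DecidableEq Ω] [Fintype Ω] {ζ : Perm Ω} {p q : Ω}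

theorem card_off (hpq : Df ζ p q) :
    Fintype.card {i // Off p (ζ p) q (ζ q) i} + 4 = Fintype.card Ω := by
  have h1 : Fintype.card {i // ¬ Off p (ζ p) q (ζ q) i} = 4 := by
    rw [Fintype.card_subtype, show (Finset.univ.filter fun i => ¬ Off p (ζ p) q (ζ q) i) =
      {p, ζ p, q, ζ q} from by ext i; simp; tauto, Finset.card_eq_four]
    exact ⟨_, _, _, _, hpq.1, hpq.2.1, hpq.2.2.1, hpq.2.2.2.1, hpq.2.2.2.2.1, hpq.2.2.2.2.2, rfl⟩
  have h2 := Fintype.card_subtype_compl (Off p (ζ p) q (ζ q))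
  have h3 := Fintype.card_subtype_le (Off p (ζ p) q (ζ q))
  omega

theorem off_iff (h2 : ζ * ζ = 1) (i : Ω) : Off p (ζ p) q (ζ q) (ζ i) ↔ Off p (ζ p) q (ζ q) i :=
  ⟨fun h => sq_ap h2 i ▸ off_ap h2 h, off_ap h2⟩

theorem of_ζ (h2 : ζ * ζ = 1) (hpq : Df ζ p q) :
    ofSubtype (ζ.subtypePerm (off_iff (p := p) (q := q) h2)) = tr ζ p * tr ζ q * ζ := by
  ext i
  rw [z'_ap h2 hpq]
  split_ifs with h
  · exact ofSubtype_subtypePerm_of_mem _ h
  · exact ofSubtype_apply_of_not_mem _ h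

theorem of_C1 (h2 : ζ * ζ = 1) {x : Perm {i // Off p (ζ p) q (ζ q) i}}
    (hx : x ∈ HU (ζ.subtypePerm (off_iff h2))) : ofSubtype x ∈ C1 ζ p q := by
  refine ⟨⟨by rw [sign_ofSubtype, hx.1], ?_⟩, ofSubtype_apply_of_not_mem _ (by simp),
    ofSubtype_apply_of_not_mem _ (by simp)⟩
  ext i
  by_cases h : Off p (ζ p) q (ζ q) i
  · rw [mul_apply, mul_apply, ofSubtype_apply_of_mem _ h, ofSubtype_apply_of_mem _ (off_ap h2 h)]
    exact congrArg Subtype.val (cm_ap hx.2 ⟨i, h⟩)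
  · rw [mul_apply, mul_apply, ofSubtype_apply_of_not_mem _ h,
      ofSubtype_apply_of_not_mem _ (mt (off_iff h2 i).1 h)]

theorem C1_of (h2 : ζ * ζ = 1) {k : Perm Ω} (hk : k ∈ C1 ζ p q) :
    ∃ x ∈ HU (ζ.subtypePerm (off_iff (p := p) (q := q) h2)), ofSubtype x = k := by
  have e := ofSubtype_subtypePerm (C1.off hk) fun i hi => by_contra fun h => hi (C1.fix hk h)
  refine ⟨k.subtypePerm (C1.off hk), ⟨by rw [← sign_ofSubtype, e, hk.1.1], ?_⟩, e⟩
  ext i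
  exact cm_ap hk.1.2 i

theorem ten_le (hB : Big ζ) : 10 ≤ Fintype.card Ω ∧ (Fintype.card Ω = 10 →
    ∀ α β, ζ α = α → ζ β = β → α ≠ β → ∀ i, ζ i = i → i = α ∨ i = β) := by
  have h1 := card_fix_add ζ
  have h2 := hB.h8
  obtain ⟨α, β, hn, hα, hβ⟩ := hB.fix2
  have M : ∀ i, ζ i = i → i ∈ Finset.univ.filter fun p => ζ p = p := fun i hi =>
    Finset.mem_filter.2 ⟨Finset.mem_univ _, hi⟩
  have h3 := Finset.one_lt_card.2 ⟨α, M α hα, β, M β hβ, hn⟩
  refine ⟨by omega, fun h α β hα hβ hn i hi => by_contra fun h' => ?_⟩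
  have h4 := Finset.two_lt_card.2 ⟨α, M α hα, β, M β hβ, i, M i hi, hn,
    fun e => h' (.inl e.symm), fun e => h' (.inr e.symm)⟩
  omega

end Stp

/-- The induction step. -/
theorem ZC.step {G : Type u} [Group G] [Finite G] {Ω : Type} [Fintype Ω] [DecidableEq Ω] {z : G}
    {ζ : Perm Ω} {ι : Perm Ω → G} (hB : Big ζ) (h : ZC z ζ ι) (hG : ∀ K : Subgroup G, K.index ≠ 2)
    (hN : Nice z ζ ι)
    (IH : ∀ {X : Type u} [Group X] [Finite X] {Ω' : Type} [Fintype Ω'] [DecidableEq Ω'] (z' : X)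
      (ζ' : Perm Ω') (ι' : Perm Ω' → X), Fintype.card Ω' + 4 = Fintype.card Ω → ζ' * ζ' = 1 →
      sign ζ' = 1 → ζ' ≠ 1 → ZC z' ζ' ι' → (∀ K : Subgroup X, K.index ≠ 2) →
      Nonempty (X ≃* alternatingGroup Ω') ∨ (Fintype.card Ω' = 6 ∧
        ∃ (F : Type) (_ : Field F) (_ : Fintype F), Fintype.card F = 7 ∧
          Nonempty (X ≃* Matrix.ProjectiveSpecialLinearGroup (Fin 2) F))) :
    Nonempty (G ≃* alternatingGroup Ω) := by
  haveI : Fact (Nat.Prime 2) := ⟨Nat.prime_two⟩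
  obtain ⟨α, β, hn, hα, hβ⟩ := hB.fix2
  obtain ⟨p, p0, -⟩ := hB.fresh α α α
  obtain ⟨q, q0, q1, q2, -⟩ := hB.fresh p p p
  have df : Df ζ p q := df_of hB.sq p0 q0 q1 q2
  obtain ⟨a, v, Y, S⟩ : ∃ a v Y, St z ζ ι p q a v Y :=
    ⟨_, _, Subgroup.centralizer {ι (tr ζ p * tr ζ q), ι (sw ζ p q)}, hB, h, df, rfl, rfl,
      fun c => by simp [Subgroup.mem_centralizer_iff, eq_comm]⟩
  let W : Subgroup Y :=
    { carrier := {y | InV a v y}
      mul_mem' := fun {x y} hx hy => by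
        have := divV S.a2 S.v2 S.av hx hy
        rwa [inv_eq_of_mul_eq_one_right (sqV S.a2 S.v2 S.av hy)] at this
      one_mem' := .inl rfl
      inv_mem' := fun {x} hx => by
        simpa using divV S.a2 S.v2 S.av (.inl rfl) hx }
  haveI : W.Normal := ⟨fun x hx g => by
    change InV a v (g * x * (g : G)⁻¹)
    rwa [centV S.hY hx g.2, mul_inv_cancel_right]⟩
  let π := QuotientGroup.mk' W
  have πk : ∀ y : Y, π y = 1 ↔ InV a v y := fun y => QuotientGroup.eq_one_iff y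
  let X0 := pResidual 2 (Y ⧸ W)
  have f2 : ∀ k (hk : k ∈ C1 ζ p q), π ⟨ι k, S.memY hk⟩ ∈ X0 := fun k hk =>
    (QuotientGroup.eq_one_iff _).1 (S.F2 hN (Trans.isPGroup_quotient_pResidual (p := 2))
      ((QuotientGroup.mk' X0).comp π) (by
        rw [MonoidHom.comp_apply, (πk _).2 AltC.inV_a, map_one]) hk)
  have f1 : ∀ y : Y, π y * π ⟨_, S.z'Y⟩ = π ⟨_, S.z'Y⟩ * π y →
      ∃ x k, ∃ hk : k ∈ C1 ζ p q, InV a v x ∧ y = x * ι k ∧ π y = π ⟨ι k, S.memY hk⟩ :=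
    fun y hy => by
      have h1 := (πk (y * ⟨_, S.z'Y⟩ * y⁻¹ * (⟨_, S.z'Y⟩ : Y)⁻¹)).1 (by
        rw [map_mul, map_mul, map_mul, hy]; simp)
      have h2 := S.F1 y.2 h1 (inv_mul_cancel_right _ _).symm
      obtain ⟨x, k, hx, hk, e⟩ := S.dec y.2 (mul_inv_eq_iff_eq_mul.1 (mul_inv_eq_one.1 h2))
      refine ⟨x, k, hk, hx, e, ?_⟩
      rw [show y = ⟨x, memV S.av S.hY hx⟩ * ⟨_, S.memY hk⟩ from Subtype.ext e, map_mul,
        (πk _).2 hx, one_mul]
  have cd := card_off df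
  obtain ⟨c10, c6⟩ := ten_le hB
  let ζ' := ζ.subtypePerm (off_iff (p := p) (q := q) hB.sq)
  have eζ : ofSubtype ζ' = _ := of_ζ hB.sq df
  have se : sign ζ' = 1 := by rw [← sign_ofSubtype, eζ]; exact (z'_C1 hB df).1.1
  have s1 : ζ' ≠ 1 := fun e => S.z'1 (by rw [S.ez, ← eζ, e, map_one, h.one])
  classical
  let ι' : Perm {i // Off p (ζ p) q (ζ q) i} → X0 := fun x =>
    if hx : x ∈ HU ζ' then ⟨_, f2 _ (of_C1 hB.sq hx)⟩ else 1
  have eι : ∀ x (hx : x ∈ HU ζ'), (ι' x).1 = π ⟨_, S.memY (of_C1 hB.sq hx)⟩ := fun x hx => by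
    simp only [ι', dif_pos hx]
  have ez : (ι' ζ').1 = π ⟨_, S.z'Y⟩ := by
    rw [eι _ ⟨se, rfl⟩]; congr 2; rw [eζ, S.ez]
  have e := IH (ι' ζ') ζ' ι' cd (by ext i; exact sq_ap hB.sq i) se s1
    ⟨fun {x y} hx hy => Subtype.ext (by
      rw [Subgroup.coe_mul, eι _ hx, eι _ hy, eι _ (mul_mem hx hy), ← map_mul]
      congr 1
      exact Subtype.ext ((congrArg ι (map_mul ofSubtype x y)).trans
        (h.mul (of_C1 hB.sq hx).1 (of_C1 hB.sq hy).1))),
    fun {x} hx e => ofSubtype_injective (by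
      rw [map_one]
      exact S.eq_one (of_C1 hB.sq hx) ((πk _).1 ((eι x hx).symm.trans (congrArg Subtype.val e)))),
    rfl, fun c hc => by
      obtain ⟨y, hy⟩ := QuotientGroup.mk'_surjective W c.1
      obtain ⟨x, k, hk, -, -, e⟩ := f1 y (by
        rw [← ez]; change QuotientGroup.mk' W y * _ = _ * QuotientGroup.mk' W y
        rw [hy]; exact congrArg Subtype.val hc)
      obtain ⟨x, hx, rfl⟩ := C1_of hB.sq hk
      exact ⟨x, hx, Subtype.ext (by rw [eι _ hx, ← e]; exact hy)⟩⟩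
    Trans.forall_index_ne_two_pResidual
  obtain ⟨θ, T⟩ := hN.a0 p q α β df hα hβ hn
  obtain ⟨t1, t2, t3⟩ := S.theta hα hβ hn
  obtain ⟨r1, r2, -⟩ := S.rho hα hβ hn T
  have hm := hB.hm
  have m := tr_swap_mem hB.sq p0 hα hβ hn
  obtain ⟨ψ, ρ, ζ0, P, ρa, ρv, ρψ, ze, ψz⟩ := AltC.exists_pch S.a2 S.a1 S.v2 S.av S.v1 S.va
    (by omega) (by omega) Y S.hY π (QuotientGroup.mk'_surjective W) πk X0 e S.z'Y S.z'2
    (fun hz => S.z'1 (S.K_eq_one S.z'K hz))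
    (S.z'_of_comm _ fun x hx y hy => Subgroup.commutator_mem_commutator (S.memY hx) (S.memY hy))
    (fun y hy => by
      obtain ⟨x, k, hk, hx, e1, e2⟩ := f1 y hy
      refine ⟨e2 ▸ f2 k hk, fun h2 => Subtype.ext ?_, fun h6 => ?_⟩
      · have e3 : (y * y).1 = ι (k * k) := by
          rw [Subgroup.coe_mul, e1, h.mul hk.1 hk.1, mul_assoc, ← mul_assoc (ι k),
            centV S.hY hx (S.memY hk), mul_assoc, ← mul_assoc, sqV S.a2 S.v2 S.av hx, one_mul]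
        have := (πk (y * y)).1 (by rw [map_mul, h2])
        rw [e3] at this ⊢
        rw [S.eq_one (mul_mem hk hk) this, h.one]; rfl
      · have e3 : ι (tr ζ p * swap α β) * ι k * (ι (tr ζ p * swap α β))⁻¹ = ι k := by
          rw [mul_inv_eq_iff_eq_mul, h.comm_iff m hk.1, eq_comm, ← mul_inv_eq_iff_eq_mul,
            ← conj_mul, (C1.tr hk).1, mul_inv_eq_iff_eq_mul.2 (swap_comm_of ?_)]
          have a1 := c6 (by omega) α β hα hβ hn _ ((fix_iff hk.1.2 α).2 hα)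
          have a2 := c6 (by omega) α β hα hβ hn _ ((fix_iff hk.1.2 β).2 hβ)
          have a3 := k.injective.ne hn
          grind
        convert divV S.a2 S.v2 S.av (conjV S.a2 (mul_inv_eq_iff_eq_mul.1 t2) t3 hx) hx using 1
        rw [e1, ← conj_mul, e3]; group)
    t1 (mul_inv_eq_iff_eq_mul.1 t2) t3 (fun u ua uv hu => S.F3 hN ua uv hu) r1 r2
  have C := P.ch (by omega) (by omega) ρa ρv ρψ (P.inj 1 _ (.inl rfl) (by
    rw [one_mul, map_mul, ψz, S.z'2])) ze (fun e => S.z'1 (by rw [← ψz, e, map_one]))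
    fun c hc => S.norm (by rwa [ψz, S.aaz] at hc)
  obtain ⟨ψ', C'⟩ := C.exists_good hG (by omega) (by omega)
  obtain ⟨f⟩ := C'.iso (by omega)
  exact ⟨f.trans (Fintype.equivOfCardEq (by simpa using cd)).altCongrHom⟩

end Cfsg.Lib.AltZ
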