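import Cfsg.Agent.AltC.Tv
import Cfsg.Agent.AltC.Bad
import Cfsg.Agent.AltC.AlA
import Cfsg.Agent.AltC.Al0
import Cfsg.Agent.AltC.Gam
import Cfsg.Agent.AltC.Stp
import Cfsg.Agent.AltC.Base

/-! Kondo's characterisation of the alternating groups by the centraliser of any involution. -/

set_option autoImplicit false

namespace Cfsg.Lib.AltZ

open Equiv Equiv.Perm
open Cfsg.Lib.AltC (N4 sq_ap cm_ap)

universe u

theorem ZC.beta {Ω : Type*} [DecidableEq Ω] [Fintype Ω] {G : Type*} [Group G] [Finite G] {z : G}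
    {ζ : Perm Ω} {ι : Perm Ω → G} (hB : Big ζ) (h : ZC z ζ ι)
    (hG : ∀ K : Subgroup G, K.index ≠ 2) :
    ∃ ι' : Perm Ω → G, ZC z ζ ι' ∧ ∃ r α β g, GG ζ ι' r α β g := by
  obtain ⟨μ, hμ⟩ := exists_full hB
  obtain ⟨ε, hε, r, c, g, hr, hc, ht⟩ := h.exists_tv hB hG hμ
  have h' := h.rech hB.ev hB.sq hε
  rcases hc with ⟨α, a, b, rfl⟩ | rfl
  · exact ⟨_, h', r, α, μ α, g, ht.gg hB hμ hr a b⟩
  obtain ⟨α, β, hn, hα, hβ⟩ := hB.fix2
  obtain ⟨α, hα, hα'⟩ : ∃ α, ζ α = α ∧ μ α ≠ α := by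
    by_cases e : μ α = α
    · exact ⟨β, hβ, fun e' => hn (hμ.one _ _ e e')⟩
    · exact ⟨α, hα, e⟩
  by_cases H : ∃ γ, ζ γ = γ ∧ Df μ α γ
  · obtain ⟨γ, a, b⟩ := H
    exact h'.tv_bad hB hμ hr hα a b ht
  have e : μ * ζ = tr μ α := by
    ext i
    have := sq_ap hμ.sq α
    have := hμ.fx α hα
    by_cases hi : ζ i = i
    · by_cases h1 : μ i = i
      · simp only [mul_apply, tr]; grind
      · have : i = α ∨ i = μ α := by
          by_contra! hn
          exact H ⟨i, hi, df_of hμ.sq hα' h1 hn.1 hn.2⟩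
        simp only [mul_apply, tr]; grind
    · have := hμ.mv (ζ i) (ζ.injective.ne hi)
      have := sq_ap hB.sq i
      simp only [mul_apply, tr]; grind
  exact ⟨_, h', r, α, μ α, g, (e ▸ ht).gg hB hμ hr hα hα'⟩

theorem main : MainAlt.{u} := by
  intro G _ _ Ω _ _ z ζ ι
  induction hn : Fintype.card Ω using Nat.strong_induction_on generalizing G Ω with
  | _ n ih =>
  subst hn
  intro h2 he h1 hm h hG
  by_cases h4 : ζ.support.card = 4
  · exact h.base h2 he h4 hm hG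
  have hB : Big ζ := ⟨h2, he, hm, by
    have a := (sign_invol h2).resolve_right fun a => by rw [he] at a; exact absurd a.1 (by decide)
    have b : ζ.support.card ≠ 0 := fun e => h1 (card_support_eq_zero.1 e)
    omega⟩
  obtain ⟨ι1, h', r, α, β, g, hg⟩ := h.beta hB hG
  obtain ⟨p, q, hpq, hz⟩ := h'.alpha_pair hB hG hg
  obtain ⟨ε, hε, ha⟩ := h'.alpha0 hB hpq hz
  refine .inl ((h'.rech he h2 hε).step hB hG (h'.nice hB hg hε ha) ?_)
  intro X _ _ Ω' _ _ z' ζ' ι' hc a b c d e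
  exact ih _ (by omega) z' ζ' ι' rfl a b c (by omega) d e

end Cfsg.Lib.AltZ
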