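import Cfsg.Agent.AltC.Zc
import Mathlib.Data.Set.Finite.Lemmas

/-! The base group of even products of cycles of an involution. -/

set_option autoImplicit false
set_option linter.unusedSectionVars false

namespace Cfsg.Lib.AltZ

open Equiv Equiv.Perm
open Cfsg.Lib.AltC (N4 sq_ap cm_ap sign_cases)

variable {Ω : Type*} [DecidableEq Ω] [Fintype Ω] {ζ μ x y : Perm Ω}

theorem b0_ap (h : μ * μ = 1) (hx : ∀ p, x p = p ∨ x p = μ p) (p : Ω) : x (μ p) = μ (x p) := by
  have a := hx p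
  have b := hx (μ p)
  have c := sq_ap h p
  have i : x p = x (μ p) → p = μ p := x.injective.eq_iff.1
  grind

theorem b0_mu (h : μ * μ = 1) (hx : ∀ p, x p = p ∨ x p = μ p) : x * μ = μ * x :=
  Equiv.ext (b0_ap h hx)

theorem b0_sq (h : μ * μ = 1) (hx : ∀ p, x p = p ∨ x p = μ p) : x * x = 1 := by
  ext p
  have a := hx p
  have b := b0_ap h hx p
  have c := sq_ap h p
  simp only [mul_apply, one_apply]; grind

theorem b0_comm (h : μ * μ = 1) (hx : ∀ p, x p = p ∨ x p = μ p) (hy : ∀ p, y p = p ∨ y p = μ p) :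
    x * y = y * x := by
  ext p
  have a := hx p
  have b := b0_ap h hx p
  have a' := hy p
  have b' := b0_ap h hy p
  simp only [mul_apply]; grind

theorem b0_mul (h : μ * μ = 1) (hx : ∀ p, x p = p ∨ x p = μ p) (hy : ∀ p, y p = p ∨ y p = μ p)
    (p : Ω) : (x * y) p = p ∨ (x * y) p = μ p := by
  have a := hx p
  have b := b0_ap h hx p
  have a' := hy p
  have c := sq_ap h p
  simp only [mul_apply]; grind

theorem b0_tr (h : μ * μ = 1) (q p : Ω) : tr μ q p = p ∨ tr μ q p = μ p := by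
  have := sq_ap h q
  simp only [tr]; grind

theorem b0_restr (S : Ω → Prop) (hx : ∀ p, x p = p ∨ x p = μ p) (p : Ω) :
    restr S x p = p ∨ restr S x p = μ p := by
  classical
  by_cases hp : S p
  · by_cases h : ∀ p, S (x p) ↔ S p
    · rw [restr_pos h hp]; exact hx p
    · rw [restr, dif_neg h]; exact .inl rfl
  · exact .inl (restr_neg x hp)

theorem Bs.sq (h : μ * μ = 1) (hx : Bs μ x) : x * x = 1 := b0_sq h hx.2

theorem Bs.inv (h : μ * μ = 1) (hx : Bs μ x) : x⁻¹ = x := inv_eq_of_mul_eq_one_right (hx.sq h)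

theorem Bs.comm (h : μ * μ = 1) (hx : Bs μ x) (hy : Bs μ y) : x * y = y * x := b0_comm h hx.2 hy.2

theorem Bs.mul (h : μ * μ = 1) (hx : Bs μ x) (hy : Bs μ y) : Bs μ (x * y) :=
  ⟨by simp [hx.1, hy.1], b0_mul h hx.2 hy.2⟩

theorem bs_one : Bs μ 1 := ⟨by simp, fun _ => .inl rfl⟩

theorem bs_pair (h : μ * μ = 1) {p q : Ω} (hp : μ p ≠ p) (hq : μ q ≠ q) :
    Bs μ (tr μ p * tr μ q) :=
  ⟨by simp [sign_tr hp, sign_tr hq], b0_mul h (b0_tr h p) (b0_tr h q)⟩

/-- The group of even products of cycles of `μ`. -/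
def BsG (μ : Perm Ω) (h : μ * μ = 1) : Subgroup (Perm Ω) where
  carrier := {x | Bs μ x}
  mul_mem' := fun hx hy => Bs.mul h hx hy
  one_mem' := bs_one
  inv_mem' := fun {x} (hx : Bs μ x) => by rwa [hx.inv h]

theorem mem_BsG {h : μ * μ = 1} : x ∈ BsG μ h ↔ Bs μ x := Iff.rfl

/-- Conjugating a product of cycles by the exchange of two cycles. -/
theorem sw_conj (h : μ * μ = 1) (hx : ∀ p, x p = p ∨ x p = μ p) {p q : Ω} (hn : Df μ p q) :
    sw μ p q * x * (sw μ p q)⁻¹ = if (x p = p ↔ x q = q) then x else x * (tr μ p * tr μ q) := by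
  have a1 := hx p
  have a2 := hx q
  have a3 := b0_ap h hx p
  have a4 := b0_ap h hx q
  have a5 := sq_ap h p
  have a6 := sq_ap h q
  rw [mul_inv_eq_iff_eq_mul]
  ext i
  have a7 := hx i
  have a8 := sq_ap h i
  clear hx
  split_ifs <;> simp only [mul_apply, sw, tr] <;> grind (splits := 30)

theorem restr_symm (h : μ * μ = 1) (hx : ∀ p, x p = p ∨ x p = μ p)
    (hy : ∀ p, y p = p ∨ y p = μ p) : restr (fun p => x p ≠ p) y = restr (fun p => y p ≠ p) x := by
  have e := cm_ap (b0_comm h hx hy)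
  have k : ∀ p, y (x p) ≠ x p ↔ y p ≠ p := fun p => by rw [← e]; simp
  refine restr_eq (fun p hp => ?_) fun p hp => ?_
  · have := hx p; have := hy p
    by_cases hq : y p = p
    · rw [restr_neg x (not_not.2 hq), hq]
    · rw [restr_pos (S := fun p => y p ≠ p) k hq]; grind
  · by_cases hq : y p = p
    · rw [restr_neg x (not_not.2 hq)]
    · rw [restr_pos (S := fun p => y p ≠ p) k hq]; exact not_not.1 hp

theorem dot_pair (h : μ * μ = 1) (hx : ∀ p, x p = p ∨ x p = μ p) {p q : Ω} (hn : Df μ p q) :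
    sign (restr (fun i => x i ≠ i) (tr μ p * tr μ q)) = 1 ↔ (x p = p ↔ x q = q) := by
  have a1 := hx p
  have a2 := hx q
  have a3 := b0_ap h hx p
  have a4 := b0_ap h hx q
  have a5 := sq_ap h p
  have a6 := sq_ap h q
  by_cases hp : x p = p <;> by_cases hq : x q = q
  · rw [restr_eq (y := 1) (fun i hi => by simp only [mul_apply, tr, one_apply]; grind)
      (fun _ _ => rfl)]
    simp [hp, hq]
  · rw [restr_eq (y := tr μ q) (fun i hi => by simp only [mul_apply, tr]; grind)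
      (fun i hi => by simp only [tr]; grind), sign_tr hn.2.2.2.2.2.symm]
    simp [hp, hq]
  · rw [restr_eq (y := tr μ p) (fun i hi => by simp only [mul_apply, tr]; grind)
      (fun i hi => by simp only [tr]; grind), sign_tr hn.1.symm]
    simp [hp, hq]
  · rw [restr_eq (y := tr μ p * tr μ q) (fun i hi => rfl)
      (fun i hi => by simp only [mul_apply, tr]; grind)]
    simp [hp, hq, sign_tr hn.2.2.2.2.2.symm, sign_tr hn.1.symm]

theorem Full.b0 (hμ : Full ζ μ) (p : Ω) : ζ p = p ∨ ζ p = μ p :=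
  (eq_or_ne (ζ p) p).imp_right fun h => (hμ.mv p h).symm

theorem Full.bs (hB : Big ζ) (hμ : Full ζ μ) : Bs μ ζ := ⟨hB.ev, hμ.b0⟩

theorem Full.le (hμ : Full ζ μ) (hx : Bs μ x) : x ∈ HU ζ := ⟨hx.1, b0_comm hμ.sq hx.2 hμ.b0⟩

theorem Full.comm (hμ : Full ζ μ) : ζ * μ = μ * ζ := b0_mu hμ.sq hμ.b0

theorem Full.tr_eq (hμ : Full ζ μ) {p : Ω} (hp : ζ p ≠ p) : tr μ p = tr ζ p := by
  rw [tr, tr, hμ.mv p hp]

theorem Full.j0 (hμ : Full ζ μ) (hx : ∀ p, x p = p ∨ x p = μ p) : J0 ζ x := fun p hp =>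
  hμ.mv p hp ▸ hx p

/-- Exchanging two cycles of the same type centralises `ζ`. -/
theorem Full.sw_mem (hμ : Full ζ μ) {p q : Ω} (hn : Df μ p q) (ht : ζ p = p ↔ ζ q = q) :
    sw μ p q ∈ HU ζ :=
  ⟨sign_sw hn, mul_inv_eq_iff_eq_mul.1 (by rw [sw_conj hμ.sq hμ.b0 hn, if_pos ht])⟩

theorem Full.card (hμ : Full ζ μ) : Fintype.card (Function.fixedPoints μ) ≤ 1 :=
  Fintype.card_le_one_iff.2 fun a b => Subtype.ext (hμ.one _ _ a.2 b.2)

/-- `μ` has at least five cycles. -/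
theorem Full.fresh (hB : Big ζ) (hμ : Full ζ μ) (p q s u : Ω) : ∃ t, μ t ≠ t ∧ t ≠ p ∧ t ≠ μ p ∧
    t ≠ q ∧ t ≠ μ q ∧ t ≠ s ∧ t ≠ μ s ∧ t ≠ u ∧ t ≠ μ u := by
  by_contra! H
  have h1 : μ.support ⊆ {p, μ p, q, μ q} ∪ {s, μ s, u, μ u} := fun t ht => by
    have := H t (mem_support.1 ht)
    simp only [Finset.mem_union, Finset.mem_insert, Finset.mem_singleton]
    grind
  have h2 := (Finset.card_le_card h1).trans (Finset.card_union_le _ _)
  have h3 := Finset.card_le_four (a := p) (b := μ p) (c := q) (d := μ q)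
  have h4 := Finset.card_le_four (a := s) (b := μ s) (c := u) (d := μ u)
  have h5 := card_fixedPoints μ
  have h6 := hμ.card
  have h7 := hB.hm
  have h8 := hB.h8.trans ζ.support.card_le_univ
  rw [sum_cycleType] at h5
  omega

theorem Full.df (hB : Big ζ) (hμ : Full ζ μ) {p : Ω} (hp : μ p ≠ p) : ∃ q, Df μ p q := by
  obtain ⟨q, hq⟩ := hμ.fresh hB p p p p
  exact ⟨q, df_of hμ.sq hp hq.1 hq.2.1 hq.2.2.1⟩

theorem Full.cent (hB : Big ζ) (hμ : Full ζ μ) (he : sign x = 1)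
    (hx : ∀ y, Bs μ y → x * y = y * x) : Bs μ x := by
  refine ⟨he, fun p => ?_⟩
  have m := sq_ap hμ.sq
  by_cases hp : μ p = p
  · refine .inl (hμ.one _ _ (by_contra fun hq => ?_) hp)
    obtain ⟨s, hs⟩ := hμ.df hB hq
    have := cm_ap (hx _ (bs_pair hμ.sq hq hs.2.2.2.2.2.symm)) p
    simp only [mul_apply, tr] at this
    clear hx
    grind
  · obtain ⟨q, hq⟩ := hμ.fresh hB p (x p) p p
    have := cm_ap (hx _ (bs_pair hμ.sq hp hq.1)) p
    have i : x (μ p) ≠ x p := x.injective.ne hp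
    simp only [mul_apply, tr] at this
    clear hx
    grind

/-- A permutation normalising the base group permutes the cycles of `μ`. -/
theorem Full.norm (hB : Big ζ) (hμ : Full ζ μ) (hx : ∀ y, Bs μ y → Bs μ (x * y * x⁻¹)) {p : Ω}
    (hp : μ p ≠ p) : x (μ p) = μ (x p) := by
  obtain ⟨q, hq⟩ := hμ.df hB hp
  have := (hx _ (bs_pair hμ.sq hp hq.2.2.2.2.2.symm)).2 (x p)
  have i : x (μ p) ≠ x p := x.injective.ne hp
  have e : (tr μ p * tr μ q) p = μ p := by simp only [mul_apply, tr]; grind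
  rw [mul_apply, show x⁻¹ (x p) = p by simp, mul_apply, e] at this
  exact this.resolve_left i

theorem Full.sign (hB : Big ζ) (hμ : Full ζ μ) : sign (μ * ζ) = -1 := by
  obtain ⟨k, h1, h2⟩ := AltC.card_fix hμ.sq
  have := hμ.card
  have := hB.hm
  rw [Perm.sign_mul, hB.ev, mul_one, h2, Odd.neg_one_pow ⟨k / 2, by omega⟩]

theorem Full.tau_mv (hB : Big ζ) (hμ : Full ζ μ) {p : Ω} (hp : ζ p ≠ p) : (μ * ζ) p = p := by
  rw [mul_apply, ← hμ.mv p hp, sq_ap hμ.sq]

theorem Full.tau_fx {p : Ω} (hp : ζ p = p) : (μ * ζ) p = μ p := by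
  rw [mul_apply, hp]

theorem Full.tau_b0 (hμ : Full ζ μ) (p : Ω) : (μ * ζ) p = p ∨ (μ * ζ) p = μ p :=
  b0_mul hμ.sq (fun _ => .inr rfl) hμ.b0 p

theorem Full.exists_fx (hB : Big ζ) (hμ : Full ζ μ) : ∃ α, ζ α = α ∧ μ α ≠ α := by
  obtain ⟨α, hα⟩ := AltC.ne_one_ap (s := μ * ζ) fun e => by
    have := hμ.sign hB
    rw [e, map_one] at this
    exact absurd this (by decide)
  have h : ζ α = α := by_contra fun h => hα (hμ.tau_mv hB h)
  exact ⟨α, h, by rwa [Full.tau_fx h] at hα⟩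

theorem exists_full (hB : Big ζ) : ∃ μ, Full ζ μ := by
  have m := sq_ap hB.sq
  obtain ⟨μ, ⟨h1, h2, h3⟩, h4⟩ := Set.exists_max_image
    {μ : Perm Ω | μ * μ = 1 ∧ (∀ p, ζ p ≠ p → μ p = ζ p) ∧ ∀ p, ζ p = p → ζ (μ p) = μ p}
    (fun μ => μ.support.card) (Set.toFinite _) ⟨ζ, hB.sq, fun _ _ => rfl, fun p h => by rw [h, h]⟩
  refine ⟨μ, h1, h2, h3, fun p q hp hq => by_contra fun pq => ?_⟩
  have m' := sq_ap h1
  have a := h2 p
  have b := h2 q
  have := h4 (swap p q * μ) ⟨Equiv.ext fun i => by simp only [mul_apply, one_apply]; grind,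
    fun i hi => by have := h2 i hi; simp only [mul_apply]; grind,
    fun i hi => by have := h3 i hi; simp only [mul_apply]; grind⟩
  rw [Disjoint.card_support_mul (fun i => by grind), card_support_swap pq] at this
  omega

end Cfsg.Lib.AltZ
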