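import Cfsg.Agent.AltC.Fus
import Cfsg.Agent.AltC.Tv0
import Cfsg.Agent.AltC.Gg

/-! The fused pair when `ζ` has at most three fixed points. -/

set_option autoImplicit false
set_option linter.unusedSectionVars false

namespace Cfsg.Lib.AltZ

open Equiv Equiv.Perm
open Cfsg.Lib.AltC (N4 sq_ap cm_ap sign_cases)

variable {Ω : Type*} [DecidableEq Ω] [Fintype Ω] {G : Type*} [Group G]
  {z : G} {ζ μ : Perm Ω} {ι : Perm Ω → G}

theorem sign_eq_of_support {x y : Perm Ω} (hx : x * x = 1) (hy : y * y = 1)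
    (h : ∀ p, x p = p ↔ y p = p) : sign x = sign y := by
  have e : x.support = y.support := by ext p; simp [h]
  rcases sign_invol hx with ⟨a, b⟩ | ⟨a, b⟩ <;> rcases sign_invol hy with ⟨c, d⟩ | ⟨c, d⟩ <;>
    first | exact a.trans c.symm | (rw [e] at b; omega)

/-- An involution whose support is a union of regular orbits of a four-group is even. -/
theorem sign_of_blocks {w t : Perm Ω} (w2 : w * w = 1) (h2 : ζ * ζ = 1) (t2 : t * t = 1)
    (ht : t * ζ = ζ * t) (h : ∀ p, w p ≠ p →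
      ζ p ≠ p ∧ t p ≠ p ∧ t p ≠ ζ p ∧ w (ζ p) ≠ ζ p ∧ w (t p) ≠ t p) : sign w = 1 := by
  have a1 := sq_ap h2
  have a2 := sq_ap t2
  have a3 := cm_ap ht
  have i1 : ∀ p, w (ζ p) ≠ ζ p ↔ w p ≠ p := fun p =>
    ⟨fun e => by simpa only [a1] using (h _ e).2.2.2.1, fun e => (h p e).2.2.2.1⟩
  have i2 : ∀ p, w (t p) ≠ t p ↔ w p ≠ p := fun p =>
    ⟨fun e => by simpa only [a2] using (h _ e).2.2.2.2, fun e => (h p e).2.2.2.2⟩
  have i3 : ∀ p, w ((ζ * t) p) ≠ (ζ * t) p ↔ w p ≠ p := fun p => (i1 _).trans (i2 p)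
  have key : ∀ x : Perm Ω, x * x = 1 → (∀ p, w (x p) ≠ x p ↔ w p ≠ p) →
      (∀ p, w p ≠ p → x p ≠ p) → sign (restr (fun p => w p ≠ p) x) = sign w := by
    intro x x2 hx hx'
    refine sign_eq_of_support (by
      rw [← restr_mul hx hx, x2]; exact restr_eq (fun _ _ => rfl) fun _ _ => rfl) w2 fun p => ?_
    by_cases hp : w p ≠ p
    · rw [restr_pos (S := fun p => w p ≠ p) hx hp]; exact iff_of_false (hx' p hp) hp
    · rw [restr_neg (S := fun p => w p ≠ p) x hp]; exact iff_of_true rfl (not_not.1 hp)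
  have e1 := key ζ h2 i1 fun p hp => (h p hp).1
  have e2 := key t t2 i2 fun p hp => (h p hp).2.1
  have e3 := key (ζ * t) (by rw [mul_assoc, ← mul_assoc t, ht, mul_assoc, t2, mul_one, h2]) i3
    fun p hp e => (h p hp).2.2.1 (by rw [← a1 (t p)]; exact congrArg ζ e)
  rw [restr_mul i1 i2, map_mul, e1, e2, Int.units_mul_self] at e3
  exact e3.symm

/-- Permutations preserving the orbits of the four-group generated by `ζ` and `τ`. -/
def blk (h2 : ζ * ζ = 1) {τ : Perm Ω} (t2 : τ * τ = 1) (ht : τ * ζ = ζ * τ) :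
    Subgroup (Perm Ω) where
  carrier := {x | ∀ i, x i = i ∨ x i = ζ i ∨ x i = τ i ∨ x i = ζ (τ i)}
  mul_mem' := fun {x y} hx hy i => by
    have a1 := sq_ap h2; have a2 := sq_ap t2; have a3 := cm_ap ht
    have := hx (y i); have := hy i
    rw [mul_apply]; grind
  one_mem' := fun _ => .inl rfl
  inv_mem' := fun {x} hx i => by
    have a1 := sq_ap h2; have a2 := sq_ap t2; have a3 := cm_ap ht
    have h := hx (x⁻¹ i)
    rw [show x (x⁻¹ i) = i by simp] at h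
    grind

theorem blk_pow (h2 : ζ * ζ = 1) {τ : Perm Ω} (t2 : τ * τ = 1) (ht : τ * ζ = ζ * τ) {x : Perm Ω}
    (hx : x ∈ blk h2 t2 ht) (hc : x * ζ = ζ * x) : x ^ 2 ^ 2 = 1 := by
  ext i
  have a1 := sq_ap h2 i; have a2 := sq_ap t2 i; have a3 := cm_ap ht i
  have a4 := sq_ap h2 (τ i)
  have b1 := hx i; have b2 := hx (τ i)
  have c1 := cm_ap hc i; have c2 := cm_ap hc (τ i)
  have d1 : x (τ i) = x i → τ i = i := fun e => x.injective e
  have d2 : x (τ i) = x (ζ i) → τ i = ζ i := fun e => x.injective e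
  show x (x (x (x i))) = i
  grind (splits := 30)

/-- A fixed point free partner of `ζ` on its support. -/
structure Pt (ζ t : Perm Ω) : Prop where
  z2 : ζ * ζ = 1
  t2 : t * t = 1
  ht : t * ζ = ζ * t
  tf : ∀ p, ζ p = p → t p = p
  tm : ∀ p, ζ p ≠ p → t p ≠ p ∧ t p ≠ ζ p

variable {t w : Perm Ω} {p s α β : Ω}

theorem Df.mv (h : Df ζ p s) : ζ s ≠ s := h.2.2.2.2.2.symm

theorem Df.mv' (h : Df ζ p s) : ζ p ≠ p := h.1.symm

theorem Pt.df (T : Pt ζ t) (hs : ζ s ≠ s) : Df ζ s (t s) :=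
  df_of T.z2 hs (fun e => hs ((fix_iff T.ht s).1 e)) (T.tm s hs).1 (T.tm s hs).2

theorem Pt.off (T : Pt ζ t) (h1 : Df ζ p s) (h2 : Df ζ (t p) s) :
    Df ζ p (t s) ∧ Df ζ (t p) (t s) :=
  ⟨by simpa only [sq_ap T.t2] using h2.map T.ht, h1.map T.ht⟩

theorem Pt.cas (T : Pt ζ t) (hp : ζ p ≠ p) {i : Ω} (hi : ζ i ≠ i) :
    i = p ∨ i = ζ p ∨ i = t p ∨ i = ζ (t p) ∨ (Df ζ p i ∧ Df ζ (t p) i) := by
  by_contra! h4
  exact h4.2.2.2.2 (df_of T.z2 hp hi h4.1 h4.2.1) (df_of T.z2 (T.df hp).mv hi h4.2.2.1 h4.2.2.2.1)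

theorem Pt.τ2 (T : Pt ζ t) (hα : ζ α = α) (hβ : ζ β = β) :
    t * swap α β * (t * swap α β) = 1 := by
  rw [mul_assoc, ← mul_assoc _ t, AltC.fix_comm (T.tf _ hα) (T.tf _ hβ), mul_assoc, swap_mul_self,
    mul_one, T.t2]

theorem Pt.τc (T : Pt ζ t) (hα : ζ α = α) (hβ : ζ β = β) :
    t * swap α β * ζ = ζ * (t * swap α β) := by
  rw [mul_assoc, AltC.fix_comm hα hβ, ← mul_assoc, T.ht, mul_assoc]

theorem Pt.blk1 (T : Pt ζ t) (hα : ζ α = α) (hβ : ζ β = β) (hs : ζ s ≠ s) :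
    tr ζ s * swap α β ∈ blk T.z2 (T.τ2 hα hβ) (T.τc hα hβ) := fun i => by
  have := T.tf _ hα; have := T.tf _ hβ; have := sq_ap T.z2 s
  simp only [mul_apply, tr]; grind

theorem Pt.blk2 (T : Pt ζ t) (hα : ζ α = α) (hβ : ζ β = β) (hs : ζ s ≠ s) :
    sw ζ s (t s) ∈ blk T.z2 (T.τ2 hα hβ) (T.τc hα hβ) := fun i => by
  have := T.df hs; have := sq_ap T.z2 s; have := sq_ap T.z2 (t s); have := sq_ap T.t2 s
  have := cm_ap T.ht s; have := cm_ap T.ht (t s)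
  simp only [mul_apply, sw]; grind (splits := 20)

theorem tr_swap_sw (h2 : ζ * ζ = 1) {q : Ω} (hα : ζ α = α) (hβ : ζ β = β) (h0 : Df ζ p q)
    (h1 : Df ζ p s) (h3 : Df ζ q s) :
    tr ζ s * swap α β * sw ζ p q = sw ζ p q * (tr ζ s * swap α β) := by
  have := sq_ap h2 p; have := sq_ap h2 q
  refine comm_of_fix fun i hi => ?_
  have : i = s ∨ i = ζ s ∨ i = α ∨ i = β := by simp only [mul_apply, tr] at hi; grind
  exact sw_off (by grind) (by grind) (by grind) (by grind)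

theorem sw_sw {q u : Ω} (h1 : Df ζ p s) (h2 : Df ζ q s) (h3 : Df ζ p u) (h4 : Df ζ q u) :
    sw ζ s u * sw ζ p q = sw ζ p q * sw ζ s u := by
  refine comm_of_fix fun i hi => ?_
  have : i = s ∨ i = ζ s ∨ i = u ∨ i = ζ u := by
    by_contra! h7; exact hi (sw_off h7.1 h7.2.1 h7.2.2.1 h7.2.2.2)
  exact sw_off (by grind) (by grind) (by grind) (by grind)

theorem cyc_of_comm (h2 : ζ * ζ = 1) (hw : w * ζ = ζ * w) (hα : ζ α = α) (hβ : ζ β = β)
    (hs : ζ s ≠ s) (hn : α ≠ β) (hc : tr ζ s * swap α β * w = w * (tr ζ s * swap α β)) :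
    (w s = s ∨ w s = ζ s) ∧ ((w α = α ∧ w β = β) ∨ (w α = β ∧ w β = α)) := by
  have := cm_ap hc s
  have := cm_ap hc α
  have := cm_ap hw s
  have := fix_iff hw s
  have := (fix_iff hw α).2 hα
  have := sq_ap h2 s
  have : w α ≠ w β := w.injective.ne hn
  simp only [tr, mul_apply] at *
  constructor <;> grind

theorem iff_of_comm {u : Ω} (_ : ζ * ζ = 1) (hd : Df ζ s u) (h1 : w s = s ∨ w s = ζ s)
    (hc : sw ζ s u * w = w * sw ζ s u) : w s = s ↔ w u = u := by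
  have h5 := cm_ap hc s
  rw [sw_left hd] at h5
  simp only [sw, mul_apply] at h5
  grind

theorem trick_eq {u s' u' : Ω} (h2 : ζ * ζ = 1) (w2 : w * w = 1) (hw : w * ζ = ζ * w)
    (ws : w s = ζ s) (wu : w u = u) (ws' : w s' = ζ s') (wu' : w u' = u') (su : Df ζ s u)
    (su' : Df ζ s' u') (su2 : Df ζ s u') (su3 : Df ζ s' u) (s5 : Df ζ s s') (u5 : Df ζ u u') :
    sw ζ s u * sw ζ s' u' * w * (sw ζ s u * sw ζ s' u')⁻¹ =
      w * (tr ζ s * tr ζ s' * (tr ζ u * tr ζ u')) := by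
  rw [mul_inv_eq_iff_eq_mul]
  have n1 := cm_ap hw s; have n2 := cm_ap hw u; have n3 := cm_ap hw s'; have n4 := cm_ap hw u'
  have n5 := sq_ap h2 s; have n6 := sq_ap h2 u; have n7 := sq_ap h2 s'; have n8 := sq_ap h2 u'
  ext i
  have n9 := sq_ap w2 i
  simp only [mul_apply, sw, tr]
  clear h2 w2 hw
  by_cases hi : i = s ∨ i = ζ s ∨ i = u ∨ i = ζ u ∨ i = s' ∨ i = ζ s' ∨ i = u' ∨ i = ζ u'
  · rcases hi with rfl | rfl | rfl | rfl | rfl | rfl | rfl | rfl <;> grind (splits := 30)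
  · have : ¬ (w i = s ∨ w i = ζ s ∨ w i = u ∨ w i = ζ u ∨ w i = s' ∨ w i = ζ s' ∨ w i = u' ∨
      w i = ζ u') := by grind
    grind (splits := 30)

theorem AT.eq_sw (h2 : ζ * ζ = 1) (w2 : w * w = 1) (hw : w * ζ = ζ * w) {q : Ω} (ha : AT ζ w p q)
    (h : ∀ s, Df ζ p s → Df ζ q s → w s = s) : w = sw ζ p q := by
  ext i
  have := sq_ap h2 p; have := sq_ap h2 q; have := sq_ap w2 p; have := cm_ap hw p
  have := cm_ap hw q; have := ha.df; have := ha.pq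
  by_cases hi : ζ i = i
  · rw [ha.fx i hi]; exact (sw_off (by grind) (by grind) (by grind) (by grind)).symm
  by_cases h1 : i = p ∨ i = ζ p ∨ i = q ∨ i = ζ q
  · simp only [sw, mul_apply]; clear h; grind
  · push Not at h1
    rw [h i (df_of h2 ha.df.mv' hi h1.1 h1.2.1) (df_of h2 ha.df.mv hi h1.2.2.1 h1.2.2.2),
      sw_off h1.1 h1.2.1 h1.2.2.1 h1.2.2.2]

theorem AT.eq_sw_mul (h2 : ζ * ζ = 1) (w2 : w * w = 1) (hw : w * ζ = ζ * w) {q : Ω}
    (ha : AT ζ w p q) (h : ∀ s, Df ζ p s → Df ζ q s → w s = ζ s) : w = sw ζ p (ζ q) * ζ := by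
  ext i
  have := sq_ap h2 p; have := sq_ap h2 q; have := sq_ap w2 p; have := cm_ap hw p
  have := cm_ap hw q; have := ha.df; have := ha.pq; have := sq_ap h2 i
  by_cases hi : ζ i = i
  · rw [ha.fx i hi, mul_apply, hi]; exact (sw_off (by grind) (by grind) (by grind) (by grind)).symm
  by_cases h1 : i = p ∨ i = ζ p ∨ i = q ∨ i = ζ q
  · simp only [sw, mul_apply]; clear h; grind
  · push Not at h1
    rw [h i (df_of h2 ha.df.mv' hi h1.1 h1.2.1) (df_of h2 ha.df.mv hi h1.2.2.1 h1.2.2.2), mul_apply]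
    clear h
    exact (sw_off (by grind) (by grind) (by grind) (by grind)).symm

/-- The shape of an involution commuting with the listed elements. -/
theorem Pt.shape (T : Pt ζ t) (hp : ζ p ≠ p) (hα : ζ α = α) (hβ : ζ β = β)
    (hn : α ≠ β) (h3 : ∀ γ δ, ζ γ = γ → ζ δ = δ → γ ≠ α → γ ≠ β → δ ≠ α → δ ≠ β → γ = δ)
    (hw : w ∈ HU ζ) (w2 : w * w = 1)
    (b1 : ∀ s, Df ζ p s → Df ζ (t p) s → w s = s ∨ w s = ζ s)
    (b2 : ∀ s, Df ζ p s → Df ζ (t p) s → (w s = s ↔ w (t s) = t s))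
    (b3 : (w α = α ∧ w β = β) ∨ (w α = β ∧ w β = α))
    (c3 : sw ζ p (t p) * w = w * sw ζ p (t p)) :
    (∀ γ, ζ γ = γ → w γ = γ) ∧ ((∀ i, w i = i ∨ w i = ζ i) ∨ w p = t p ∨ w p = ζ (t p)) := by
  have hd := T.df hp
  have b4 : ∀ γ, ζ γ = γ → γ ≠ α → γ ≠ β → w γ = γ := fun γ h1 h2 h4 => by
    have := sq_ap w2 γ
    exact h3 _ _ ((fix_iff hw.2 γ).2 h1) h1 (by clear * - this b3 h2 h4; grind)
      (by clear * - this b3 h2 h4; grind) h2 h4
  have n1 := sq_ap T.z2 p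
  have n2 := sq_ap T.z2 (t p)
  have n3 := sq_ap T.t2 p
  have n4 := cm_ap T.ht p
  have n5 := cm_ap T.ht (t p)
  have n6 := cm_ap hw.2 p
  have n7 := cm_ap hw.2 (t p)
  have n8 := sq_ap w2 p
  have b5 : w p = p ∨ w p = ζ p ∨ w p = t p ∨ w p = ζ (t p) := by
    rcases T.cas hp (i := w p) (fun e => hp ((fix_iff hw.2 p).1 e)) with e | e | e | e | e
    · exact .inl e
    · exact .inr (.inl e)
    · exact .inr (.inr (.inl e))
    · exact .inr (.inr (.inr e))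
    · have := b1 _ e.1 e.2
      clear * - this e n8; grind
  have b6 : w (t p) = sw ζ p (t p) (w p) := by rw [cm_ap c3, sw_left hd]
  simp only [sw, mul_apply] at b6
  have b7 : w α = α ∧ w β = β := by
    refine b3.resolve_right fun e => ?_
    have e1 : w * swap α β = swap α β * w := swap_comm_of (.inr e)
    have e3 : ∀ j, ζ j ≠ j → (w * swap α β) j = w j := fun j hj => by
      simp only [mul_apply]; clear * - hj hα hβ; grind
    have := sign_of_blocks (w := w * swap α β) (by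
      rw [mul_assoc, ← mul_assoc _ w, ← e1, mul_assoc, swap_mul_self, mul_one, w2]) T.z2 T.t2 T.ht
      (fun i hi => by
        have hi' : ζ i ≠ i := fun e2 => by
          have := b4 i e2
          simp only [mul_apply] at hi; clear * - this hi e; grind
        have m1 := sq_ap T.z2 i
        have m2 := cm_ap hw.2 i
        have m3 := sq_ap T.z2 (w i)
        rw [e3 i hi'] at hi
        rw [e3 _ (by clear * - m1 hi'; grind), e3 _ (T.df hi').mv]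
        refine ⟨hi', (T.tm i hi').1, (T.tm i hi').2, by clear * - m1 m2 m3 hi; grind, ?_⟩
        rcases T.cas hp hi' with e | e | e | e | e
        iterate 4 (clear * - e hi hd n1 n2 n3 n4 n5 n6 n7 n8 b5 b6; grind)
        exact fun e4 => hi ((b2 i e.1 e.2).2 e4))
    rw [map_mul, hw.1, sign_swap hn] at this
    exact absurd this (by decide)
  have b8 : ∀ γ, ζ γ = γ → w γ = γ := fun γ h1 => by
    by_cases e1 : γ = α
    · rw [e1, b7.1]
    by_cases e2 : γ = β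
    · rw [e2, b7.2]
    exact b4 γ h1 e1 e2
  refine ⟨b8, or_iff_not_imp_right.2 fun h4 i => ?_⟩
  by_cases hi : ζ i = i
  · exact .inl (b8 i hi)
  rcases T.cas hp hi with e | e | e | e | e
  iterate 4 (clear * - e h4 hd n1 n2 n6 n7 b5 b6; grind)
  exact b1 i e.1 e.2

theorem ZC.trick (hB : Big ζ) (h : ZC z ζ ι) {g : G} {w' : Perm Ω} {q : Ω}
    (P : Pr ζ w w' (Rel ζ ι g w w')) (hZ : IsConj z (ι w)) (ha : AT ζ w p q) {u s' u' : Ω}
    (s1 : Df ζ p s) (s2 : Df ζ q s) (u1 : Df ζ p u) (u2 : Df ζ q u) (s3 : Df ζ p s')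
    (s4 : Df ζ q s') (u3 : Df ζ p u') (u4 : Df ζ q u') (s5 : Df ζ s s') (u5 : Df ζ u u')
    (ws : w s = ζ s) (wu : w u = u) (ws' : w s' = ζ s') (wu' : w u' = u') : False := by
  obtain ⟨p', q', -, hx, -⟩ := P.at hB ha
  have hw := P.hw
  have m : ∀ i, (w i = i ∨ w i = ζ i) → tr ζ i * w = w * tr ζ i := fun i h2 => by
    have := cm_ap hw.2 i; have := sq_ap hB.sq i
    exact (swap_comm_of (by clear hx; grind)).symm
  have m2 : ∀ i j, ζ i ≠ i → ζ j ≠ j → (w i = i ∨ w i = ζ i) → (w j = j ∨ w j = ζ j) →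
      tr ζ i * tr ζ j ∈ CU ζ w := fun i j h1 h2 h4 h5 =>
    mem_CU.2 ⟨(tr_tr_mem hB.sq h1 h2).1, (tr_tr_mem hB.sq h1 h2).2, by
      rw [mul_assoc, m j h5, ← mul_assoc, m i h4, mul_assoc]⟩
  obtain ⟨x1, r1⟩ := P.ex (m2 s s' s1.mv s3.mv (.inr ws) (.inr ws'))
  obtain ⟨x2, r2⟩ := P.ex (m2 u u' u1.mv u3.mv (.inl wu) (.inl wu'))
  have f1 := (hx s s' x1 s1 s2 s3 s4 (iff_of_false (ws ▸ s1.mv) (ws' ▸ s3.mv)) r1).1
  have f2 := (hx u u' x2 u1 u2 u3 u4 (iff_of_true wu wu') r2).1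
  have r3 := P.mul P.rw (P.mul r1 r2)
  have d : ∀ a b, ζ a ≠ a → ζ b ≠ b → w a = ζ a → w b = b → Df ζ a b := fun a b h1 h2 h3 h4 => by
    have := cm_ap hw.2 a; have := sq_ap hB.sq a
    exact df_of hB.sq h1 h2 (by clear * - h1 h3 h4; grind) (by clear hx m m2 f1 f2; grind)
  have su := d s u s1.mv u1.mv ws wu
  have su' := d s' u' s3.mv u3.mv ws' wu'
  have su2 := d s u' s1.mv u3.mv ws wu'
  have su3 := d s' u s3.mv u1.mv ws' wu
  have z1 := h.isConj (mul_mem (sw_mem hB.sq su) (sw_mem hB.sq su')) hw hZ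
  rw [trick_eq hB.sq P.w2 hw.2 ws wu ws' wu' su su' su2 su3 s5 u5, r3.2.2] at z1
  have z2 : IsConj z (ι (ζ * (x1 * x2))) := z1.trans (isConj_iff.2 ⟨g⁻¹, by group⟩)
  have z3 := h.z1 hB r3.2.1.1 z2 (b0_mul hB.sq (fun i => .inr rfl) (b0_mul hB.sq f1 f2))
  have z4 := P.mul r1 r2
  rw [mul_eq_left.1 z3] at z4
  have z5 := DFunLike.congr_fun (P.one z4) s
  simp only [mul_apply, tr, one_apply] at z5
  clear * - z5 su su2 s5
  grind

theorem ZC.alpha_small [Finite G] (hB : Big ζ) (h : ZC z ζ ι)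
    (hG : ∀ K : Subgroup G, K.index ≠ 2) (hα : ζ α = α) (hβ : ζ β = β) (hn : α ≠ β)
    (h3 : ∀ γ δ, ζ γ = γ → ζ δ = δ → γ ≠ α → γ ≠ β → δ ≠ α → δ ≠ β → γ = δ) :
    ∃ p q, Df ζ p q ∧ (IsConj z (ι (sw ζ p q)) ∨ IsConj z (ι (sw ζ p q * ζ))) := by
  obtain ⟨t, t2, ht, tf, tm⟩ := AltC.partner hB.sq hB.ev
  have T : Pt ζ t := ⟨hB.sq, t2, ht, tf, tm⟩
  clear tf tm
  obtain ⟨p, hp⟩ := hB.exists_mv
  have hd := T.df hp
  obtain ⟨ε, hε, εs, -⟩ := exists_ε3 hB.sq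
  obtain ⟨w, hw, hwζ, hZ, hc⟩ := h.transfer hB hG hε (sw_mem hB.sq hd) (sw_sq hd) (εs _ _ hd)
    (HU ζ ⊓ blk hB.sq (T.τ2 hα hβ) (T.τc hα hβ) ⊓ HU (sw ζ p (t p)))
    (inf_le_left.trans inf_le_left)
    (fun x => ⟨2, Subtype.ext (blk_pow hB.sq _ _ x.2.1.2 x.2.1.1.2)⟩)
    ⟨⟨hB.mem, fun i => .inr (.inl rfl)⟩, hB.ev, (sw_comm hB.sq hd).symm⟩ fun x hx => hx.2.2
  obtain ⟨g, hg⟩ := isConj_iff.1 hZ
  obtain ⟨w', P⟩ := h.pair hB.ev hB.sq hw hwζ hg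
  have c1 := fun s (h1 : Df ζ p s) (h2 : Df ζ (t p) s) => cyc_of_comm hB.sq hw.2 hα hβ h1.mv hn
    (hc _ ⟨⟨tr_swap_mem hB.sq h1.mv hα hβ hn, T.blk1 hα hβ h1.mv⟩,
      (tr_swap_mem hB.sq h1.mv hα hβ hn).1, tr_swap_sw hB.sq hα hβ hd h1 h2⟩)
  have b2 := fun s (h1 : Df ζ p s) (h2 : Df ζ (t p) s) => iff_of_comm hB.sq (T.df h1.mv)
    (c1 s h1 h2).1 (hc _ ⟨⟨sw_mem hB.sq (T.df h1.mv), T.blk2 hα hβ h1.mv⟩, sign_sw (T.df h1.mv),
      sw_sw h1 h2 (T.off h1 h2).1 (T.off h1 h2).2⟩)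
  obtain ⟨s0, hs0⟩ := hB.fresh p (t p) p
  obtain ⟨b8, b9⟩ := T.shape hp hα hβ hn h3 hw P.w2 (fun s h1 h2 => (c1 s h1 h2).1) b2
    (c1 s0 (df_of hB.sq hp hs0.1 hs0.2.1 hs0.2.2.1)
      (df_of hB.sq hd.mv hs0.1 hs0.2.2.2.1 hs0.2.2.2.2.1)).2
    (hc _ ⟨⟨sw_mem hB.sq hd, T.blk2 hα hβ hp⟩, sign_sw hd, rfl⟩)
  replace b9 := b9.resolve_left fun e => hwζ (h.z1 hB hw hZ e)
  have dq : Df ζ p (w p) := by rcases b9 with e | e <;> rw [e]; exacts [hd, hd.ap hB.sq]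
  have dq' : ∀ s, Df ζ (w p) s ↔ Df ζ (t p) s := fun s => by
    have := sq_ap hB.sq (t p)
    rcases b9 with e | e <;> rw [e]; clear * - this; grind
  have hat : AT ζ w p (w p) := ⟨dq, rfl, fun s h1 h2 => (c1 s h1 ((dq' s).1 h2)).1, b8⟩
  by_cases hall : ∀ s, Df ζ p s → Df ζ (w p) s → w s = s
  · exact ⟨p, w p, dq, .inl (hat.eq_sw hB.sq P.w2 hw.2 hall ▸ hZ)⟩
  push Not at hall
  obtain ⟨s, s1, s2, s3⟩ := hall
  refine ⟨p, ζ (w p), dq.ap hB.sq, .inr (hat.eq_sw_mul hB.sq P.w2 hw.2 (fun u u1 u2 => ?_) ▸ hZ)⟩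
  refine (hat.mv u u1 u2).resolve_left fun wu => ?_
  obtain ⟨s4, s5⟩ := T.off s1 ((dq' s).1 s2)
  obtain ⟨u4, u5⟩ := T.off u1 ((dq' u).1 u2)
  exact h.trick hB P hZ hat s1 s2 u1 u2 s4 ((dq' _).2 s5) u4 ((dq' _).2 u5) (T.df s1.mv)
    (T.df u1.mv) ((hat.mv s s1 s2).resolve_left s3) wu
    ((c1 _ s4 s5).1.resolve_left fun e => s3 ((b2 s s1 ((dq' s).1 s2)).2 e))
    ((b2 u u1 ((dq' u).1 u2)).1 wu)

end Cfsg.Lib.AltZ
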