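import Cfsg.Agent.AltC.AlA1

/-! The elements `γ(p, σ)` and their action on larger base groups. -/

set_option autoImplicit false
set_option linter.unusedSectionVars false

namespace Cfsg.Lib.AltZ

open Equiv Equiv.Perm
open Cfsg.Lib.AltC (N4 sq_ap cm_ap sign_cases)

variable {Ω : Type*} [DecidableEq Ω] [Fintype Ω] {G : Type*} [Group G]
  {z : G} {ζ μ κ κ' x : Perm Ω} {ι : Perm Ω → G} {p q r s α β : Ω} {c c' g γ : G}

/-- `μ` extends `ζ` by disjoint transpositions of fixed points. -/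
structure Ext (ζ μ : Perm Ω) : Prop where
  sq : μ * μ = 1
  mv : ∀ p, ζ p ≠ p → μ p = ζ p

theorem Ext.fx (E : Ext ζ μ) (h2 : ζ * ζ = 1) (hp : ζ p = p) : ζ (μ p) = μ p := by
  have := E.mv (μ p); have := sq_ap E.sq p; have := sq_ap h2 (μ p)
  grind

theorem Ext.mem (E : Ext ζ μ) (h2 : ζ * ζ = 1) (hx : Bs μ x) : x ∈ HU ζ := by
  refine ⟨hx.1, Equiv.ext fun p => ?_⟩
  have h1 := hx.2 p
  have h3 := hx.2 (ζ p)
  have h4 := sq_ap h2 p
  have h5 : x (ζ p) = x p → ζ p = p := fun e => x.injective e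
  have h6 := E.mv p
  have h7 := E.mv (ζ p)
  have h8 := E.fx h2 (p := p)
  simp only [mul_apply]
  by_cases e : ζ p = p <;> grind

theorem Ext.bs (E : Ext ζ μ) (hB : Big ζ) : Bs μ ζ :=
  ⟨hB.ev, fun p => by have := E.mv p; grind⟩

theorem Ext.of_bs (E : Ext ζ μ) (hα : ζ α = α) (hβ : ζ β = β) (h : μ α = β)
    (hx : Bs (ζ * swap α β) x) : Bs μ x :=
  ⟨hx.1, fun p => by
    have h1 := hx.2 p; have := E.mv p; have := sq_ap E.sq α
    simp only [mul_apply] at h1; grind⟩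

/-- `c` acts on the even products of cycles of `μ` as `κ`. -/
structure Act (ι : Perm Ω → G) (μ : Perm Ω) (c : G) (κ : Perm Ω) : Prop where
  cm : κ * μ = μ * κ
  act : ∀ x, Bs μ x → c * ι x * c⁻¹ = ι (κ * x * κ⁻¹)

theorem Act.mul (h : Act ι μ c κ) (h' : Act ι μ c' κ') : Act ι μ (c * c') (κ * κ') where
  cm := by rw [mul_assoc, h'.cm, ← mul_assoc, h.cm, mul_assoc]
  act := fun x hx => by
    have h1 := h.act _ (hx.conj' h'.cm)
    rw [← h'.act x hx] at h1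
    convert h1 using 1
    · group
    · congr 1

theorem Act.inv (h : Act ι μ c κ) : Act ι μ c⁻¹ κ⁻¹ where
  cm := (Commute.inv_left h.cm).eq
  act := fun x hx => by
    have h1 := h.act _ (hx.conj' (Commute.inv_left h.cm).eq)
    rw [show κ * (κ⁻¹ * x * κ⁻¹⁻¹) * κ⁻¹ = x by group] at h1
    rw [← h1]; group

theorem Act.cj {π : Perm Ω} (hg : Act ι μ g π) (h : Act ι μ c κ) :
    Act ι μ (g * c * g⁻¹) (π * κ * π⁻¹) := (hg.mul h).mul hg.inv

theorem Act.of_mem (hB : Big ζ) (h : ZC z ζ ι) (E : Ext ζ μ) (hκ : κ ∈ HU ζ)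
    (hc : κ * μ = μ * κ) : Act ι μ (ι κ) κ :=
  ⟨hc, fun _ hx => h.cj hκ (E.mem hB.sq hx)⟩

theorem Act.exists (hB : Big ζ) (h : ZC z ζ ι) (E : Ext ζ μ) (ha : Act ι μ c κ) (hκ : κ ∈ HU ζ)
    (hα : ζ α = α) (hα' : μ α ≠ α) :
    ∃ k ∈ HU ζ, ι k = c ∧ (∀ p, ζ p ≠ p → k p = κ p ∨ k p = κ (ζ p)) ∧
      ∀ a, ζ a = a → μ a ≠ a → (k a = κ a ∧ k (μ a) = κ (μ a)) ∨ (k a = κ (μ a) ∧ k (μ a) = κ a) := by
  obtain ⟨k, hk, e⟩ := h.surj c (by
    have h1 := ha.act ζ (E.bs hB)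
    rw [hκ.2, mul_inv_cancel_right, h.ιζ] at h1
    exact mul_inv_eq_iff_eq_mul.1 h1)
  have hc : ∀ y, Bs μ y → κ⁻¹ * k * y = y * (κ⁻¹ * k) := fun y hy => by
    have h1 := ha.act y hy
    rw [← e, h.cj hk (E.mem hB.sq hy)] at h1
    have h2 := h.eq (mul_mem (mul_mem hk (E.mem hB.sq hy)) (inv_mem hk))
      (E.mem hB.sq (hy.conj' ha.cm)) h1
    calc κ⁻¹ * k * y = κ⁻¹ * (k * y * k⁻¹) * k := by group
      _ = y * (κ⁻¹ * k) := by rw [h2]; group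
  have key := fun a (h1 : ζ a = a) (h2 : μ a ≠ a) => bs0_cent hB h1 (E.fx hB.sq h1) h2.symm
    (mul_mem (inv_mem hκ) hk) fun y hy => hc y (E.of_bs h1 (E.fx hB.sq h1) rfl hy)
  simp only [mul_apply, Perm.inv_eq_iff_eq] at key
  exact ⟨k, hk, e, (key α hα hα').1, fun a h1 h2 => (key a h1 h2).2⟩

/-- The element `γ(p, σ)`. -/
structure GM (ζ : Perm Ω) (ι : Perm Ω → G) (p α β : Ω) (γ : G) : Prop where
  gg : GG ζ ι p α β γ
  cen : ∀ y, sign y = 1 → (∀ i, ζ i ≠ i ∨ i = α ∨ i = β → y i = i) → γ * ι y = ι y * γ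
  alt : ∀ x ∈ HU ζ, (∀ y, Bs (ζ * swap α β) y → x * y = y * x) →
    γ * ι x * γ⁻¹ = ι x ∨ γ * ι x * γ⁻¹ = ι (x * (tr ζ p * swap α β))

theorem sw_conj' (h2 : ζ * ζ = 1) (hx : x * ζ = ζ * x) (hd : Df ζ s r) (hs : x s = s ∨ x s = ζ s)
    (hr : x r = r ∨ x r = ζ r) : sw ζ s r * x * (sw ζ s r)⁻¹ = x ∨
      sw ζ s r * x * (sw ζ s r)⁻¹ = x * (tr ζ s * tr ζ r) := by
  have := cm_ap hx s; have := cm_ap hx r; have := sq_ap h2 s; have := sq_ap h2 r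
  have key : ∀ i, ¬ (i = s ∨ i = ζ s ∨ i = r ∨ i = ζ r) →
      ¬ (x i = s ∨ x i = ζ s ∨ x i = r ∨ x i = ζ r) := fun i hi => by
    have h1 : ∀ a, x i = x a → i = a := fun a e => x.injective e
    have := h1 s; have := h1 (ζ s); have := h1 r; have := h1 (ζ r)
    clear h1; grind
  clear hx h2
  rw [mul_inv_eq_iff_eq_mul, mul_inv_eq_iff_eq_mul]
  by_cases e : x s = s ↔ x r = r
  · left; ext i
    have := key i
    simp only [mul_apply, sw]; clear key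
    by_cases hi : i = s ∨ i = ζ s ∨ i = r ∨ i = ζ r
    · rcases hi with rfl | rfl | rfl | rfl <;> grind
    · grind
  · right; ext i
    have := key i
    simp only [mul_apply, sw, tr]; clear key
    by_cases hi : i = s ∨ i = ζ s ∨ i = r ∨ i = ζ r
    · rcases hi with rfl | rfl | rfl | rfl <;> grind (splits := 20)
    · grind (splits := 20)

theorem pi_tr_tr (h2 : ζ * ζ = 1) (hd : Df ζ s r) (hα : ζ α = α) (hβ : ζ β = β) (hn : α ≠ β) :
    swap r α * swap (ζ r) β * (tr ζ s * tr ζ r) * (swap r α * swap (ζ r) β)⁻¹ =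
      tr ζ s * swap α β := by
  have := sq_ap h2 s; have := sq_ap h2 r
  rw [← conj_mul, tr, tr, conj_swap, conj_swap]
  simp only [mul_apply]
  congr 2 <;> grind

theorem GG.gm (hB : Big ζ) (h : ZC z ζ ι) (hg : GG ζ ι r α β g) (hs : Df ζ r s) :
    GM ζ ι s α β (g * ι (sw ζ s r) * g⁻¹) where
  gg := (hg.gam hB h hs).1
  cen := (hg.gam hB h hs).2
  alt := fun x hx hc => by
    obtain ⟨x', hx', e, hc'⟩ := (hg.inv hB).cent hB h hx hc
    have h1 := (bs0_cent hB hg.hα hg.hβ hg.ne hx' hc').1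
    have h2 := h.cj (sw_mem hB.sq hs.symm) hx'
    have h3 : g * ι (sw ζ s r) * g⁻¹ * ι x * (g * ι (sw ζ s r) * g⁻¹)⁻¹ =
        g * ι (sw ζ s r * x' * (sw ζ s r)⁻¹) * g⁻¹ := by rw [← h2, ← e]; group
    have h4 : g * ι x' * g⁻¹ = ι x := by rw [← e]; group
    rw [h3]
    rcases sw_conj' hB.sq hx'.2 hs.symm (h1 s hs.mv) (h1 r hg.hr) with h5 | h5 <;> rw [h5]
    · exact .inl h4
    · right
      rw [h.mul hx' (tr_tr_mem hB.sq hs.mv hg.hr), ← conj_mul, h4,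
        hg.act _ (bs_tr_tr hB.sq hs.mv hg.hr hg.hα hg.hβ),
        pi_tr_tr hB.sq hs.symm hg.hα hg.hβ hg.ne,
        h.mul hx (tr_swap_mem hB.sq hs.mv hg.hα hg.hβ hg.ne)]

theorem Big.fresh2 (hB : Big ζ) (hp : ζ p ≠ p) : ∃ q s, Df ζ p q ∧ Df ζ p s ∧ Df ζ q s := by
  obtain ⟨q, hq⟩ := hB.fresh p p p
  obtain ⟨s, hs⟩ := hB.fresh p q p
  exact ⟨q, s, df_of hB.sq hp hq.1 hq.2.1 hq.2.2.1, df_of hB.sq hp hs.1 hs.2.1 hs.2.2.1,
    df_of hB.sq hq.1 hs.1 hs.2.2.2.1 hs.2.2.2.2.1⟩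

theorem GG.exists_gm (hB : Big ζ) (h : ZC z ζ ι) (hg : GG ζ ι r α β g) (hp : ζ p ≠ p) {a b : Ω}
    (ha : ζ a = a) (hb : ζ b = b) (hn : a ≠ b) : ∃ γ, GM ζ ι p a b γ := by
  obtain ⟨q, s, h1, h2, h3⟩ := hB.fresh2 hg.hr
  obtain ⟨q', s', h1', h2', h3'⟩ := hB.fresh2 hp
  obtain ⟨k, hk, e1, -, -, e2, e3⟩ := exists_mv hB h1 h2 h3 h1'.symm h3' h2' hg.hα hg.hβ hg.ne
    ha hb hn
  have := hg.map hB h hk
  rw [e1, e2, e3] at this
  exact ⟨_, this.gm hB h h1'.symm⟩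

theorem GM.fix (hB : Big ζ) (h : ZC z ζ ι) (hγ : GM ζ ι p α β γ) (hd : Df ζ p q) {a b : Ω}
    (ha : ζ a = a) (hb : ζ b = b) (hn : N4 α β a b) :
    γ * ι (tr ζ q * swap a b) * γ⁻¹ = ι (tr ζ q * swap a b) := by
  have hα := hγ.gg.hα
  have hβ := hγ.gg.hβ
  have n1 := sq_ap hB.sq p
  have n2 := sq_ap hB.sq q
  have hx := tr_swap_mem hB.sq hd.mv ha hb hn.2.2.2.2.2
  have E : Ext ζ (ζ * swap α β * swap a b) := ⟨by
    ext i; have := sq_ap hB.sq i; simp only [mul_apply, one_apply]; grind (splits := 20),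
    fun i hi => by simp only [mul_apply]; grind⟩
  refine (hγ.alt _ hx fun y hy => b0_comm E.sq (fun i => by simp only [mul_apply, tr]; grind)
    (E.of_bs hα hβ (by simp only [mul_apply]; grind) hy).2).resolve_right fun e => ?_
  have m1 := tr_tr_mem hB.sq hd.mv hd.mv'
  have m2 := tr_swap_mem hB.sq hd.mv hα hβ hn.1
  have m3 := tr_swap_mem hB.sq hd.mv' hα hβ hn.1
  have m4 := tr_swap_mem hB.sq hd.mv' ha hb hn.2.2.2.2.2
  -- `γ` fixes `tr p * σ'`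
  have e1 := hγ.gg.act _ (bs_tr_tr hB.sq hd.mv hd.mv' hα hβ)
  rw [pi_tr_tr hB.sq hd.symm hα hβ hn.1] at e1
  have e2 : γ * ι (tr ζ p * swap a b) * γ⁻¹ = ι (tr ζ p * swap a b) := by
    have f1 : tr ζ p * swap a b = tr ζ q * tr ζ p * (tr ζ q * swap a b) := by
      ext i; simp only [mul_apply, tr]; clear * - hd hn n1 n2 ha hb; grind (splits := 20)
    have f2 : tr ζ p * swap a b =
        tr ζ q * swap α β * (tr ζ q * swap a b * (tr ζ p * swap α β)) := by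
      ext i; simp only [mul_apply, tr]; clear * - hd hn n1 n2 ha hb hα hβ; grind (splits := 40)
    rw [f1, h.mul m1 hx, ← conj_mul, e, e1, ← h.mul m2 (mul_mem hx m3), ← f2, ← h.mul m1 hx, ← f1]
  -- the image of `ζ`
  have e3 := hγ.gg.act _ (bs_zeta hB hα hβ)
  have f3 : swap p α * swap (ζ p) β * ζ * (swap p α * swap (ζ p) β)⁻¹ = ζ * (tr ζ p * swap α β) := by
    rw [mul_inv_eq_iff_eq_mul]
    ext i; have n3 := sq_ap hB.sq i
    simp only [mul_apply, tr]; clear * - hd hn n1 n3 hα hβ; grind (splits := 40)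
  rw [f3, h.ιζ] at e3
  have hk : swap α a * swap β b ∈ HU ζ := mem_HU_of_fix (AltC.sign_dbl hn.2.1 hn.2.2.2.2.1)
    fun i hi => by simp only [mul_apply]; clear * - hi ha hb hα hβ; grind
  have z1 := h.isConj hk (mul_mem hB.mem m3) (isConj_iff.2 ⟨γ, e3⟩)
  have f4 : swap α a * swap β b * (ζ * (tr ζ p * swap α β)) * (swap α a * swap β b)⁻¹ =
      ζ * (tr ζ p * swap a b) := by
    rw [← conj_mul, ← conj_mul, hk.2, mul_inv_cancel_right, conj_tr hk.2, conj_swap]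
    simp only [mul_apply]
    congr 3 <;> (clear * - hd hn ha hb hα hβ; grind)
  rw [f4] at z1
  have z2 := z1.trans (isConj_iff.2 ⟨γ, rfl⟩)
  rw [h.mul hB.mem m4, ← conj_mul, h.ιζ, e3, e2, ← h.mul (mul_mem hB.mem m3) m4] at z2
  have z3 := DFunLike.congr_fun (h.zf hB (mul_mem (mul_mem hB.mem m3) m4) z2 fun i hi => by
    have n3 := sq_ap hB.sq i
    simp only [mul_apply, tr]; clear * - hd hn n1 n3 ha hb hα hβ hi; grind (splits := 40)) α
  simp only [mul_apply, tr] at z3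
  clear * - hd hn n1 ha hb hα hβ z3; grind

theorem GM.act (hB : Big ζ) (h : ZC z ζ ι) (E : Ext ζ μ) (hγ : GM ζ ι p α β γ) (hμ : μ α = β) :
    Act ι μ γ (swap p α * swap (ζ p) β) := by
  have hα := hγ.gg.hα
  have hβ := hγ.gg.hβ
  have hn := hγ.gg.ne
  have hp := hγ.gg.hr
  have n1 := sq_ap hB.sq p
  have hc : swap p α * swap (ζ p) β * μ = μ * (swap p α * swap (ζ p) β) := by
    have := sw_comm E.sq (p := p) (q := α) (by rw [Df, E.mv p hp, hμ]; grind)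
    rwa [sw, E.mv p hp, hμ] at this
  generalize hπ : swap p α * swap (ζ p) β = π at hc
  let P : Subgroup (Perm Ω) :=
    { carrier := {x | Bs μ x ∧ γ * ι x * γ⁻¹ = ι (π * x * π⁻¹)}
      mul_mem' := fun {x y} hx hy => ⟨hx.1.mul E.sq hy.1, by
        rw [h.mul (E.mem hB.sq hx.1) (E.mem hB.sq hy.1), ← conj_mul, hx.2, hy.2, ← h.mul
          (E.mem hB.sq (hx.1.conj' hc)) (E.mem hB.sq (hy.1.conj' hc)), conj_mul]⟩
      one_mem' := ⟨bs_one, by simp [h.one]⟩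
      inv_mem' := fun {x} hx => by rwa [hx.1.inv E.sq] }
  obtain ⟨q, -, hd, -⟩ := hB.fresh2 hp
  have n2 := sq_ap hB.sq q
  have h0 : ∀ y, Bs (ζ * swap α β) y → y ∈ P := fun y hy =>
    ⟨E.of_bs hα hβ hμ hy, hπ ▸ hγ.gg.act y hy⟩
  have key : ∀ i, μ i ≠ i → tr ζ q * tr μ i ∈ P := fun i hi => by
    by_cases h1 : ζ i = i
    swap
    · rw [tr.eq_1 μ, E.mv i h1]; exact h0 _ (bs_tr_tr hB.sq hd.mv h1 hα hβ)
    have n3 := sq_ap E.sq i
    have n4 := sq_ap E.sq α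
    by_cases h2 : i = α
    · rw [tr.eq_1 μ, h2, hμ]; exact h0 _ (bs_tr_swap hB.sq hd.mv hα hβ hn)
    by_cases h3 : i = β
    · rw [tr.eq_1 μ, h3, ← hμ, n4, swap_comm, hμ]; exact h0 _ (bs_tr_swap hB.sq hd.mv hα hβ hn)
    have h4 := E.fx hB.sq h1
    have h5 : N4 α β i (μ i) := by clear * - hn hi h2 h3 n3 n4 hμ; grind
    refine ⟨by rw [tr.eq_1 ζ, ← E.mv q hd.mv]; exact bs_pair E.sq (E.mv q hd.mv ▸ hd.mv) hi, ?_⟩
    rw [tr.eq_1 μ, hγ.fix hB h hd h1 h4 h5, ← conj_mul, tr, conj_swap, conj_swap, ← hπ]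
    simp only [mul_apply]
    congr 3 <;> (clear * - hd h5 h1 h4 hα hβ n1 n2; grind)
  refine ⟨hc, fun x hx => (AltC.mem_of_pairs (s := μ) P (fun i j hij => ?_) (hx.sq E.sq) hx.1
    hx.2).2⟩
  have := mul_mem (inv_mem (key i hij.1.symm)) (key j hij.2.2.2.2.2.symm)
  rwa [mul_inv_rev, tr_inv, tr_inv, mul_assoc, ← mul_assoc (tr ζ q), tr_sq, one_mul] at this

end Cfsg.Lib.AltZ
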