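import Cfsg.Agent.AltC.Fus
import Cfsg.Agent.AltC.Tv0
import Cfsg.Agent.AltC.Gg

/-! The transvection whose centre involves all cycles on the fixed points. -/

set_option autoImplicit false
set_option linter.unusedSectionVars false

namespace Cfsg.Lib.AltZ

open Equiv Equiv.Perm
open Cfsg.Lib.AltC (N4 sq_ap cm_ap sign_cases)

variable {Ω : Type*} [DecidableEq Ω] [Fintype Ω] {G : Type*} [Group G]
  {z : G} {ζ μ : Perm Ω} {ι : Perm Ω → G} {r : Ω} {g : G}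

/-- The centre of the bad transvection. -/
def cB (ζ μ : Perm Ω) (r : Ω) : Perm Ω := tr ζ r * (μ * ζ)

/-- The bad transvection. -/
def TB (ι : Perm Ω → G) (ζ μ : Perm Ω) (r : Ω) (g : G) : Prop :=
  ∀ x, Bs μ x → g * ι x * g⁻¹ = if (x r = r ↔ ε1 ζ x = 1) then ι x else ι (x * cB ζ μ r)

/-- `γ` conjugates `ι x` to `ι y`. -/
structure Cj (ζ : Perm Ω) (ι : Perm Ω → G) (γ : G) (x y : Perm Ω) : Prop where
  hx : x ∈ HU ζ
  hy : y ∈ HU ζ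
  e : γ * ι x * γ⁻¹ = ι y

section cj

variable {γ δ : G} {x y x' y' w : Perm Ω}

theorem Cj.mul (h : ZC z ζ ι) (a : Cj ζ ι γ x y) (b : Cj ζ ι γ x' y') :
    Cj ζ ι γ (x * x') (y * y') :=
  ⟨mul_mem a.hx b.hx, mul_mem a.hy b.hy, by
    rw [h.mul a.hx b.hx, h.mul a.hy b.hy, ← a.e, ← b.e, conj_mul]⟩

theorem Cj.trans (a : Cj ζ ι γ x y) (b : Cj ζ ι δ y w) : Cj ζ ι (δ * γ) x w :=
  ⟨a.hx, b.hy, by rw [← b.e, ← a.e]; group⟩

theorem Cj.symm (a : Cj ζ ι γ x y) : Cj ζ ι γ⁻¹ y x := ⟨a.hy, a.hx, by rw [← a.e]; group⟩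

theorem Cj.inv (h : ZC z ζ ι) (a : Cj ζ ι γ x y) : Cj ζ ι γ x⁻¹ y⁻¹ :=
  ⟨inv_mem a.hx, inv_mem a.hy, by rw [h.inv a.hx, h.inv a.hy, ← a.e]; group⟩

theorem Cj.isz (a : Cj ζ ι γ x y) (hz : IsConj z (ι x)) : IsConj z (ι y) :=
  hz.trans (isConj_iff.2 ⟨γ, a.e⟩)

theorem Cj.uniq (h : ZC z ζ ι) (a : Cj ζ ι γ x y) (b : Cj ζ ι γ x y') : y = y' :=
  h.eq a.hy b.hy (a.e.symm.trans b.e)

theorem Cj.congr (a : Cj ζ ι γ x y) (e1 : x = x') (e2 : y = y') : Cj ζ ι γ x' y' :=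
  e1 ▸ e2 ▸ a

theorem ZC.cj' (h : ZC z ζ ι) {k : Perm Ω} (hk : k ∈ HU ζ) (hx : x ∈ HU ζ) (e : k * x = y * k) :
    Cj ζ ι (ι k) x y := by
  have e' : k * x * k⁻¹ = y := mul_inv_eq_iff_eq_mul.2 e
  exact ⟨hx, e' ▸ mul_mem (mul_mem hk hx) (inv_mem hk), by rw [h.cj hk hx, e']⟩

theorem ZC.cj_one (h : ZC z ζ ι) (γ : G) : Cj ζ ι γ 1 1 :=
  ⟨one_mem _, one_mem _, by rw [h.one]; group⟩

end cj

theorem cB_fx (h2 : ζ * ζ = 1) (hr : ζ r ≠ r) {i : Ω} (hi : ζ i = i) : cB ζ μ r i = μ i ∨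
    ζ (μ i) ≠ μ i := by
  have := sq_ap h2 r
  simp only [cB, mul_apply, tr]; grind

theorem Full.cB_fx (hB : Big ζ) (hμ : Full ζ μ) (hr : ζ r ≠ r) {i : Ω} (hi : ζ i = i) :
    cB ζ μ r i = μ i := (AltZ.cB_fx hB.sq hr hi).resolve_right (not_not.2 (hμ.fx i hi))

theorem Full.cB_mv (hB : Big ζ) (hμ : Full ζ μ) {i : Ω} (hi : ζ i ≠ i) :
    cB ζ μ r i = tr ζ r i := by rw [cB, mul_apply, hμ.tau_mv hB hi]

theorem Full.cB_bs (hB : Big ζ) (hμ : Full ζ μ) (hr : ζ r ≠ r) : Bs μ (cB ζ μ r) :=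
  ⟨by rw [cB, Perm.sign_mul, sign_tr hr, hμ.sign hB]; rfl,
    b0_mul hμ.sq (by rw [← hμ.tr_eq hr]; exact b0_tr hμ.sq r) hμ.tau_b0⟩

theorem Full.cB_r (hB : Big ζ) (hμ : Full ζ μ) (hr : ζ r ≠ r) : cB ζ μ r r = ζ r := by
  rw [hμ.cB_mv hB hr, tr, swap_apply_left]

theorem Full.cB_ε (hB : Big ζ) (hμ : Full ζ μ) (hr : ζ r ≠ r) : ε1 ζ (cB ζ μ r) = -1 := by
  rw [ε1, restr_eq (y := μ * ζ) (fun p hp => by rw [hμ.cB_fx hB hr hp, Full.tau_fx hp])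
    (fun p hp => hμ.tau_mv hB hp), hμ.sign hB]

theorem ε1_of_mv {x : Perm Ω} (h : ∀ p, ζ p ≠ p → x p = p) : ε1 ζ x = sign x := by
  rw [ε1, restr_eq (y := x) (fun _ _ => rfl) h]

theorem cB_conj {k : Perm Ω} (hk : k ∈ HU ζ) (hm : k * μ = μ * k) (r : Ω) :
    k * cB ζ μ r * k⁻¹ = cB ζ μ (k r) := by
  rw [cB, cB, ← conj_mul, conj_tr hk.2, ← conj_mul, hm, hk.2]; simp

theorem TV.tb (hB : Big ζ) (hμ : Full ζ μ) (hr : ζ r ≠ r) (ht : TV ι μ (tr ζ r * (μ * ζ)) g) :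
    TB ι ζ μ r g := fun x hx => by
  rw [ht x hx]
  have hk := fix_iff (hμ.le hx).2
  have h1 := sq_ap hB.sq r
  have h2 := cm_ap (hμ.le hx).2 r
  have h3 := hμ.j0 hx.2 r hr
  have rp : ∀ {p}, ζ p = p → restr (fun p => ζ p = p) x p = x p := fun hq => restr_pos hk hq
  have rn : ∀ {p}, ζ p ≠ p → restr (fun p => ζ p = p) x p = p := fun hq => restr_neg x hq
  refine if_congr ?_ rfl rfl
  change sign (restr (fun p => cB ζ μ r p ≠ p) x) = 1 ↔ _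
  by_cases hxr : x r = r
  · rw [restr_eq (y := restr (fun p => ζ p = p) x) (fun p hp => ?_) (fun p hp => ?_)]
    · simp [hxr, ε1]
    · by_cases hq : ζ p = p
      · exact rp hq
      · rw [rn hq]; rw [hμ.cB_mv hB hq, tr_apply] at hp; grind
    · by_cases hq : ζ p = p
      · rw [rp hq]; rw [hμ.cB_fx hB hr hq] at hp; have := hx.2 p; grind
      · exact rn hq
  · rw [restr_eq (y := tr ζ r * restr (fun p => ζ p = p) x) (fun p hp => ?_) (fun p hp => ?_)]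
    · rw [Perm.sign_mul, sign_tr hr]
      rcases Int.units_eq_one_or (ε1 ζ x) with e | e <;> rw [e] <;> rw [ε1] at e <;> rw [e] <;>
        simp [hxr]
    · by_cases hq : ζ p = p
      · have := (hk p).2 hq
        rw [mul_apply, rp hq, tr_apply]; grind
      · rw [mul_apply, rn hq]; rw [hμ.cB_mv hB hq] at hp; rw [tr_apply] at hp ⊢; grind
    · by_cases hq : ζ p = p
      · rw [mul_apply, rp hq, tr_apply]; rw [hμ.cB_fx hB hr hq] at hp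
        have := hx.2 p; grind
      · rw [mul_apply, rn hq, ← hμ.cB_mv hB hq]; exact not_not.1 hp

theorem TB.fix (hμ : Full ζ μ) (ht : TB ι ζ μ r g) {x : Perm Ω} (hx : Bs μ x)
    (hc : x r = r ↔ ε1 ζ x = 1) : Cj ζ ι g x x :=
  ⟨hμ.le hx, hμ.le hx, by rw [ht x hx, if_pos hc]⟩

theorem TB.mv (hB : Big ζ) (hμ : Full ζ μ) (hr : ζ r ≠ r) (ht : TB ι ζ μ r g) {x : Perm Ω}
    (hx : Bs μ x) (hc : ¬ (x r = r ↔ ε1 ζ x = 1)) : Cj ζ ι g x (x * cB ζ μ r) :=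
  ⟨hμ.le hx, hμ.le (hx.mul hμ.sq (hμ.cB_bs hB hr)), by rw [ht x hx, if_neg hc]⟩

theorem Full.cond (hB : Big ζ) (hμ : Full ζ μ) (hr : ζ r ≠ r) {x : Perm Ω} (hx : Bs μ x)
    (hc : ¬ (x r = r ↔ ε1 ζ x = 1)) :
    ¬ ((x * cB ζ μ r) r = r ↔ ε1 ζ (x * cB ζ μ r) = 1) := by
  rw [chr_ε1.mul (hμ.le hx) (hμ.le (hμ.cB_bs hB hr)), hμ.cB_ε hB hr, mul_apply, hμ.cB_r hB hr,
    cm_ap (hμ.le hx).2]
  have h1 := sq_ap hB.sq r
  have h3 := hμ.j0 hx.2 r hr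
  rcases Int.units_eq_one_or (ε1 ζ x) with e | e <;> rw [e] at hc ⊢ <;> simp at hc ⊢ <;> grind

theorem TB.two (hB : Big ζ) (hμ : Full ζ μ) (hr : ζ r ≠ r) (ht : TB ι ζ μ r g) {g' : G}
    (ht' : TB ι ζ μ r g') {x : Perm Ω} (hx : Bs μ x) : Cj ζ ι (g * g') x x := by
  by_cases hc : x r = r ↔ ε1 ζ x = 1
  · exact (ht'.fix hμ hx hc).trans (ht.fix hμ hx hc)
  · refine ((ht'.mv hB hμ hr hx hc).trans (ht.mv hB hμ hr (hx.mul hμ.sq (hμ.cB_bs hB hr))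
      (hμ.cond hB hr hx hc))).congr rfl ?_
    rw [mul_assoc, (hμ.cB_bs hB hr).sq hμ.sq, mul_one]

theorem TB.inv (hB : Big ζ) (hμ : Full ζ μ) (hr : ζ r ≠ r) (ht : TB ι ζ μ r g) :
    TB ι ζ μ r g⁻¹ := fun x hx => by
  rw [← ht x hx]
  have := (ht.two hB hμ hr ht hx).e
  calc g⁻¹ * ι x * g⁻¹⁻¹ = g⁻¹ * (g * g * ι x * (g * g)⁻¹) * g := by rw [this, inv_inv]
    _ = _ := by group

theorem TB.conj (h : ZC z ζ ι) (hμ : Full ζ μ) (hB : Big ζ) (hr : ζ r ≠ r) (ht : TB ι ζ μ r g)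
    {k : Perm Ω} (hk : k ∈ HU ζ) (hm : k * μ = μ * k) :
    TB ι ζ μ (k r) (ι k * g * (ι k)⁻¹) := fun x hx => by
  have hx' : Bs μ (k⁻¹ * x * k⁻¹⁻¹) := hx.conj' (Commute.inv_left hm).eq
  have c1 : Cj ζ ι (ι k) (k⁻¹ * x * k⁻¹⁻¹) x := h.cj' hk (hμ.le hx') (by group)
  have e : ((k⁻¹ * x * k⁻¹⁻¹) r = r ↔ ε1 ζ (k⁻¹ * x * k⁻¹⁻¹) = 1) ↔
      (x (k r) = k r ↔ ε1 ζ x = 1) := by
    rw [chr_ε1.cj (inv_mem hk) (hμ.le hx), inv_inv, mul_apply, mul_apply, inv_eq_iff_eq]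
  split_ifs with hc
  · have := ((c1.symm.trans (ht.fix hμ hx' (e.2 hc))).trans c1).e
    rwa [← mul_assoc] at this
  · have c2 := ht.mv hB hμ hr hx' (fun a => hc (e.1 a))
    have c3 : Cj ζ ι (ι k) (k⁻¹ * x * k⁻¹⁻¹ * cB ζ μ r) (x * cB ζ μ (k r)) :=
      h.cj' hk c2.hy (by rw [← cB_conj hk hm]; group)
    rw [← ((c1.symm.trans c2).trans c3).e]; group

theorem TB.base (h : ZC z ζ ι) (hμ : Full ζ μ) (ht : TB ι ζ μ r g) {a : Perm Ω} (ha : Bs μ a) :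
    TB ι ζ μ r (g * ι a) := fun x hx => by
  rw [← ht x hx]
  nth_rw 2 [← (h.cj' (hμ.le ha) (hμ.le hx) (ha.comm hμ.sq hx)).e]
  group

theorem Full.df_mu (hB : Big ζ) (hμ : Full ζ μ) {p q : Ω} (hd : Df ζ p q) : Df μ p q := by
  rw [Df, hμ.mv p hd.1.symm, hμ.mv q hd.2.2.2.2.2.symm]; exact hd

theorem Full.sw_eq (hμ : Full ζ μ) {p q : Ω} (hd : Df ζ p q) : sw μ p q = sw ζ p q := by
  rw [sw, sw, hμ.mv p hd.1.symm, hμ.mv q hd.2.2.2.2.2.symm]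

theorem Full.sw_mu (hB : Big ζ) (hμ : Full ζ μ) {p q : Ω} (hd : Df ζ p q) :
    sw ζ p q * μ = μ * sw ζ p q := by
  rw [← hμ.sw_eq hd]; exact sw_comm hμ.sq (hμ.df_mu hB hd)

theorem TB.at (h : ZC z ζ ι) (hμ : Full ζ μ) (hB : Big ζ) (ht : TB ι ζ μ r g) {p : Ω}
    (hd : Df ζ r p) : ∃ g', TB ι ζ μ p g' := by
  have := ht.conj h hμ hB hd.1.symm (sw_mem hB.sq hd) (hμ.sw_mu hB hd)
  rw [sw_left hd] at this
  exact ⟨_, this⟩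

theorem ε1_zeta : ε1 ζ ζ = 1 := chr_ε1.ζ1

theorem TB.zeta (hB : Big ζ) (hμ : Full ζ μ) (hr : ζ r ≠ r) (ht : TB ι ζ μ r g) :
    Cj ζ ι g ζ (ζ * cB ζ μ r) :=
  ht.mv hB hμ hr (hμ.bs hB) (by simp [hr, ε1_zeta])

theorem ZC.zz (h : ZC z ζ ι) : IsConj z (ι ζ) := h.ιζ ▸ IsConj.refl _

theorem TB.isz (hB : Big ζ) (h : ZC z ζ ι) (hμ : Full ζ μ) (hr : ζ r ≠ r) (ht : TB ι ζ μ r g) :
    IsConj z (ι (ζ * cB ζ μ r)) := (ht.zeta hB hμ hr).isz h.zz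

theorem TB.zeta' (hB : Big ζ) (hμ : Full ζ μ) (hr : ζ r ≠ r) (ht : TB ι ζ μ r g) :
    Cj ζ ι g (ζ * cB ζ μ r) ζ := by
  simpa using ((ht.inv hB hμ hr).zeta hB hμ hr).symm

/-- The transvection normalises the stabiliser of the frame modulo the base group. -/
theorem TB.b (hB : Big ζ) (h : ZC z ζ ι) (hμ : Full ζ μ) (hr : ζ r ≠ r) (ht : TB ι ζ μ r g)
    {k : Perm Ω} (hk : k ∈ HU ζ) (hm : k * μ = μ * k) (kr : k r = r) :
    ∃ b, Bs μ b ∧ Cj ζ ι g k (k * b) := by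
  have c0 := ht.zeta' hB hμ hr
  have e0 : k * (ζ * cB ζ μ r) = ζ * cB ζ μ r * k := by
    have := cB_conj hk hm r
    rw [kr, mul_inv_eq_iff_eq_mul] at this
    rw [← mul_assoc, hk.2, mul_assoc, this, mul_assoc]
  obtain ⟨k', hk', e⟩ := h.surj (g * ι k * g⁻¹) (by
    rw [← h.ιζ, ← c0.e, conj_mul, conj_mul, (h.comm_iff hk c0.hx).2 e0])
  refine ⟨k⁻¹ * k', hμ.cent hB (mul_mem (inv_mem hk) hk').1 fun x hx => ?_,
    hk, by simpa using hk', by simpa using e.symm⟩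
  have t2 := (ht.inv hB hμ hr).conj h hμ hB hr hk hm
  rw [kr] at t2
  have c1 : Cj ζ ι (ι k) x (k * x * k⁻¹) := h.cj' hk (hμ.le hx) (by group)
  have c2 := c1.trans (ht.two hB hμ hr t2 (hx.conj' hm))
  have c3 : Cj ζ ι (ι k') x (k' * x * k'⁻¹) := h.cj' hk' (hμ.le hx) (by group)
  have e3 : g * (ι k * g⁻¹ * (ι k)⁻¹) * ι k = ι k' := by rw [e]; group
  rw [e3] at c2
  have := c2.uniq h c3
  calc k⁻¹ * k' * x = k⁻¹ * (k' * x * k'⁻¹) * k' := by group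
    _ = _ := by rw [← this]; group

theorem TB.b_const (hB : Big ζ) (h : ZC z ζ ι) (hμ : Full ζ μ) (hr : ζ r ≠ r)
    (ht : TB ι ζ μ r g) {s b : Perm Ω} (hs : ∀ p, ζ p ≠ p → s p = p) (hb : Bs μ b)
    (c : Cj ζ ι g s (s * b)) {p q : Ω} (hp : Df ζ r p) (hq : Df ζ r q) (e : b p = p) : b q = q := by
  have b1 := cm_ap (hμ.le hb).2
  by_cases hpq : q = p ∨ q = ζ p
  · rcases hpq with rfl | rfl
    · exact e
    · rw [b1, e]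
  have hd : Df ζ p q := df_of hB.sq hp.2.2.2.2.2.symm hq.2.2.2.2.2.symm (by grind) (by grind)
  obtain ⟨bv, hv, cv⟩ := ht.b hB h hμ hr (sw_mem hB.sq hd) (hμ.sw_mu hB hd)
    (sw_off (by grind) (by grind) (by grind) (by grind))
  have e1 : s * sw ζ p q = sw ζ p q * s := (comm_of_fix fun i hi => hs i fun e => hi (by
    have := sq_ap hB.sq p; have := sq_ap hB.sq q
    exact sw_off (by grind) (by grind) (by grind) (by grind))).symm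
  have e2 := DFunLike.congr_fun (((c.mul h cv).congr e1 rfl).uniq h (cv.mul h c)) p
  have a1 := hμ.j0 hv.2 p hd.1.symm
  have a2 := hμ.j0 hb.2 q hd.2.2.2.2.2.symm
  have a3 := b1 q
  have a4 := sq_ap hB.sq p
  have a5 := sq_ap hB.sq q
  have a6 := hs p hd.1.symm
  have a7 := hs q hd.2.2.2.2.2.symm
  have a8 := hs (ζ q) (by grind)
  simp only [mul_apply, sw] at e2
  clear hs b1
  grind

end Cfsg.Lib.AltZ
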