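import Cfsg.Agent.AltC.Bad1

/-! The bad transvection is impossible unless there are exactly six fixed points. -/

set_option autoImplicit false
set_option linter.unusedSectionVars false

namespace Cfsg.Lib.AltZ

open Equiv Equiv.Perm
open Cfsg.Lib.AltC (N4 sq_ap cm_ap sign_cases)

variable {Ω : Type*} [DecidableEq Ω] [Fintype Ω] {G : Type*} [Group G]
  {z : G} {ζ μ : Perm Ω} {ι : Perm Ω → G} {r : Ω} {g : G}

theorem Full.sw_fix (hμ : Full ζ μ) {a b : Ω} (ha : ζ a = a) (hb : ζ b = b) :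
    ∀ p, ζ p ≠ p → sw μ a b p = p := fun p hp => by
  have := hμ.fx a ha; have := hμ.fx b hb
  exact sw_off (by grind) (by grind) (by grind) (by grind)

theorem Full.sw_HU (hμ : Full ζ μ) {a b : Ω} (ha : ζ a = a) (hb : ζ b = b) (hd : Df μ a b) :
    sw μ a b ∈ HU ζ := hμ.sw_mem hd (by simp [ha, hb])

theorem swap_mu {a b : Ω} (h2 : μ * μ = 1) (hd : Df μ a b) :
    swap (μ a) (μ b) * μ = μ * sw μ a b * swap (μ a) (μ b) := by
  have m := sq_ap h2
  ext i
  have := m a; have := m b; have := m i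
  have i1 : μ i = μ a → i = a := fun e => μ.injective e
  have i2 : μ i = μ b → i = b := fun e => μ.injective e
  clear m
  simp only [mul_apply, sw]; grind

theorem TB.four (hB : Big ζ) (h : ZC z ζ ι) (hμ : Full ζ μ) (hr : ζ r ≠ r) (ht : TB ι ζ μ r g)
    {a b c d : Ω} (ha : ζ a = a) (hb : ζ b = b) (hc : ζ c = c) (hd : ζ d = d) (ab : Df μ a b)
    (ac : Df μ a c) (ad : Df μ a d) (bc : Df μ b c) (bd : Df μ b d) (cd : Df μ c d) : False := by
  have s1 := hμ.sw_HU ha hb ab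
  have s2 := hμ.sw_HU hc hd cd
  have s3 := hμ.sw_HU ha hc ac
  have s4 := hμ.sw_HU hb hd bd
  have f1 := hμ.sw_fix ha hb
  have f2 := hμ.sw_fix hc hd
  have f3 := hμ.sw_fix ha hc
  have f4 := hμ.sw_fix hb hd
  have km : sw μ a c * sw μ b d * μ = μ * (sw μ a c * sw μ b d) := by
    rw [mul_assoc, sw_comm hμ.sq bd, ← mul_assoc, sw_comm hμ.sq ac, mul_assoc]
  obtain ⟨b1, hb1, c1⟩ := ht.b hB h hμ hr s1 (sw_comm hμ.sq ab) (f1 r hr)
  obtain ⟨b2, hb2, c2⟩ := ht.b hB h hμ hr s2 (sw_comm hμ.sq cd) (f2 r hr)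
  obtain ⟨b3, hb3, c3⟩ := ht.b hB h hμ hr (mul_mem s3 s4) km (by rw [mul_apply, f4 r hr, f3 r hr])
  have e1 : sw μ a c * sw μ b d * sw μ a b = sw μ c d * (sw μ a c * sw μ b d) := by
    rw [← mul_inv_eq_iff_eq_mul, conj_sw km, mul_apply, mul_apply, sw_left bd,
      sw_off (i := a) (by grind) (by grind) (by grind) (by grind), sw_left ac,
      sw_off (i := d) (by grind) (by grind) (by grind) (by grind)]
  have e2 := ((c3.mul h c1).congr e1 rfl).uniq h (c2.mul h c3)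
  have e3 : ∀ p, ζ p ≠ p → b1 p = b2 p := fun p hp => by
    have q := sq_ap hB.sq p
    have hp' : ζ (ζ p) ≠ ζ p := by grind
    have := DFunLike.congr_fun e2 p
    have a1 := hμ.j0 hb1.2 p hp
    have a2 := hμ.j0 hb2.2 p hp
    have a3 := hμ.j0 hb3.2 p hp
    have a4 := cm_ap (hμ.le hb2).2 p
    have a5 := cm_ap (hμ.le hb3).2 p
    have := f1 p hp; have := f2 p hp; have := f3 p hp; have := f4 p hp
    have := f1 _ hp'; have := f2 _ hp'; have := f3 _ hp'; have := f4 _ hp'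
    simp only [mul_apply] at *
    clear f1 f2 f3 f4 e1 e2 km
    grind
  have fa := hμ.fx a ha
  have fb := hμ.fx b hb
  have fc := hμ.fx c hc
  have fd := hμ.fx d hd
  have y1 := AltC.fix_comm fa fb
  have y2 := AltC.fix_comm fc fd
  have hy : swap (μ c) (μ d) * swap (μ a) (μ b) ∈ HU ζ :=
    ⟨AltC.sign_dbl (by grind) (by grind), by rw [mul_assoc, y1, ← mul_assoc, y2, mul_assoc]⟩
  have q := sq_ap hB.sq r
  have t1 : swap (μ a) (μ b) * tr ζ r = tr ζ r * swap (μ a) (μ b) := (AltC.sw_comm (by grind)).eq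
  have t2 : swap (μ c) (μ d) * tr ζ r = tr ζ r * swap (μ c) (μ d) := (AltC.sw_comm (by grind)).eq
  have t3 : swap (μ c) (μ d) * sw μ a b = sw μ a b * swap (μ c) (μ d) :=
    ((AltC.sw_comm (by grind)).mul_right (AltC.sw_comm (by grind))).eq
  have c0 := ht.zeta' hB hμ hr
  have c4 : Cj ζ ι _ (ζ * cB ζ μ r) (ζ * cB ζ μ r * sw μ c d * sw μ a b) := h.cj' hy c0.hx (by
    have u1 := swap_mu hμ.sq ab
    have u2 := swap_mu hμ.sq cd
    have v1 := s1.2
    have v2 := s2.2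
    rw [cB]
    generalize swap (μ a) (μ b) = Y1, swap (μ c) (μ d) = Y2, sw μ a b = S1, sw μ c d = S2,
      tr ζ r = T at *
    calc Y2 * Y1 * (ζ * (T * (μ * ζ))) = Y2 * (Y1 * ζ) * T * μ * ζ := by group
      _ = Y2 * ζ * (Y1 * T) * μ * ζ := by rw [y1]; group
      _ = ζ * (Y2 * T) * (Y1 * μ) * ζ := by rw [y2, t1]; group
      _ = ζ * T * (Y2 * μ) * S1 * (Y1 * ζ) := by rw [t2, u1]; group
      _ = ζ * T * μ * S2 * (Y2 * S1) * ζ * Y1 := by rw [u2, y1]; group
      _ = ζ * T * μ * S2 * S1 * (Y2 * ζ) * Y1 := by rw [t3]; group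
      _ = ζ * T * μ * S2 * (S1 * ζ) * Y2 * Y1 := by rw [y2]; group
      _ = ζ * T * μ * (S2 * ζ) * S1 * Y2 * Y1 := by rw [v1]; group
      _ = _ := by rw [v2]; group)
  have c5 := (c0.mul h c2).mul h c1
  have e5 := h.zf hB c5.hy (c5.isz (c4.isz (ht.isz hB h hμ hr))) fun p hp => by
    have q := sq_ap hB.sq p
    have hp' : ζ (ζ p) ≠ ζ p := by grind
    have a1 := hμ.j0 hb1.2 p hp
    have a4 := cm_ap (hμ.le hb2).2 p
    have := e3 p hp
    have := f1 p hp; have := f2 p hp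
    have := f1 _ hp'; have := f2 _ hp'
    simp only [mul_apply]
    clear f1 f2 f3 f4 e1 e2 e3 km
    grind
  have e6 := DFunLike.congr_fun e5 a
  have a1 := hb1.2 a
  have a2 := hb2.2 b
  have a3 := hb2.2 (μ b)
  have a4 := sq_ap hμ.sq b
  simp only [mul_apply, sw] at e6
  clear f1 f2 f3 f4 e1 e2 e3 km e5 y1 y2 t1 t2 t3
  grind

end Cfsg.Lib.AltZ
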