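import Cfsg.Agent.AltC.Bad2

/-! The bad transvection on seven fixed points. -/

set_option autoImplicit false
set_option linter.unusedSectionVars false

namespace Cfsg.Lib.AltZ

open Equiv Equiv.Perm
open Cfsg.Lib.AltC (N4 sq_ap cm_ap sign_cases)

variable {Ω : Type*} [DecidableEq Ω] [Fintype Ω] {G : Type*} [Group G]
  {z : G} {ζ μ : Perm Ω} {ι : Perm Ω → G} {r a b c : Ω} {g : G}

/-- `μ` has exactly three cycles on the fixed points of `ζ`. -/
structure Tri (ζ μ : Perm Ω) (a b c : Ω) : Prop where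
  ha : ζ a = a
  hb : ζ b = b
  hc : ζ c = c
  ab : Df μ a b
  ac : Df μ a c
  bc : Df μ b c
  all : ∀ i, ζ i = i → μ i = i ∨ i = a ∨ i = μ a ∨ i = b ∨ i = μ b ∨ i = c ∨ i = μ c

theorem Tri.tau (hB : Big ζ) (hμ : Full ζ μ) (T : Tri ζ μ a b c) :
    μ * ζ = tr μ a * tr μ b * tr μ c := by
  ext i
  have := T.ab; have := T.ac; have := T.bc
  have := sq_ap hμ.sq a; have := sq_ap hμ.sq b; have := sq_ap hμ.sq c
  by_cases hi : ζ i = i
  · have := T.all i hi
    rw [Full.tau_fx hi]; simp only [mul_apply, tr]; grind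
  · have := hμ.fx a T.ha; have := hμ.fx b T.hb; have := hμ.fx c T.hc
    have := T.ha; have := T.hb; have := T.hc
    rw [hμ.tau_mv hB hi]; simp only [mul_apply, tr]; grind

theorem Tri.cB (hB : Big ζ) (hμ : Full ζ μ) (T : Tri ζ μ a b c) (r : Ω) :
    cB ζ μ r = tr μ a * tr μ b * (tr ζ r * tr μ c) ∨ ζ r = r := by
  refine (em (ζ r = r)).symm.imp_left fun hr => ?_
  rw [AltZ.cB, T.tau hB hμ, ← hμ.tr_eq hr, mul_assoc, ← mul_assoc, tr_tr_comm hμ.sq r, mul_assoc,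
    ← mul_assoc (tr μ r), tr_tr_comm hμ.sq r]
  group

theorem Tri.shape (hB : Big ζ) (hμ : Full ζ μ) (T : Tri ζ μ a b c) (hr : ζ r ≠ r) {x : Perm Ω}
    (hx : Bs μ x) (h1 : ∀ p, Df ζ r p → x p = p) (h2 : x a = a ↔ x b = b) :
    x = 1 ∨ x = tr μ a * tr μ b ∨ x = tr ζ r * tr μ c ∨ x = tr μ a * tr μ b * (tr ζ r * tr μ c) := by
  have e : x = (if x a = a then 1 else tr μ a * tr μ b) *
      ((if x r = r then 1 else tr ζ r) * if x c = c then 1 else tr μ c) := by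
    ext i
    have := T.ab; have := T.ac; have := T.bc
    have := sq_ap hμ.sq a; have := sq_ap hμ.sq b; have := sq_ap hμ.sq c
    have := hμ.fx a T.ha; have := hμ.fx b T.hb; have := hμ.fx c T.hc
    have := T.ha; have := T.hb; have := T.hc
    have := sq_ap hB.sq r
    by_cases hi : ζ i = i
    · have := T.all i hi
      have := hx.2 a; have := hx.2 b; have := hx.2 c; have := hx.2 i
      have := b0_ap hμ.sq hx.2 a; have := b0_ap hμ.sq hx.2 b; have := b0_ap hμ.sq hx.2 c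
      clear h1
      split_ifs <;> simp only [mul_apply, tr, one_apply] <;> grind (splits := 40)
    · have := h1 i
      have := sq_ap hB.sq i
      have := hμ.j0 hx.2 r hr
      have := cm_ap (hμ.le hx).2 r
      clear h1
      split_ifs <;> simp only [mul_apply, tr, one_apply] <;> grind (splits := 40)
  have s := hx.1
  have s1 := sign_tr T.ab.1.symm
  have s2 := sign_tr T.bc.1.symm
  have s3 := sign_tr T.bc.2.2.2.2.2.symm
  have s4 := sign_tr hr
  rw [e] at s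
  split_ifs at e s <;> simp only [Perm.sign_mul, s1, s2, s3, s4, map_one] at s <;>
    first
    | exact absurd s (by decide)
    | exact .inr (.inr (.inr e))
    | simp only [one_mul, mul_one] at e; tauto

/-- The three-cycle on the four points of the first two cycles. -/
def rho (μ : Perm Ω) (a b : Ω) : Perm Ω := swap (μ a) (μ b) * swap (μ a) b

theorem rho_y (hd : Df μ a b) : rho μ a b * (tr μ a * tr μ b) = sw μ a b * rho μ a b := by
  ext i; simp only [rho, tr, sw, mul_apply]; grind (splits := 40)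

theorem rho_s (hd : Df μ a b) :
    rho μ a b * sw μ a b = sw μ a b * (tr μ a * tr μ b) * rho μ a b := by
  ext i; simp only [rho, tr, sw, mul_apply]; grind (splits := 40)

theorem rho_sy (hd : Df μ a b) :
    rho μ a b * (sw μ a b * (tr μ a * tr μ b)) = tr μ a * tr μ b * rho μ a b := by
  ext i; simp only [rho, tr, sw, mul_apply]; grind (splits := 40)

theorem Tri.rho_mem (hμ : Full ζ μ) (T : Tri ζ μ a b c) : rho μ a b ∈ HU ζ := by
  have := T.ab; have := hμ.fx a T.ha; have := hμ.fx b T.hb; have := T.hb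
  exact mem_HU_of_fix (AltC.sign_dbl (by grind) (by grind)) fun p hp => by
    simp only [rho, mul_apply]; grind

theorem rho_comm {x : Perm Ω} (h1 : x (μ a) = μ a) (h2 : x b = b) (h3 : x (μ b) = μ b) :
    rho μ a b * x = x * rho μ a b := by
  rw [rho, mul_assoc, AltC.fix_comm h1 h2, ← mul_assoc, AltC.fix_comm h1 h3, mul_assoc]

theorem Tri.rho_d (hB : Big ζ) (hμ : Full ζ μ) (T : Tri ζ μ a b c) (hr : ζ r ≠ r) :
    rho μ a b * (tr ζ r * tr μ c) = tr ζ r * tr μ c * rho μ a b := by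
  have := T.ac; have := T.bc; have := hμ.fx a T.ha; have := hμ.fx b T.hb; have := T.hb
  have := sq_ap hB.sq r
  refine rho_comm ?_ ?_ ?_ <;> simp only [tr, mul_apply] <;> grind

theorem Tri.y_bs (hμ : Full ζ μ) (T : Tri ζ μ a b c) : Bs μ (tr μ a * tr μ b) :=
  bs_pair hμ.sq T.ab.1.symm T.bc.1.symm

theorem Tri.d_bs (hμ : Full ζ μ) (T : Tri ζ μ a b c) (hr : ζ r ≠ r) : Bs μ (tr ζ r * tr μ c) := by
  rw [← hμ.tr_eq hr]
  exact bs_pair hμ.sq (by rwa [hμ.mv r hr]) T.bc.2.2.2.2.2.symm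

theorem Tri.y_fix (hμ : Full ζ μ) (T : Tri ζ μ a b c) : ∀ p, ζ p ≠ p → (tr μ a * tr μ b) p = p :=
  fun p hp => by
    have := hμ.fx a T.ha; have := hμ.fx b T.hb; have := T.ha; have := T.hb
    simp only [tr, mul_apply]; grind

theorem Tri.cj_y (hμ : Full ζ μ) (T : Tri ζ μ a b c) (hr : ζ r ≠ r) (ht : TB ι ζ μ r g) :
    Cj ζ ι g (tr μ a * tr μ b) (tr μ a * tr μ b) :=
  ht.fix hμ (T.y_bs hμ) (by simp [T.y_fix hμ r hr, ε1_of_mv (T.y_fix hμ), (T.y_bs hμ).1])

theorem Tri.cj_d (hB : Big ζ) (hμ : Full ζ μ) (T : Tri ζ μ a b c) (hr : ζ r ≠ r)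
    (ht : TB ι ζ μ r g) : Cj ζ ι g (tr ζ r * tr μ c) (tr ζ r * tr μ c) :=
  ht.fix hμ (T.d_bs hμ hr) (by
    have := hμ.fx c T.hc; have := T.hc
    rw [show tr μ c = swap c (μ c) from rfl,
      ε1_tr_swap hB.sq hr T.hc (hμ.fx c T.hc) T.bc.2.2.2.2.2]
    have : (-1 : ℤˣ) ≠ 1 := by decide
    simp only [tr, mul_apply]; grind)

theorem Tri.y_sq (hμ : Full ζ μ) (T : Tri ζ μ a b c) : tr μ a * tr μ b * (tr μ a * tr μ b) = 1 :=
  (T.y_bs hμ).sq hμ.sq

/-- The effect of the transvection on the exchange of two cycles. -/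
theorem Tri.bad_s (hB : Big ζ) (h : ZC z ζ ι) (hμ : Full ζ μ) (T : Tri ζ μ a b c) (hr : ζ r ≠ r)
    (ht : TB ι ζ μ r g) : Cj ζ ι g (sw μ a b) (sw μ a b * (tr ζ r * tr μ c)) ∨
      Cj ζ ι g (sw μ a b) (sw μ a b * (tr μ a * tr μ b) * (tr ζ r * tr μ c)) := by
  have s1 := hμ.sw_HU T.ha T.hb T.ab
  have f1 := hμ.sw_fix T.ha T.hb
  have f2 := T.y_fix hμ
  obtain ⟨b1, hb1, c1⟩ := ht.b hB h hμ hr s1 (sw_comm hμ.sq T.ab) (f1 r hr)
  have sy : b1 a = a ↔ b1 b = b := by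
    have e := DFunLike.congr_fun (((c1.mul h c1).congr (sw_sq T.ab) rfl).uniq h (h.cj_one g)) a
    have := hb1.2 a; have := hb1.2 b; have := b0_ap hμ.sq hb1.2 b; have := T.ab
    have := sq_ap hμ.sq b
    simp only [mul_apply, sw, one_apply] at e; grind
  have hρ := T.rho_mem hμ
  have hY := hμ.le (T.y_bs hμ)
  have hD := hμ.le (T.d_bs hμ hr)
  have ec := (T.cB hB hμ r).resolve_right hr
  have c0 := ht.zeta' hB hμ hr
  have z0 := ht.isz hB h hμ hr
  have cy := T.cj_y hμ hr ht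
  have dy := (T.d_bs hμ hr).comm hμ.sq (T.y_bs hμ)
  have ds : tr ζ r * tr μ c * sw μ a b = sw μ a b * (tr ζ r * tr μ c) := comm_of_fix fun i hi => by
    have := T.ac; have := T.bc; have := hμ.fx a T.ha; have := hμ.fx b T.hb; have := T.ha
    have := T.hb; have := sq_ap hB.sq r
    simp only [tr, sw, mul_apply] at hi ⊢; grind
  have ys := tr_tr_sw T.ab
  have y2 := T.y_sq hμ
  have r0 : Cj ζ ι _ ζ ζ := h.cj' hρ hB.mem hρ.2
  have r1 := h.cj' hρ hY (rho_y T.ab)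
  have r2 := h.cj' hρ s1 (rho_s T.ab)
  have r3 := h.cj' hρ (mul_mem s1 hY) (rho_sy T.ab)
  have r4 := h.cj' hρ hD (T.rho_d hB hμ hr)
  rw [ec] at z0 c0
  have hd : ∀ q, Df ζ r q → ¬ IsConj z (ι (tr μ a * tr μ b * (tr ζ r * tr μ c))) := fun q hq hz => by
    obtain ⟨g', tq⟩ := ht.at h hμ hB hq
    have q1 := hq.2.2.2.2.2.symm
    have c2 := tq.mv hB hμ q1 (hμ.cB_bs hB hr) (by
      have : (-1 : ℤˣ) ≠ 1 := by decide
      rw [hμ.cB_ε hB hr, hμ.cB_mv hB q1, tr_apply]; grind)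
    rw [← ec] at hz
    have e2 : AltZ.cB ζ μ r * AltZ.cB ζ μ q = tr ζ r * tr ζ q := by
      have e1 : μ * ζ * tr ζ q = tr ζ q * (μ * ζ) := by
        rw [← hμ.tr_eq q1]; exact b0_comm hμ.sq hμ.tau_b0 (b0_tr hμ.sq q)
      rw [AltZ.cB, AltZ.cB, mul_assoc, ← mul_assoc (μ * ζ), e1, mul_assoc,
        b0_sq hμ.sq hμ.tau_b0, mul_one]
    have z1 := c2.isz hz
    rw [e2] at z1
    have e3 := h.z1 hB (tr_tr_mem hB.sq hr q1) z1 (b0_mul hB.sq (b0_tr hB.sq r) (b0_tr hB.sq q))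
    obtain ⟨t, t1⟩ := hB.fresh r q q
    have := DFunLike.congr_fun e3 t
    simp only [tr, mul_apply] at this; grind
  obtain ⟨q, q1⟩ := hB.fresh r r r
  have hq : Df ζ r q := df_of hB.sq hr q1.1 q1.2.1 q1.2.2.1
  have hd := hd q hq
  have d1 : ∀ w, (∀ p, ζ p ≠ p → w p = p) → w a ≠ a → ζ * w ∈ HU ζ → ¬ IsConj z (ι (ζ * w)) :=
    fun w w1 w2 w3 hz => by
      have := DFunLike.congr_fun (h.zf hB w3 hz fun p hp => by rw [mul_apply, w1 p hp]) a
      rw [mul_apply] at this; exact w2 (ζ.injective this)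
  have n1 := d1 _ f1 (by rw [sw_left T.ab]; exact T.ab.2.1.symm) (mul_mem hB.mem s1)
  have n2 : ¬ IsConj z (ι (sw μ a b)) :=
    h.zd hB (by have := T.ab; grind) T.ha T.hb (hμ.fx a T.ha) (hμ.fx b T.hb)
  have ζs := s1.2
  have ζ2 := hB.sq
  have sh : (∀ p, Df ζ r p → b1 p = p) ∨ ∀ p, Df ζ r p → (ζ * b1) p = p := by
    by_cases e : b1 q = q
    · exact .inl fun p hp => ht.b_const hB h hμ hr f1 hb1 c1 hq hp e
    · refine .inr fun p hp => ?_
      rw [mul_apply, (hμ.j0 hb1.2 p hp.2.2.2.2.2.symm).resolve_left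
        fun e' => e (ht.b_const hB h hμ hr f1 hb1 c1 hp hq e'), sq_ap hB.sq]
  have sh1 := fun e => T.shape hB hμ hr hb1 e sy
  have sh2 := fun e => T.shape hB hμ hr ((hμ.bs hB).mul hμ.sq hb1) e (by
    have := hb1.2 a; have := hb1.2 b; have := hμ.fx a T.ha; have := hμ.fx b T.hb
    have := T.ha; have := T.hb
    simp only [mul_apply]; grind)
  generalize tr μ a * tr μ b = Y, sw μ a b = S, tr ζ r * tr μ c = D at *
  rw [← mul_assoc] at z0
  have z1 : IsConj z (ι (ζ * (S * b1))) := (c0.mul h c1).isz (by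
    have := ((r0.mul h r3).mul h r4).symm.isz z0
    rwa [show ζ * (Y * D) * S = ζ * (S * Y) * D by
      calc _ = ζ * Y * (D * S) := by group
        _ = ζ * (Y * S) * D := by rw [ds]; group
        _ = _ := by rw [ys]])
  have z2 : IsConj z (ι (ζ * Y * (S * b1))) := ((c0.mul h cy).mul h c1).isz (by
    have := ((r0.mul h r1).mul h r4).isz z0
    rwa [show ζ * (Y * D) * Y * S = ζ * S * D by
      calc _ = ζ * Y * (D * Y) * S := by group
        _ = ζ * (Y * Y) * (D * S) := by rw [dy]; group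
        _ = _ := by rw [y2, ds]; group])
  have k1 : Y * (S * Y) = S := by rw [← ys, ← mul_assoc, y2, one_mul]
  have k2 : ∀ w, ζ * b1 = w → b1 = ζ * w := fun w e => by rw [← e, ← mul_assoc, ζ2, one_mul]
  have k3 : ∀ w, ζ * (S * (ζ * w)) = S * w := fun w => by
    rw [← mul_assoc S, ζs, mul_assoc, ← mul_assoc, ζ2, one_mul]
  have k4 : ∀ w, ζ * Y * (S * (ζ * (Y * w))) = S * w := fun w => by
    rw [← hY.2, mul_assoc, k3, ← mul_assoc S, ← mul_assoc, k1]
  have n3 : ¬ IsConj z (ι (S * D)) := fun hz => hd ((r1.mul h r4).symm.isz hz)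
  rcases sh with e | e
  · rcases sh1 e with e | e | e | e <;> rw [e] at z1 z2 c1
    · exact (n1 (by simpa using z1)).elim
    · exact (n1 (by rwa [mul_assoc, k1] at z2)).elim
    · exact .inl c1
    · exact .inr (c1.congr rfl (mul_assoc ..).symm)
  · rcases sh2 e with e | e | e | e <;> rw [k2 _ e] at z1 z2
    · exact (n2 (by rwa [k3, mul_one] at z1)).elim
    · have k5 := k4 1
      rw [mul_one, mul_one] at k5
      exact (n2 (by rwa [k5] at z2)).elim
    · exact (n3 (by rwa [k3] at z1)).elim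
    · exact (n3 (by rwa [k4] at z2)).elim

theorem Tri.seven (hB : Big ζ) (h : ZC z ζ ι) (hμ : Full ζ μ) (T : Tri ζ μ a b c) (hr : ζ r ≠ r)
    (ht : TB ι ζ μ r g) {φ : Ω} (φ1 : ζ φ = φ) (φ2 : μ φ = φ) : False := by
  have s1 := hμ.sw_HU T.ha T.hb T.ab
  have hρ := T.rho_mem hμ
  have hY := hμ.le (T.y_bs hμ)
  have ys := tr_tr_sw T.ab
  have y2 := T.y_sq hμ
  have fa := hμ.fx a T.ha
  have fb := hμ.fx b T.hb
  have fc := hμ.fx c T.hc
  have ha := T.ha
  have hb := T.hb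
  have hc := T.hc
  have ab := T.ab
  have ac := T.ac
  have bc := T.bc
  have m1 : (-1 : ℤˣ) ≠ 1 := by decide
  have r0 : Cj ζ ι _ ζ ζ := h.cj' hρ hB.mem hρ.2
  have r1 := h.cj' hρ hY (rho_y T.ab)
  have r2 := h.cj' hρ s1 (rho_s T.ab)
  have r3 := h.cj' hρ (mul_mem s1 hY) (rho_sy T.ab)
  obtain ⟨q, q1⟩ := hB.fresh r r r
  have hq : Df ζ r q := df_of hB.sq hr q1.1 q1.2.1 q1.2.2.1
  obtain ⟨p, p1⟩ := hB.fresh r q q
  have hp : Df ζ r p := df_of hB.sq hr p1.1 p1.2.1 p1.2.2.1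
  have zr := sq_ap hB.sq r
  have zq := sq_ap hB.sq q
  have zp := sq_ap hB.sq p
  have hA : Bs μ (tr ζ r * tr ζ q) := by
    rw [← hμ.tr_eq hr, ← hμ.tr_eq q1.1]
    exact bs_pair hμ.sq (by rwa [hμ.mv r hr]) (by rw [hμ.mv q q1.1]; exact q1.1)
  have eA : ε1 ζ (tr ζ r * tr ζ q) = 1 := ε1_of_fix fun i hi => by
    simp only [tr, mul_apply]; grind
  have rA := h.cj' hρ (hμ.le hA) (rho_comm (x := tr ζ r * tr ζ q)
    (by simp only [tr, mul_apply]; grind) (by simp only [tr, mul_apply]; grind)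
    (by simp only [tr, mul_apply]; grind))
  have hz' := (hμ.bs hB).mul hμ.sq hA
  have gz : Cj ζ ι g (ζ * (tr ζ r * tr ζ q)) (ζ * (tr ζ r * tr ζ q)) := ht.fix hμ hz' (by
    rw [chr_ε1.mul hB.mem (hμ.le hA), eA, ε1_zeta]
    simp only [tr, mul_apply]; grind)
  have gd := T.cj_d hB hμ hr ht
  have gy := T.cj_y hμ hr ht
  have rd := h.cj' hρ gd.hx (T.rho_d hB hμ hr)
  have rz := r0.mul h rA
  obtain ⟨gq, tq⟩ := ht.at h hμ hB hq
  have zq := tq.isz hB h hμ q1.1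
  have eq : ζ * AltZ.cB ζ μ q = ζ * (tr ζ r * tr ζ q) * (tr μ a * tr μ b * (tr ζ r * tr μ c)) := by
    rw [← (T.cB hB hμ r).resolve_right hr, AltZ.cB, AltZ.cB, tr_tr_comm hB.sq r]
    simp only [mul_assoc]
    rw [← mul_assoc (tr ζ r), tr_sq, one_mul]
  rw [eq] at zq
  have z7 : IsConj z (ι (ζ * (tr ζ r * tr ζ q) * (tr μ a * tr μ b))) := by
    have u1 := ((gz.symm.mul h gy.symm).trans (rz.mul h r1))
    rcases T.bad_s hB h hμ hr ht with c1 | c1
    · exact ((u1.trans (gz.mul h c1)).trans (rz.symm.mul h (r1.symm.mul h rd.symm))).symm.isz zq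
    · exact ((u1.trans (gz.mul h c1)).trans (rz.mul h (r3.mul h rd))).symm.isz zq
  obtain ⟨gp, tp, cp⟩ : ∃ gp, TB ι ζ μ p gp ∧ Cj ζ ι gp (sw μ a b * (tr μ a * tr μ b))
      (sw μ a b * (tr μ a * tr μ b) * (tr μ a * tr μ b * (tr ζ p * tr μ c))) := by
    obtain ⟨gp, tp⟩ := ht.at h hμ hB hp
    have dy := (T.d_bs hμ p1.1).comm hμ.sq (T.y_bs hμ)
    rcases T.bad_s hB h hμ p1.1 tp with c1 | c1
    · have hk : Bs μ (tr μ a * tr μ p) :=
        bs_pair hμ.sq ab.1.symm (by rw [hμ.mv p p1.1]; exact p1.1)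
      have c2 : Cj ζ ι _ _ (sw μ a b) := h.cj' (hμ.le hk) (mul_mem s1 hY) (by
        rw [hμ.tr_eq p1.1]
        ext i; simp only [tr, sw, mul_apply]; grind (splits := 40))
      refine ⟨_, tp.base h hμ hk, (c2.trans c1).congr rfl ?_⟩
      rw [mul_assoc, ← mul_assoc (tr μ a * tr μ b), y2, one_mul]
    · refine ⟨gp, tp, (c1.mul h (T.cj_y hμ p1.1 tp)).congr rfl ?_⟩
      rw [mul_assoc, dy]
  have ep := (T.cB hB hμ p).resolve_right p1.1
  have pd := h.cj' hρ (T.cj_d hB hμ p1.1 tp).hx (T.rho_d hB hμ p1.1)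
  have γy := (r3.symm.trans cp).trans (r3.mul h (r1.mul h pd))
  have γz := (r0.symm.trans (ep ▸ tp.zeta hB hμ p1.1)).trans (r0.mul h (r1.mul h pd))
  have γA := (rA.symm.trans (tp.fix hμ hA (by rw [eA]; simp only [tr, mul_apply]; grind))).trans rA
  generalize ι (rho μ a b) * (gp * (ι (rho μ a b))⁻¹) = γ at γy γz γA
  have γ7 := ((γz.mul h γA).mul h γy).congr rfl
    (show _ = ζ * (tr ζ r * tr ζ q) * (tr μ a * tr μ b) by
      rw [mul_assoc, mul_assoc, mul_assoc ζ]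
      congr 1
      ext i; simp only [tr, sw, mul_apply]
      by_cases h1 : ζ i = i
      · grind (splits := 60)
      · grind (splits := 60))
  obtain ⟨g7, e7⟩ := isConj_iff.1 z7
  obtain ⟨w', P⟩ := h.pair hB.ev hB.sq γ7.hx (fun e => by
    have := DFunLike.congr_fun e a
    simp only [tr, mul_apply] at this; grind) e7
  have mc := sq_ap hμ.sq c
  have ma := sq_ap hμ.sq a
  have mb := sq_ap hμ.sq b
  have hj : ∀ i, ζ i ≠ i ∨ (ζ * (tr ζ r * tr ζ q) * (tr μ a * tr μ b)) i ≠ i →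
      (swap φ c * swap φ (μ c)) i = i := fun i hi => by
    simp only [tr, mul_apply] at hi ⊢; grind (splits := 40)
  have j1 : sign (swap φ c * swap φ (μ c)) = 1 := AltC.sign_dbl (by grind) (by grind)
  have j2 : swap φ c * swap φ (μ c) ∈ HU ζ := mem_HU_of_fix j1 fun i hi => hj i (.inl hi)
  obtain ⟨j', rj⟩ := P.ex (x := swap φ c * swap φ (μ c))
    ⟨j2, mem_HU_of_fix j1 fun i hi => hj i (.inr hi)⟩
  obtain ⟨a', ra⟩ := P.ex (x := tr ζ r * tr ζ q)
    ⟨hμ.le hA, hA.1, hA.comm hμ.sq (hz'.mul hμ.sq (T.y_bs hμ))⟩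
  obtain ⟨k, hk, ek⟩ := h.surj (g7⁻¹ * γ * g7) (by
    have := γ7.e
    rw [← e7] at this
    calc _ = g7⁻¹ * (γ * (g7 * z * g7⁻¹) * γ⁻¹) * γ * g7 := by group
      _ = _ := by rw [this]; group)
  have ka : k * a' = a' * k := (h.comm_iff hk ra.2.1.1).1 (by
    have := γA.e
    rw [ra.2.2] at this
    rw [ek]
    calc _ = g7⁻¹ * (γ * (g7 * ι a' * g7⁻¹) * γ⁻¹) * γ * g7 := by group
      _ = _ := by rw [this]; group)
  have h7 : (Finset.univ.filter fun p => ζ p = p).card = 7 := by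
    rw [show (Finset.univ.filter fun p => ζ p = p) = {φ, a, μ a, b, μ b, c, μ c} by
      ext i
      have := T.all i
      have := hμ.one i φ
      simp only [Finset.mem_filter, Finset.mem_univ, true_and, Finset.mem_insert,
        Finset.mem_singleton]
      grind]
    repeat rw [Finset.card_insert_of_notMem (by
      simp only [Finset.mem_insert, Finset.mem_singleton]; grind)]
    rw [Finset.card_singleton]
  have key := P.seven hB h7 hq ab ha fa hb fb rfl (by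
    ext i; simp only [pow_succ, pow_zero, mul_apply, one_apply]; grind (splits := 40))
    hj rj ra hk ka
  have e9 : γ * ι (swap φ c * swap φ (μ c)) * γ⁻¹ = g7 * ι (k * j' * k⁻¹) * g7⁻¹ := by
    rw [← h.cj hk rj.2.1.1, ek, rj.2.2]; group
  have cm : ∀ j'', Cj ζ ι γ (swap φ c * swap φ (μ c)) j'' →
      j'' * (ζ * (sw μ a b * (tr ζ p * tr μ c))) = ζ * (sw μ a b * (tr ζ p * tr μ c)) * j'' :=
    fun j'' cj => ((cj.mul h γz).congr j2.2 rfl).uniq h (γz.mul h cj)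
  rcases key with e | e <;> rw [e] at e9
  · have := DFunLike.congr_fun (cm _ ⟨j2, j2, by rw [e9, rj.2.2]⟩) φ
    simp only [tr, sw, mul_apply] at this; grind (splits := 40)
  · have := DFunLike.congr_fun (cm _ ⟨j2, inv_mem j2, by
      rw [e9, h.inv j2, h.inv rj.2.1.1, rj.2.2]; group⟩) φ
    simp only [tr, sw, mul_apply, mul_inv_rev, swap_inv] at this; grind (splits := 40)

end Cfsg.Lib.AltZ
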