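import Cfsg.Agent.AltC.Good
import Cfsg.Agent.Local.D8Cent
import Cfsg.Agent.Known.PSL2Klein
import Cfsg.Agent.Solv.CoprimeGen
import Cfsg.Agent.S3261
import Cfsg.Agent.S0483
import Cfsg.Agent.S0107

/-! Charts on two or three letters: the groups `A₆`, `L₂(7)` and `A₇`. -/

set_option autoImplicit false

namespace Cfsg.Lib.AltC

open Equiv Equiv.Perm

variable {G : Type*} [Group G] {R : Type*} [Fintype R] [DecidableEq R] {a v : G}
  {ψ : Perm R →* G}

/-- A chart transported along a bijection of the letters. -/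
theorem Ch.congr {R' : Type*} [Fintype R'] [DecidableEq R'] (h : Ch a v ψ) (e : R' ≃ R) :
    Ch a v (ψ.comp e.permCongrHom.toMonoidHom) where
  a2 := h.a2
  a1 := h.a1
  v2 := h.v2
  av := h.av
  v1 := h.v1
  va := h.va
  ψa := fun _ => h.ψa _
  ψe := fun y hy => h.ψe _ ((sign_permCongr e y).trans hy)
  ψo := fun y hy => h.ψo _ ((sign_permCongr e y).trans hy)
  cent := fun c hc => by
    obtain ⟨x, y, hx, rfl⟩ := h.cent c hc
    exact ⟨x, e.permCongrHom.symm y, hx,
      congrArg (fun u => x * ψ u) (e.permCongrHom.apply_symm_apply y).symm⟩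
  inj := fun x y hx e' => e.permCongrHom.map_eq_one_iff.1 (h.inj x _ hx e')

open Known.GL2 in
/-- In `L₂(q)`, `q` odd, no element of order three centralises a four-group. -/
theorem psl_four_three {F : Type*} [Field F] [Finite F] (h2 : (2 : F) ≠ 0) {a v j : PSL2 F}
    (h : Known.IsFourPair a v) (j3 : j ^ 3 = 1) (ja : j * a = a * j) (jv : j * v = v * j) :
    j = 1 := by
  obtain ⟨i, hi, rfl⟩ := exists_lift_of_orderOf_two
    (orderOf_eq_prime (by rw [sq, h.sq_a]) h.a_ne)
  obtain ⟨y, rfl⟩ := piSL_surjective v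
  obtain ⟨J, rfl⟩ := piSL_surjective j
  have K : ∀ x, piSL F J * piSL F x = piSL F x * piSL F J → J * x = x * J := fun x e => by
    rw [← map_mul, ← map_mul, piSL_eq_iff] at e
    refine e.resolve_right fun e => h2 (neg_one_eq_one_SL.1 ?_)
    have e3 : J ^ 3 * x = -(x * J ^ 3) := by
      rw [pow_three, mul_assoc, mul_assoc, e, mul_neg, ← mul_assoc J x, e, neg_mul, neg_neg,
        ← mul_assoc, ← mul_assoc, e]
      simp [mul_assoc]
    have e4 := Subgroup.mem_center_iff.1
      ((slLin F).Z_eq_center ▸ piSL_pow_eq_one_iff.1 j3 : J ^ 3 ∈ Subgroup.center _) x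
    rw [← e4, ← neg_one_mul] at e3
    exact (right_eq_mul.1 e3)
  by_contra hj
  refine ((isFourPair_piSL_iff h2 hi).1 h).2 (Subgroup.mem_centralizer_singleton_iff.2 ?_)
  have hJ : ¬ IsScal ((slLin F).ρ J) := fun e => hj (piSL_eq_one_iff.2 e)
  exact (slLin F).commute_iff_ρ.2 (commute_of_commute hJ
    ((slLin F).commute_iff_ρ.1 (K y jv).symm) ((slLin F).commute_iff_ρ.1 (K i ja).symm))

section Small

variable {s : Perm R}

theorem Ch.four (h : Ch a v ψ) : Known.IsFourPair a v :=
  ⟨h.a2, h.v2, h.av.symm, h.a1, h.v1, h.va.symm⟩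

theorem Ch.tv_sq (h : Ch a v ψ) (so : sign s = -1) (s2 : s * s = 1) :
    ψ s * v * (ψ s * v) = a := by
  nth_rw 1 [h.ψo s so]
  rw [mul_assoc (a * v), ← mul_assoc (ψ s), ← map_mul, s2, map_one, one_mul, mul_assoc, h.v2,
    mul_one]

theorem Ch.ord_t (h : Ch a v ψ) (so : sign s = -1) (s2 : s * s = 1) : orderOf (ψ s) = 2 :=
  Local.orderOf_two_of_mul_self (by rw [← map_mul, s2, map_one]) fun e => by
    rw [h.psi_inj (e.trans (map_one ψ).symm)] at so
    exact absurd so (by simp)

theorem Ch.dih (h : Ch a v ψ) (so : sign s = -1) (s2 : s * s = 1) :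
    Nonempty (Subgroup.closure ({ψ s, v} : Set G) ≃* DihedralGroup (2 ^ 2)) := by
  have : orderOf (ψ s * v) = 2 ^ 2 := orderOf_eq_prime_pow
    (by rw [pow_one, sq, h.tv_sq so s2]; exact h.a1)
    (by rw [pow_succ, pow_mul, pow_one, sq (ψ s * v), h.tv_sq so s2, sq, h.a2])
  exact this ▸ Local.dih_closure_mulEquiv (h.ord_t so s2)
    (Local.orderOf_two_of_mul_self h.v2 h.v1)

theorem Ch.inV_mem (h : Ch a v ψ) (so : sign s = -1) (s2 : s * s = 1) {x : G} (hx : InV a v x) :
    x ∈ Subgroup.closure ({ψ s, v} : Set G) := by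
  have h1 : ψ s ∈ Subgroup.closure ({ψ s, v} : Set G) := Subgroup.subset_closure (by simp)
  have h2 : v ∈ Subgroup.closure ({ψ s, v} : Set G) := Subgroup.subset_closure (by simp)
  have h3 := mul_mem (mul_mem h1 h2) (mul_mem h1 h2)
  rw [h.tv_sq so s2] at h3
  rcases hx with rfl | rfl | rfl | rfl
  exacts [one_mem _, h3, h2, mul_mem h3 h2]

theorem Ch.cen (h : Ch a v ψ) (so : sign s = -1) (s2 : s * s = 1)
    (H : ∀ y, sign y = 1 → y * s = s * y → y = 1) {c : G} (c1 : Commute c (ψ s))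
    (c2 : Commute c v) : c = 1 ∨ c = a := by
  have c3 := (c1.mul_right c2).mul_right (c1.mul_right c2)
  rw [h.tv_sq so s2] at c3
  obtain ⟨x, y, hx, rfl⟩ := h.cent c c3
  rcases sign_cases y with e | e
  · have := H y e (h.prComm (pr_mk hx y) (pr_psi s) c1)
    subst this
    rw [map_one, mul_one] at c1 ⊢
    exact h.odd_comm so inV_one hx (by simpa using c1.eq.symm)
  · rcases h.odd_comm e hx inV_v c2 with e | e
    exacts [absurd e h.v1, absurd e h.va]

theorem Ch.sylow [Finite G] (h : Ch a v ψ) (so : sign s = -1) (s2 : s * s = 1)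
    (H : ∀ y, sign y = 1 → y * s = s * y → y = 1) (H3 : ∀ y : Perm R, sign y = 1 → y ^ 3 = 1) :
    ∃ T : Sylow 2 G, (T : Subgroup G) = Subgroup.closure {ψ s, v} := by
  obtain ⟨e⟩ := h.dih so s2
  obtain ⟨T, hT⟩ := (IsPGroup.of_card (p := 2) (n := 3) (G := Subgroup.closure ({ψ s, v} : Set G))
    (by rw [Nat.card_congr e.toEquiv, DihedralGroup.nat_card]; rfl)).exists_le_sylow
  have h1 : ψ s ∈ (T : Subgroup G) := hT (Subgroup.subset_closure (by simp))
  have h2 : v ∈ (T : Subgroup G) := hT (h.inV_mem so s2 inV_v)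
  have : Nontrivial (T : Subgroup G) := ⟨⟨⟨v, h2⟩, 1, fun e => h.v1 (congrArg Subtype.val e)⟩⟩
  have := T.isPGroup'.center_nontrivial
  obtain ⟨⟨c, hc⟩, c1⟩ := exists_ne (1 : Subgroup.center (T : Subgroup G))
  have hc' : ∀ u ∈ (T : Subgroup G), Commute (c : G) u := fun u hu =>
    (congrArg Subtype.val (Subgroup.mem_center_iff.1 hc ⟨u, hu⟩)).symm
  have ca := (h.cen so s2 H (hc' _ h1) (hc' _ h2)).resolve_left
    fun e => c1 (Subtype.ext (Subtype.ext e))
  have K : ∀ y, sign y = 1 → ψ y ∈ (T : Subgroup G) → y = 1 := fun y hy hT => by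
    obtain ⟨k, hk⟩ := T.isPGroup' ⟨_, hT⟩
    have hk' : y ^ 2 ^ k = 1 := h.psi_inj (by simpa using congrArg Subtype.val hk)
    exact orderOf_eq_one_iff.1 (Nat.eq_one_of_dvd_coprimes
      (Nat.Coprime.pow_left k (by decide : Nat.Coprime 2 3)) (orderOf_dvd_of_pow_eq_one hk')
      (orderOf_dvd_of_pow_eq_one (H3 y hy)))
  refine ⟨T, le_antisymm (fun u hu => ?_) hT⟩
  obtain ⟨x, y, hx, rfl⟩ := h.cent u (ca ▸ (hc' u hu).symm.eq)
  have h3 := (mul_mem_cancel_left (hT (h.inV_mem so s2 hx))).1 hu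
  refine mul_mem (h.inV_mem so s2 hx) ?_
  rcases sign_cases y with e | e
  · rw [K y e h3, map_one]; exact one_mem _
  · have := K (y * s) (by simp [e, so]) (by rw [map_mul]; exact mul_mem h3 h1)
    rw [eq_inv_of_mul_eq_one_left this, inv_eq_of_mul_eq_one_right s2]
    exact Subgroup.subset_closure (by simp)

theorem Ch.le_cent (h : Ch a v ψ) :
    Subgroup.closure ({ψ s, v} : Set G) ≤ Subgroup.centralizer {a} :=
  (Subgroup.closure_le _).2 (by
    rintro x (rfl | rfl)
    · exact Subgroup.mem_centralizer_singleton_iff.2 (h.ψa s)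
    · exact Subgroup.mem_centralizer_singleton_iff.2 h.av.symm)

end Small

theorem Ch.six [Finite G] {ψ : Perm (Fin 2) →* G} (h : Ch a v ψ)
    (hG : ∀ K : Subgroup G, K.index ≠ 2) : Nonempty (G ≃* alternatingGroup (Fin 6)) ∨
      ∃ (F : Type) (_ : Field F) (_ : Fintype F), Fintype.card F = 7 ∧
        Nonempty (G ≃* Matrix.ProjectiveSpecialLinearGroup (Fin 2) F) := by
  have so : sign (swap (0 : Fin 2) 1) = -1 := by decide
  have s2 : swap (0 : Fin 2) 1 * swap 0 1 = 1 := by decide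
  obtain ⟨T, hT⟩ := h.sylow so s2 (by decide) (by decide)
  obtain ⟨e⟩ := h.dih so s2
  have hC : Subgroup.centralizer {a} = Subgroup.closure ({ψ (swap 0 1), v} : Set G) := by
    refine le_antisymm (fun c hc => ?_) h.le_cent
    obtain ⟨x, y, hx, rfl⟩ := h.cent c (Subgroup.mem_centralizer_singleton_iff.1 hc)
    refine mul_mem (h.inV_mem so s2 hx) ?_
    rcases (by decide : ∀ y : Perm (Fin 2), y = 1 ∨ y = swap 0 1) y with rfl | rfl
    · rw [map_one]; exact one_mem _
    · exact Subgroup.subset_closure (by simp)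
  let t : alternatingGroup (Fin 6) := ⟨swap 0 1 * swap 2 3, by simp [mem_alternatingGroup]⟩
  have ht : orderOf t = 2 := Local.orderOf_two_of_mul_self (by decide) (by decide)
  obtain ⟨e'⟩ := Local.nonempty_centralizer_A6 t ht
  exact Agent.S3261.result hG t ht (by decide) a (Local.orderOf_two_of_mul_self h.a2 h.a1) T
    (hT ▸ h.inV_mem so s2 inV_a)
    (fun u hu => Subgroup.mem_centralizer_singleton_iff.1 (h.le_cent (hT ▸ hu)))
    (((MulEquiv.subgroupCongr hC).trans e).trans e'.symm)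

theorem Ch.cube_of_odd {ψ : Perm (Fin 3) →* G} (h : Ch a v ψ) {c : G} (hc : c * a = a * c)
    (ho : (orderOf c).Coprime 2) : c ^ 3 = 1 := by
  have h12 : c ^ (4 * 3) = 1 := by
    obtain ⟨x, y, hx, rfl⟩ := h.cent c hc
    have p := pr_mk (ψ := ψ) hx y
    have p2 := h.prMul p p
    have p6 := h.prMul (h.prMul p2 p2) p2
    rw [(by decide +kernel : ∀ y : Perm (Fin 3), y * y * (y * y) * (y * y) = 1) y] at p6
    obtain ⟨w, hw, e⟩ := p6
    have := h.sqV hw
    rw [map_one, mul_one] at e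
    rw [← e] at this
    rw [← this]
    simp only [pow_succ, pow_zero, one_mul, mul_assoc]
  exact orderOf_dvd_iff_pow_eq_one.1 ((Nat.Coprime.pow_right 2 ho).dvd_of_dvd_mul_left
    (orderOf_dvd_of_pow_eq_one h12))

theorem Ch.seven [Finite G] {ψ : Perm (Fin 3) →* G} (h : Ch a v ψ)
    (hG : ∀ K : Subgroup G, K.index ≠ 2) : Nonempty (G ≃* alternatingGroup (Fin 7)) := by
  have so : sign (swap (0 : Fin 3) 1) = -1 := by decide
  have s2 : swap (0 : Fin 3) 1 * swap 0 1 = 1 := by decide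
  have H : ∀ y : Perm (Fin 3), sign y = 1 → y * swap 0 1 = swap 0 1 * y → y = 1 := by decide
  obtain ⟨T, hT⟩ := h.sylow so s2 H (by decide)
  have hD : Nonempty ((T : Subgroup G) ≃* DihedralGroup (2 ^ 2)) := hT ▸ h.dih so s2
  have oa := Local.orderOf_two_of_mul_self h.a2 h.a1
  have one : ∀ y, y * y = 1 → y ≠ 1 → ∃ g, g * a * g⁻¹ = y := fun y y2 y1 =>
    Agent.S0107.result T 2 le_rfl hD (by
      by_contra hn
      obtain ⟨M, -, hM, -⟩ := Trans.exists_normal_index_eq_prime_of_pResidual_ne_top hn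
      exact hG M hM) a y oa (Local.orderOf_two_of_mul_self y2 y1)
  have inv : ∀ y, y * y = 1 → y ∈ commutator G := by
    have K : ∀ y, y * y = 1 → y ≠ 1 → Abelianization.of y = Abelianization.of a := fun y y2 y1 => by
      obtain ⟨g, rfl⟩ := one y y2 y1
      simp
    have ha : Abelianization.of a = 1 := by
      have := K (a * v) (h.sqV inV_av) h.four.mul_ne_one
      rw [map_mul, K v h.v2 h.v1] at this
      exact mul_eq_left.1 this
    intro y y2
    by_cases y1 : y = 1
    · exact y1 ▸ one_mem _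
    · exact Abelianization.ker_of G ▸ (K y y2 y1).trans ha
  have hC : Subgroup.centralizer {a} ≤ commutator G := fun c hc => by
    obtain ⟨x, y, hx, rfl⟩ := h.cent c (Subgroup.mem_centralizer_singleton_iff.1 hc)
    refine mul_mem (inv x (h.sqV hx)) ?_
    clear hc
    induction y using swap_induction_on with
    | one => rw [map_one]; exact one_mem _
    | swap_mul f p q _ ih =>
      rw [map_mul]
      exact mul_mem (inv _ (by rw [← map_mul, swap_mul_self, map_one])) ih
  have : Group.IsPerfect G := ⟨by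
    rw [eq_top_iff, ← Sylow.normalizer_sup_eq_top' T (hT ▸ h.le_cent.trans hC)]
    refine sup_le (fun g hg => hC (Subgroup.mem_centralizer_singleton_iff.2 ?_)) le_rfl
    have K : ∀ u ∈ (T : Subgroup G), Commute (g * a * g⁻¹) u := fun u hu => by
      have h1 := Subgroup.mem_centralizer_singleton_iff.1 (h.le_cent (hT ▸
        (Subgroup.mem_normalizer_iff''.1 hg u).1 hu))
      calc g * a * g⁻¹ * u = g * (a * (g⁻¹ * u * g)) * g⁻¹ := by group
        _ = _ := by rw [← h1]; group
    rcases h.cen so s2 H (K _ (hT ▸ Subgroup.subset_closure (by simp)))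
      (K _ (hT ▸ h.inV_mem so s2 inV_v)) with e | e
    · exact absurd (conj_eq_one_iff.1 e) h.a1
    · exact mul_inv_eq_iff_eq_mul.1 e⟩
  let j : Perm (Fin 3) := swap 0 1 * swap 0 2
  have je : sign j = 1 := by decide
  have j3 : ψ j ^ 3 = 1 := by rw [← map_pow, (by decide : j ^ 3 = 1), map_one]
  have j1 : ψ j ≠ 1 := fun e => absurd (h.psi_inj (e.trans (map_one ψ).symm)) (by decide)
  have hO : oddCore G = ⊥ := by
    have hc := Solv.coprime_card_pPrimeCore 2 G
    have := h.four.isKleinFour.isMulCommutative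
    have h1 : oddCore G ≤ Subgroup.zpowers (ψ j) := by
      refine Solv.Coprime.le_of_forall_centralizer_singleton (A := Known.four a v)
        (@IsKleinFour.not_isCyclic _ _ h.four.isKleinFour) (by rw [Subgroup.normalizer_eq_top]; exact le_top)
        (by rw [h.four.card_four]; exact (Nat.Coprime.pow_right 2 hc).symm) ?_
      rintro w hw w1 c ⟨c1, c2⟩
      obtain ⟨g, rfl⟩ := one w (h.four.mul_self hw) w1
      have h' := h.conj g
      have c3 := Subgroup.mem_centralizer_singleton_iff.1 c2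
      obtain ⟨y, y3, rfl⟩ := h'.cube c3 (h'.cube_of_odd c3
        (Nat.Coprime.coprime_dvd_left (Subgroup.orderOf_dvd_natCard _ c1) hc))
      obtain ⟨y', y3', e⟩ := h'.cube (h.even je (by
        simpa [InV] using h.four.mem_iff.1 hw)) j3
      have y1 : y' ≠ 1 := fun e' => j1 (by rw [e, e', map_one])
      rw [e]
      rcases (by decide : ∀ y y' : Perm (Fin 3), y ^ 3 = 1 → y' ^ 3 = 1 → y' ≠ 1 →
        y = 1 ∨ y = y' ∨ y = y' * y') y y' y3 y3' y1 with rfl | rfl | rfl
      · rw [map_one]; exact one_mem _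
      · exact Subgroup.mem_zpowers _
      · rw [map_mul]; exact mul_mem (Subgroup.mem_zpowers _) (Subgroup.mem_zpowers _)
    refine eq_bot_iff.2 fun o ho => ?_
    obtain ⟨g, hg⟩ := one _ (by rw [← map_mul, s2, map_one] : ψ (swap 0 1) * ψ (swap 0 1) = 1)
      (Local.ne_one_of_orderOf_two (h.ord_t so s2))
    have h2 : g⁻¹ * o * g ∈ Subgroup.centralizer {a} :=
      Subgroup.zpowers_le.2 (Subgroup.mem_centralizer_singleton_iff.2 (h.ψa j))
        (h1 ((inferInstance : (oddCore G).Normal).conj_mem' o ho g))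
    have h3 : o * ψ (swap 0 1) = ψ (swap 0 1) * o := by
      calc o * ψ (swap 0 1) = g * (g⁻¹ * o * g * a) * g⁻¹ := by rw [← hg]; group
        _ = _ := by rw [Subgroup.mem_centralizer_singleton_iff.1 h2, ← hg]; group
    obtain ⟨k, rfl⟩ := Subgroup.mem_zpowers_iff.1 (h1 ho)
    rw [← map_zpow] at h3 ⊢
    rw [H _ (by rw [map_zpow, je, one_zpow]) (h.psi_comm h3), map_one]
    exact one_mem _
  let e0 : G ≃* G ⧸ oddCore G :=
    ((QuotientGroup.quotientMulEquivOfEq hO).trans QuotientGroup.quotientBot).symm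
  rcases Agent.S0483.result T _ (by decide) hD with ⟨F, _, _, ho, -, ⟨e⟩⟩ | ⟨⟨e⟩⟩
  · let e1 := e0.trans e
    have h2 : (2 : F) ≠ 0 := fun e => by
      have : CharP F 2 := CharTwo.of_one_ne_zero_of_two_eq_zero one_ne_zero e
      exact absurd (FiniteField.even_card_of_char_two (ringChar.eq F 2)) (by
        rw [Nat.odd_iff] at ho; omega)
    exact absurd (e1.map_eq_one_iff.1 (psl_four_three h2 (h.four.map e1.toMonoidHom e1.injective)
      (by rw [← map_pow, j3, map_one]) (by simpa using congrArg e1 (h.ψa j))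
      (by simpa using congrArg e1 (h.ψe j je)))) j1
  · exact ⟨e0.trans e⟩

end Cfsg.Lib.AltC
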