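import Cfsg.Agent.AltC.Gg
import Cfsg.Agent.AltC.Tv0
import Cfsg.Agent.AltC.Zm

/-! The normalised chart: preparations. -/

set_option autoImplicit false
set_option linter.unusedSectionVars false

namespace Cfsg.Lib.AltZ

open Equiv Equiv.Perm
open Cfsg.Lib.AltC (N4 sq_ap cm_ap sign_cases)

variable {Ω : Type*} [DecidableEq Ω] [Fintype Ω] {G : Type*} [Group G]
  {z : G} {ζ : Perm Ω} {ι : Perm Ω → G} {p q r s α β : Ω} {g θ ρ : G}

namespace Gam

theorem mu_sq (h2 : ζ * ζ = 1) (hα : ζ α = α) (hβ : ζ β = β) :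
    ζ * swap α β * (ζ * swap α β) = 1 := by
  rw [mul_assoc, ← mul_assoc (swap α β), AltC.fix_comm hα hβ, mul_assoc, swap_mul_self, mul_one, h2]

theorem ts_sq (h2 : ζ * ζ = 1) (hp : ζ p ≠ p) (hα : ζ α = α) (hβ : ζ β = β) (hn : α ≠ β) :
    tr ζ p * swap α β * (tr ζ p * swap α β) = 1 :=
  (bs_tr_swap h2 hp hα hβ hn).sq (mu_sq h2 hα hβ)

theorem tp_v (h2 : ζ * ζ = 1) (h : Df ζ p q) (hα : ζ α = α) (hβ : ζ β = β) :
    tr ζ p * swap α β * sw ζ p q = tr ζ p * tr ζ q * sw ζ p q * (tr ζ p * swap α β) := by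
  have := sq_ap h2 p; have := sq_ap h2 q
  ext i; simp only [mul_apply, tr, sw]; grind (splits := 40)

theorem sw_ts (h2 : ζ * ζ = 1) (h : Df ζ p q) (hα : ζ α = α) (hβ : ζ β = β) :
    sw ζ p q * (tr ζ p * swap α β) * (sw ζ p q)⁻¹ = tr ζ q * swap α β := by
  have := sq_ap h2 p; have := sq_ap h2 q
  rw [← conj_mul, conj_tr (sw_comm h2 h), sw_left h, conj_swap,
    sw_off (i := α) (by grind) (by grind) (by grind) (by grind),
    sw_off (i := β) (by grind) (by grind) (by grind) (by grind)]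

theorem sw_ts' (h2 : ζ * ζ = 1) (h : Df ζ p q) (h1 : Df ζ p r) (h3 : Df ζ q r) (hα : ζ α = α)
    (hβ : ζ β = β) : sw ζ p q * (tr ζ r * swap α β) = tr ζ r * swap α β * sw ζ p q := by
  have := sq_ap h2 p; have := sq_ap h2 q
  rw [← mul_inv_eq_iff_eq_mul, ← conj_mul, conj_tr (sw_comm h2 h), conj_swap,
    sw_off (i := r) (by grind) (by grind) (by grind) (by grind),
    sw_off (i := α) (by grind) (by grind) (by grind) (by grind),
    sw_off (i := β) (by grind) (by grind) (by grind) (by grind)]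

theorem pi_zeta (h2 : ζ * ζ = 1) (hr : ζ r ≠ r) (hα : ζ α = α) (hβ : ζ β = β) (hn : α ≠ β) :
    swap r α * swap (ζ r) β * ζ * (swap r α * swap (ζ r) β)⁻¹ = ζ * (tr ζ r * swap α β) := by
  have h1 := sq_ap h2
  rw [mul_inv_eq_iff_eq_mul]
  ext i; simp only [mul_apply, tr]; grind (splits := 40)

theorem pi_tr (h2 : ζ * ζ = 1) (h : Df ζ p r) (hα : ζ α = α) (hβ : ζ β = β) :
    swap r α * swap (ζ r) β * tr ζ p * (swap r α * swap (ζ r) β)⁻¹ = tr ζ p := by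
  have := sq_ap h2 p
  rw [tr, conj_swap]; simp only [mul_apply]; congr 1 <;> grind

theorem pi_r (h2 : ζ * ζ = 1) (hr : ζ r ≠ r) (_ : ζ α = α) (hβ : ζ β = β) (hn : α ≠ β) :
    swap r α * swap (ζ r) β * tr ζ r * (swap r α * swap (ζ r) β)⁻¹ = swap α β := by
  have := sq_ap h2 r
  rw [tr, conj_swap]; simp only [mul_apply]; congr 1 <;> grind

theorem pi_lam (h2 : ζ * ζ = 1) (hr : ζ r ≠ r) (hα : ζ α = α) (hβ : ζ β = β) (hn : α ≠ β) :
    swap r α * swap (ζ r) β * swap α β * (swap r α * swap (ζ r) β)⁻¹ = tr ζ r := by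
  have := sq_ap h2 r
  rw [tr, conj_swap]; simp only [mul_apply]; congr 1 <;> grind

theorem tr_lam (h2 : ζ * ζ = 1) (hr : ζ r ≠ r) (hα : ζ α = α) (hβ : ζ β = β) :
    swap α β * tr ζ r = tr ζ r * swap α β := by
  have := sq_ap h2 r
  ext i; simp only [mul_apply, tr]; grind

theorem pi_sw (h2 : ζ * ζ = 1) (h1 : Df ζ p r) (h3 : Df ζ q r) (hα : ζ α = α) (hβ : ζ β = β) :
    sw ζ p q * (swap r α * swap (ζ r) β) = swap r α * swap (ζ r) β * sw ζ p q := by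
  have := sq_ap h2 p; have := sq_ap h2 q
  rw [← mul_inv_eq_iff_eq_mul, AltC.conj_dbl,
    sw_off (i := r) (by grind) (by grind) (by grind) (by grind),
    sw_off (i := ζ r) (by grind) (by grind) (by grind) (by grind),
    sw_off (i := α) (by grind) (by grind) (by grind) (by grind),
    sw_off (i := β) (by grind) (by grind) (by grind) (by grind)]

theorem sw_bs (h2 : ζ * ζ = 1) (h : Df ζ p q) (hα : ζ α = α) (hβ : ζ β = β) {x : Perm Ω}
    (hx : Bs (ζ * swap α β) x) : Bs (ζ * swap α β) (sw ζ p q * x * (sw ζ p q)⁻¹) := by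
  have := sq_ap h2 p; have := sq_ap h2 q
  exact hx.conj' (comm_mu (sw_comm h2 h) (swap_comm_of (.inl
    ⟨sw_off (by grind) (by grind) (by grind) (by grind),
      sw_off (by grind) (by grind) (by grind) (by grind)⟩)))

/-- A character trivial on one mixed pair is trivial on the base group. -/
theorem chr_bs (hB : Big ζ) {δ : Perm Ω → ℤˣ} (hδ : Chr ζ δ) (hr : ζ r ≠ r) (hα : ζ α = α)
    (hβ : ζ β = β) (hn : α ≠ β) (h1 : δ (tr ζ r * swap α β) = 1) {x : Perm Ω}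
    (hx : Bs (ζ * swap α β) x) : δ x = 1 := by
  have h2 := hB.sq
  have h0 := sq_ap h2
  let P : Subgroup (Perm Ω) :=
    { carrier := {x | x ∈ HU ζ ∧ δ x = 1}
      mul_mem' := fun {x y} hx hy => ⟨mul_mem hx.1 hy.1, by rw [hδ.mul hx.1 hy.1, hx.2, hy.2, one_mul]⟩
      one_mem' := ⟨one_mem _, hδ.one⟩
      inv_mem' := fun {x} hx => ⟨inv_mem hx.1, by
        have := hδ.mul hx.1 (inv_mem hx.1)
        rwa [mul_inv_cancel, hδ.one, hx.2, one_mul, eq_comm] at this⟩ }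
  have ht : ∀ s, ζ s ≠ s → tr ζ s * swap α β ∈ P := fun s hs => by
    refine ⟨tr_swap_mem h2 hs hα hβ hn, ?_⟩
    by_cases e : s = r
    · rw [e, h1]
    by_cases e' : s = ζ r
    · rw [e', tr_ap h2, h1]
    have hd := df_of h2 hr hs e e'
    rw [← sw_ts h2 hd hα hβ, hδ.cj (sw_mem h2 hd) (tr_swap_mem h2 hr hα hβ hn), h1]
  have k : ∀ i, (ζ * swap α β) i ≠ i → (ζ i ≠ i ∧ swap i ((ζ * swap α β) i) = tr ζ i) ∨
      ((i = α ∨ i = β) ∧ swap i ((ζ * swap α β) i) = swap α β) := fun i hi => by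
    by_cases e : i = α
    · exact .inr ⟨.inl e, by rw [e, mul_apply, swap_apply_left, hβ]⟩
    by_cases e' : i = β
    · exact .inr ⟨.inr e', by rw [e', mul_apply, swap_apply_right, hα, swap_comm]⟩
    rw [mul_apply, swap_apply_of_ne_of_ne e e'] at hi ⊢
    exact .inl ⟨hi, rfl⟩
  refine (AltC.mem_of_pairs P (s := ζ * swap α β) (fun i j hij => ?_)
    (hx.sq (mu_sq h2 hα hβ)) hx.1 hx.2).2
  rcases k i hij.1.symm with ⟨a, e⟩ | ⟨a, e⟩ <;> rcases k j hij.2.2.2.2.2.symm with ⟨b, e'⟩ | ⟨b, e'⟩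
  · rw [e, e', show tr ζ i * tr ζ j = tr ζ i * swap α β * (tr ζ j * swap α β) by
      rw [← tr_lam h2 b hα hβ, mul_assoc, ← mul_assoc (swap α β), swap_mul_self, one_mul]]
    exact mul_mem (ht i a) (ht j b)
  · rw [e, e']; exact ht i a
  · rw [e, e', tr_lam h2 b hα hβ]; exact ht j b
  · simp only [mul_apply] at hij; grind

theorem gg_rech (hB : Big ζ) (hg : GG ζ ι r α β g) {δ : Perm Ω → ℤˣ} (hδ : Chr ζ δ)
    (h1 : δ (tr ζ r * swap α β) = 1) : GG ζ (rech z ι δ) r α β g :=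
  ⟨hg.hr, hg.hα, hg.hβ, hg.ne, fun x hx => by
    rw [rech_pos (chr_bs hB hδ hg.hr hg.hα hg.hβ hg.ne h1 hx),
      rech_pos (chr_bs hB hδ hg.hr hg.hα hg.hβ hg.ne h1
        (hx.conj' (pi_comm hB.sq hg.hr hg.hα hg.hβ hg.ne))), hg.act x hx]⟩

/-- The element of order three on the four-group of the cycles of `p, q`. -/
structure Rho (ζ : Perm Ω) (ι : Perm Ω → G) (p q α β : Ω) (ρ : G) : Prop where
  a : ρ * ι (tr ζ p * tr ζ q) * ρ⁻¹ = ι (sw ζ p q)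
  v : ρ * ι (sw ζ p q) * ρ⁻¹ = ι (tr ζ p * tr ζ q) * ι (sw ζ p q)
  z : ρ * ι ζ * ρ⁻¹ = ι (tr ζ p * tr ζ q) * ι (sw ζ p q) * ι ζ
  t : ∀ s, Df ζ p s → Df ζ q s → ρ * ι (tr ζ s * swap α β) * ρ⁻¹ = ι (tr ζ s * swap α β)

theorem exists_rho (hB : Big ζ) (h : ZC z ζ ι) (hpq : Df ζ p q) (hα : ζ α = α) (hβ : ζ β = β)
    (hn : α ≠ β) (ha : A0 z ζ ι p q α β θ) : ∃ ρ, Rho ζ ι p q α β ρ := by
  have h2 := hB.sq
  have hp : ζ p ≠ p := hpq.1.symm
  have hq : ζ q ≠ q := hpq.2.2.2.2.2.symm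
  have ht := tr_swap_mem h2 hp hα hβ hn
  have hA := tr_tr_mem h2 hp hq
  have hV := sw_mem h2 hpq
  have e1 : ι (tr ζ p * swap α β) * ι (sw ζ p q) * (ι (tr ζ p * swap α β))⁻¹ =
      ι (tr ζ p * tr ζ q) * ι (sw ζ p q) := by
    rw [h.cj ht hV, tp_v h2 hpq hα hβ, mul_inv_cancel_right, h.mul hA hV]
  have e2 {x : Perm Ω} (hx : Bs (ζ * swap α β) x) :
      ι (tr ζ p * swap α β) * ι x * (ι (tr ζ p * swap α β))⁻¹ = ι x := by
    rw [h.cj ht (hx.mem h2 hα hβ), (bs_tr_swap h2 hp hα hβ hn).comm (mu_sq h2 hα hβ) hx,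
      mul_inv_cancel_right]
  have e3 : ι (tr ζ p * tr ζ q) * ι (tr ζ p * tr ζ q) = 1 := by
    rw [← h.mul hA hA, (bs_tr_tr h2 hp hq hα hβ).sq (mu_sq h2 hα hβ), h.one]
  have k (x : G) : ι (tr ζ p * swap α β) * θ * x * (ι (tr ζ p * swap α β) * θ)⁻¹ =
      ι (tr ζ p * swap α β) * (θ * x * θ⁻¹) * (ι (tr ζ p * swap α β))⁻¹ := by group
  refine ⟨ι (tr ζ p * swap α β) * θ, ?_, ?_, ?_, fun s a b => ?_⟩ <;> rw [k]
  · rw [ha.a, h.mul hA hV, ← conj_mul, e1, e2 (bs_tr_tr h2 hp hq hα hβ), ← mul_assoc, e3, one_mul]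
  · rw [ha.v, e1]
  · nth_rw 1 [h.ιζ]
    rw [ha.z, h.mul hV hB.mem, ← conj_mul, e1, e2 (bs_zeta hB hα hβ)]
  · rw [ha.t s a b, e2 (bs_tr_swap h2 a.2.2.2.2.2.symm hα hβ hn)]

/-- An involution commuting with the `3`-cycles on the remaining fixed points fixes them. -/
theorem fix_of_cubes (hB : Big ζ) (hα : ζ α = α) (hβ : ζ β = β) (hn : α ≠ β) {x : Perm Ω}
    (hx : x * ζ = ζ * x) (x2 : x * x = 1) (h1 : x α = α ∧ x β = β ∨ x α = β ∧ x β = α)
    (hc : ∀ j, sign j = 1 → j ^ 3 = 1 → (∀ i, ζ i ≠ i ∨ i = α ∨ i = β → j i = i) → x * j = j * x)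
    {i : Ω} (hi : ζ i = i) (h2 : i ≠ α) (h3 : i ≠ β) : x i = i := by
  by_contra e
  have h4 := (fix_iff hx i).2 hi
  have h5 := sq_ap x2
  have h6 : x i ≠ α ∧ x i ≠ β := by grind
  obtain ⟨w, hw, h7⟩ : ∃ w, ζ w = w ∧ w ∉ ({α, β, i, x i} : Finset Ω) := by
    by_contra h7
    push Not at h7
    have h8 : (Finset.univ.filter fun p => ζ p = p) = {α, β, i, x i} := by
      ext w
      simp only [Finset.mem_filter, Finset.mem_univ, true_and]
      exact ⟨h7 w, by simp only [Finset.mem_insert, Finset.mem_singleton]; grind⟩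
    have h9 := hB.card_fix
    have := hB.hm
    rw [h8, Finset.card_eq_four.2 ⟨α, β, i, x i, hn, h2.symm, h6.1.symm, h3.symm, h6.2.symm,
      fun e' => e e'.symm, rfl⟩] at h9
    omega
  simp only [Finset.mem_insert, Finset.mem_singleton, not_or] at h7
  have h8 := cm_ap (hc (swap i w * swap i (x i)) (AltC.sign_dbl (by grind) (by grind))
    (by clear hc; ext j; simp only [pow_three', mul_apply, one_apply]; grind (splits := 40))
    (fun j hj => by simp only [mul_apply]; grind)) i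
  simp only [mul_apply] at h8
  grind

/-- The conjugate under `g⁻¹` of an exchange of two other cycles. -/
theorem gg_sw (hB : Big ζ) (h : ZC z ζ ι) (hg : GG ζ ι r α β g) (hpq : Df ζ p q) (h1 : Df ζ p r)
    (h3 : Df ζ q r) : ∃ v' ∈ HU ζ, g * ι v' * g⁻¹ = ι (sw ζ p q) ∧
      ∀ y, Bs (ζ * swap α β) y → sw ζ p q * v' * y = y * (sw ζ p q * v') := by
  have h2 := hB.sq
  have hα := hg.hα
  have hβ := hg.hβ
  have hV := sw_mem h2 hpq
  have hπ := pi_comm h2 hg.hr hα hβ hg.ne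
  have e1 {y : Perm Ω} (hy : Bs (ζ * swap α β) y) :
      g⁻¹ * ι (sw ζ p q) * g * ι y * (g⁻¹ * ι (sw ζ p q) * g)⁻¹ =
        ι (sw ζ p q * y * (sw ζ p q)⁻¹) := by
    have a1 := hg.act y hy
    have a2 := hg.act _ (sw_bs h2 hpq hα hβ hy)
    have a3 := h.cj hV ((hy.conj' hπ).mem h2 hα hβ)
    have a4 := pi_sw h2 h1 h3 hα hβ
    generalize swap r α * swap (ζ r) β = π at a1 a2 a3 a4
    rw [← a1, show sw ζ p q * (π * y * π⁻¹) * (sw ζ p q)⁻¹ =
      π * (sw ζ p q * y * (sw ζ p q)⁻¹) * π⁻¹ by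
        calc _ = (sw ζ p q * π) * y * (sw ζ p q * π)⁻¹ := by group
          _ = _ := by rw [a4]; group, ← a2] at a3
    calc _ = g⁻¹ * (ι (sw ζ p q) * (g * ι y * g⁻¹) * (ι (sw ζ p q))⁻¹) * g := by group
      _ = _ := by rw [a3]; group
  obtain ⟨v', hv', e⟩ := h.surj (g⁻¹ * ι (sw ζ p q) * g) (by
    have := e1 (bs_zeta hB hα hβ)
    rw [hV.2, mul_inv_cancel_right, h.ιζ] at this
    exact mul_inv_eq_iff_eq_mul.1 this)
  refine ⟨v', hv', by rw [e]; group, fun y hy => ?_⟩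
  have a1 := e1 hy
  have hy' := hy.mem h2 hα hβ
  rw [← e, h.cj hv' hy'] at a1
  have a2 := h.eq (mul_mem (mul_mem hv' hy') (inv_mem hv'))
    (mul_mem (mul_mem hV hy') (inv_mem hV)) a1
  calc _ = sw ζ p q * (v' * y * v'⁻¹) * v' := by group
    _ = sw ζ p q * sw ζ p q * y * ((sw ζ p q)⁻¹ * v') := by rw [a2]; group
    _ = _ := by rw [sw_sq hpq, sw_inv hpq, one_mul]

theorem one_or_t (h2 : ζ * ζ = 1) (hr : ζ r ≠ r) (hα : ζ α = α) (hβ : ζ β = β) (hn : α ≠ β)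
    {x : Perm Ω} (hx : x ∈ HU ζ) (h1 : x r = r ∨ x r = ζ r)
    (h3 : x α = α ∧ x β = β ∨ x α = β ∧ x β = α)
    (h4 : ∀ i, i ≠ r → i ≠ ζ r → i ≠ α → i ≠ β → x i = i) : x = 1 ∨ x = tr ζ r * swap α β := by
  have h5 := cm_ap hx.2 r
  have h6 := sq_ap h2 r
  have h7 := hx.1
  replace h4 : ∀ i, i = r ∨ i = ζ r ∨ i = α ∨ i = β ∨ x i = i := fun i => by
    have := h4 i; tauto
  rcases h1 with a | a <;> rcases h3 with b | b
  · left; ext i; have := h4 i; simp only [one_apply]; grind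
  · rw [show x = swap α β by ext i; have := h4 i; grind, sign_swap hn] at h7
    exact absurd h7 (by decide)
  · rw [show x = tr ζ r by ext i; have := h4 i; simp only [tr]; grind, sign_tr hr] at h7
    exact absurd h7 (by decide)
  · right; ext i; have := h4 i; simp only [mul_apply, tr]; grind

/-- The abstract computation with two elements of order three. -/
theorem exists_kappa {A V Z D W ρ ρ' : G} (hA : A * A = 1) (hV : V * V = 1) (hD : D * D = 1)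
    (AV : A * V = V * A) (AD : A * D = D * A) (VD : V * D = D * V)
    (r1 : ρ * A * ρ⁻¹ = V) (r2 : ρ * V * ρ⁻¹ = A * V) (r3 : ρ * D * ρ⁻¹ = D) (r4 : ρ * Z * ρ⁻¹ = Z)
    (s1 : ρ' * A * ρ'⁻¹ = W) (s2 : ρ' * W * ρ'⁻¹ = A * W) (s3 : ρ' * D * ρ'⁻¹ = D)
    (s4 : ρ' * Z * ρ'⁻¹ = Z) (hW : W = V * D ∨ W = A * V * D) :
    ∃ κ : G, κ * A * κ⁻¹ = A ∧ κ * Z * κ⁻¹ = Z ∧ κ * V * κ⁻¹ = V * D := by
  have k (a b x : G) : a * b * x * (a * b)⁻¹ = a * (b * x * b⁻¹) * a⁻¹ := by group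
  have VAV : V * (A * V) = A := by rw [AV, ← mul_assoc, hV, one_mul]
  obtain ⟨σ, t1, t2, t4⟩ : ∃ σ : G, σ * A * σ⁻¹ = V * D ∧ σ * V * σ⁻¹ = A * V ∧
      σ * Z * σ⁻¹ = Z := by
    rcases hW with rfl | rfl
    · refine ⟨ρ', s1, ?_, s4⟩
      rw [← conj_mul, s3, ← mul_assoc A] at s2
      exact mul_right_cancel s2
    · have e1 : A * (A * V * D) = V * D := by rw [← mul_assoc, ← mul_assoc, hA, one_mul]
      refine ⟨ρ' * ρ', by rw [k, s1, s2, e1], ?_, by rw [k, s4, s4]⟩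
      have e2 : ρ' * (V * D) * ρ'⁻¹ = A := by
        rw [← e1, ← conj_mul, s1, s2, e1, mul_assoc, mul_assoc, ← mul_assoc D, ← VD, mul_assoc V,
          hD, mul_one, hV, mul_one]
      have e3 : ρ' * V * ρ'⁻¹ = A * D := by
        rw [← e2, ← conj_mul, s3, mul_assoc _ D, hD, mul_one]
      rw [k, e3, ← conj_mul, s1, s3, mul_assoc, hD, mul_one]
  refine ⟨ρ * σ * ρ, ?_, by rw [k, k, r4, t4, r4], ?_⟩
  · rw [k, k, r1, t2, ← conj_mul, r1, r2, VAV]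
  · rw [k, k, r2, ← conj_mul (b := σ), t1, t2, VD, mul_assoc D, VAV, ← AD, ← conj_mul, r1, r3, VD]

theorem exists_kappa' {A V z T C g ρ : G} (hA : A * A = 1) (hV : V * V = 1) (hz : z * z = 1)
    (hT : T * T = 1) (AV : V * A = A * V) (Az : z * A = A * z) (AT : T * A = A * T)
    (Vz : z * V = V * z) (VT : T * V = V * T) (zT : T * z = z * T)
    (g1 : g * A * g⁻¹ = A) (g2 : g * T * g⁻¹ = T) (g3 : g * z * g⁻¹ = z * T)
    (r1 : ρ * A * ρ⁻¹ = V) (r2 : ρ * V * ρ⁻¹ = A * V) (r3 : ρ * z * ρ⁻¹ = A * V * z)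
    (r4 : ρ * T * ρ⁻¹ = T) (hC : C = 1 ∨ C = A ∨ C = A * z ∨ C = z)
    (e : g * (V * (C * T)) * g⁻¹ = V) :
    ∃ κ : G, κ * A * κ⁻¹ = A ∧ κ * z * κ⁻¹ = z ∧
      (κ * V * κ⁻¹ = V * T ∨ κ * V * κ⁻¹ = A * V * z) := by
  have l {X Y : G} (h : Y * X = X * Y) (w : G) : Y * (X * w) = X * (Y * w) := by
    rw [← mul_assoc, h, mul_assoc]
  have m {X : G} (h : X * X = 1) (w : G) : X * (X * w) = w := by rw [← mul_assoc, h, one_mul]
  have k (x : G) : g * ρ * g⁻¹ * (g * x * g⁻¹) * (g * ρ * g⁻¹)⁻¹ = g * (ρ * x * ρ⁻¹) * g⁻¹ := by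
    group
  have r5 : ρ * (A * z) * ρ⁻¹ = A * z := by
    rw [← conj_mul, r1, r3]
    simp only [mul_assoc, l AV, m hV]
  have s1 := k A
  have s2 := k V
  have s3 := k T
  have s4 := k (A * z * T)
  rw [r1, g1] at s1
  rw [r2, ← conj_mul (b := g), g1] at s2
  rw [r4, g2] at s3
  rw [← conj_mul (b := ρ), r5, r4, ← conj_mul (b := g), ← conj_mul (b := g), g1, g2, g3] at s4
  simp only [mul_assoc A, mul_assoc z, hT, mul_one] at s4
  rw [← conj_mul, ← conj_mul, g2, ← mul_assoc, ← eq_mul_inv_iff_mul_eq, ← eq_mul_inv_iff_mul_eq,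
    inv_eq_of_mul_eq_one_right hT] at e
  have fin {κ : G} (a : κ * A * κ⁻¹ = A) (b : κ * (A * z) * κ⁻¹ = A * z) : κ * z * κ⁻¹ = z := by
    rwa [← conj_mul, a, mul_right_inj] at b
  have n1 : (A * z) * (A * z) = 1 := by simp only [mul_assoc, l Az, m hA, hz]
  have n2 : (z * T)⁻¹ = z * T :=
    inv_eq_of_mul_eq_one_right (by simp only [mul_assoc, l zT, m hz, hT])
  have n3 : A⁻¹ = A := inv_eq_of_mul_eq_one_right hA
  have case1 (h : g * V * g⁻¹ = V * T ∨ g * V * g⁻¹ = A * V * T) : ∃ κ : G, κ * A * κ⁻¹ = A ∧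
      κ * z * κ⁻¹ = z ∧ (κ * V * κ⁻¹ = V * T ∨ κ * V * κ⁻¹ = A * V * z) := by
    obtain ⟨κ, a, b, c⟩ := exists_kappa hA hV hT AV.symm AT.symm VT.symm r1 r2 r4 r5 s1 s2 s3 s4 h
    exact ⟨κ, a, fin a b, .inl c⟩
  have case2 (h : g * V * g⁻¹ = V * (A * z) ∨ g * V * g⁻¹ = A * V * (A * z)) : ∃ κ : G,
      κ * A * κ⁻¹ = A ∧ κ * z * κ⁻¹ = z ∧ (κ * V * κ⁻¹ = V * T ∨ κ * V * κ⁻¹ = A * V * z) := by
    obtain ⟨κ, a, b, c⟩ := exists_kappa hA hV n1 AV.symm (by simp only [mul_assoc, Az])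
      (by simp only [mul_assoc, l AV, Vz]) r1 r2 r5 r5 s1 s2 s4 s4 h
    exact ⟨κ, a, fin a b, .inr (by rw [c, l AV, mul_assoc])⟩
  rcases hC with rfl | rfl | rfl | rfl
  · exact case1 (.inl (by simpa using e))
  · exact case1 (.inr (by rw [e, g1, n3]; simp only [mul_assoc, AT, l AV]))
  · refine case2 (.inl ?_)
    rw [e, ← conj_mul, g1, g3, mul_inv_rev, n2, n3]
    simp only [mul_assoc, l zT, m hT, Az]
  · refine case2 (.inr ?_)
    rw [e, g3, n2]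
    simp only [mul_assoc, l zT, hT, mul_one, l AV, m hA]

theorem not_z_a (hB : Big ζ)
    (z1 : ∀ w ∈ HU ζ, IsConj z (ι w) → (∀ p, w p = p ∨ w p = ζ p) → w = ζ) (hpq : Df ζ p q) :
    ¬ IsConj z (ι (tr ζ p * tr ζ q)) := fun e => by
  have h2 := hB.sq
  have h3 := z1 _ (tr_tr_mem h2 hpq.1.symm hpq.2.2.2.2.2.symm) e
    (b0_mul h2 (b0_tr h2 p) (b0_tr h2 q))
  obtain ⟨t, ht⟩ := hB.fresh p q q
  have := DFunLike.congr_fun h3 t
  simp only [mul_apply, tr] at this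
  grind

/-- The twisted version cannot occur. -/
theorem not_gg (hB : Big ζ) (h : ZC z ζ ι) (hg : GG ζ (rech z ι (ε1 ζ)) r α β g) (hpq : Df ζ p q)
    (h1 : Df ζ p r) (h3 : Df ζ q r) (hρ : Rho ζ ι p q α β ρ) : False := by
  have h2 := hB.sq
  have hα := hg.hα
  have hβ := hg.hβ
  have hn := hg.ne
  have hr := hg.hr
  have hp : ζ p ≠ p := hpq.1.symm
  have hq : ζ q ≠ q := hpq.2.2.2.2.2.symm
  have hT := tr_swap_mem h2 hr hα hβ hn
  have hP := tr_swap_mem h2 hp hα hβ hn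
  have hA := tr_tr_mem h2 hp hq
  have hV := sw_mem h2 hpq
  have e0 {s t : Ω} (hs : ζ s ≠ s) (ht : ζ t ≠ t) : ε1 ζ (tr ζ s * tr ζ t) = 1 :=
    ε1_of_fix fun i hi => by
      have := sq_ap h2 s; have := sq_ap h2 t
      simp only [mul_apply, tr]; grind
  have g1 := hg.act _ (bs_zeta hB hα hβ)
  rw [pi_zeta h2 hr hα hβ hn, rech_pos chr_ε1.ζ1, rech_neg (by
    rw [chr_ε1.mul hB.mem hT, chr_ε1.ζ1, ε1_tr_swap h2 hr hα hβ hn, one_mul]), h.mul hB.mem hT,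
    h.ιζ, mul_assoc z, h.comm hB.ev hT, ← mul_assoc z, h.z2 hB.ev h2, one_mul] at g1
  have g2 := hg.act _ (bs_tr_tr h2 hp hq hα hβ)
  rw [← conj_mul, pi_tr h2 h1 hα hβ, pi_tr h2 h3 hα hβ, rech_pos (e0 hp hq)] at g2
  have g3 := hg.act _ (bs_tr_tr h2 hp hr hα hβ)
  rw [← conj_mul, pi_tr h2 h1 hα hβ, pi_r h2 hr hα hβ hn, rech_pos (e0 hp hr),
    rech_neg (ε1_tr_swap h2 hp hα hβ hn)] at g3
  obtain ⟨k, hk, e⟩ := h.surj (g⁻¹ * ρ * g) (by
    have := hρ.t r h1 h3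
    rw [← g1] at this
    calc _ = g⁻¹ * (ρ * (g * z * g⁻¹) * ρ⁻¹) * ρ * g := by group
      _ = _ := by rw [this]; group)
  have a1 := h.cj hk hA
  rw [← conj_mul, conj_tr hk.2, conj_tr hk.2] at a1
  have hkp : ζ (k p) ≠ k p := fun e => hp ((fix_iff hk.2 p).1 e)
  have hkq : ζ (k q) ≠ k q := fun e => hq ((fix_iff hk.2 q).1 e)
  have a2 := (h.comm_iff (tr_tr_mem h2 hkp hkq) (tr_tr_mem h2 hp hr)).2
    ((bs_tr_tr h2 hkp hkq hα hβ).comm (mu_sq h2 hα hβ) (bs_tr_tr h2 hp hr hα hβ))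
  have a3 : g * ι (tr ζ (k p) * tr ζ (k q)) * g⁻¹ = ι (sw ζ p q) := by
    rw [← a1, e, ← hρ.a]
    nth_rw 2 [← g2]
    group
  have a4 := congrArg (fun x => g * x * g⁻¹) a2
  simp only [← conj_mul] at a4
  rw [a3, g3, ← mul_assoc, mul_assoc _ z, ← h.comm hB.ev hV, ← mul_assoc] at a4
  have a5 := DFunLike.congr_fun ((h.comm_iff hV hP).1 (mul_right_cancel a4)) q
  have := sq_ap h2 p
  have := sq_ap h2 q
  simp only [mul_apply, tr, sw] at a5
  clear e0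
  grind (splits := 40)

set_option maxHeartbeats 1600000 in
/-- Normalising `g`. -/
theorem gg_fix (hB : Big ζ) (h : ZC z ζ ι)
    (z1 : ∀ w ∈ HU ζ, IsConj z (ι w) → (∀ p, w p = p ∨ w p = ζ p) → w = ζ)
    (hg : GG ζ ι r α β g) (hpq : Df ζ p q) (h1 : Df ζ p r) (h3 : Df ζ q r)
    (hρ : Rho ζ ι p q α β ρ) :
    ∃ g, GG ζ ι r α β g ∧ g * ι (sw ζ p q) * g⁻¹ = ι (sw ζ p q) := by
  have h2 := hB.sq
  have h0 := sq_ap h2
  have hα := hg.hα
  have hβ := hg.hβ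
  have hn := hg.ne
  have hr := hg.hr
  have hp : ζ p ≠ p := hpq.1.symm
  have hq : ζ q ≠ q := hpq.2.2.2.2.2.symm
  have hT := tr_swap_mem h2 hr hα hβ hn
  have hP := tr_swap_mem h2 hp hα hβ hn
  have hA := tr_tr_mem h2 hp hq
  have hV := sw_mem h2 hpq
  have hζ := hB.mem
  have hμ := mu_sq h2 hα hβ
  have bA := bs_tr_tr h2 hp hq hα hβ
  have bT := bs_tr_swap h2 hr hα hβ hn
  have bZ := bs_zeta hB hα hβ
  obtain ⟨v', hv', e, hc⟩ := gg_sw hB h hg hpq h1 h3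
  have hb := mul_mem hV hv'
  obtain ⟨b1, b2⟩ := bs0_cent hB hα hβ hn hb hc
  have v2 : v' * v' = 1 := h.inj (mul_mem hv' hv') (by
    have := congrArg (fun x => x * x) e
    simp only [conj_mul] at this
    rw [← h.mul hV hV, sw_sq hpq, h.one, conj_eq_one_iff] at this
    rw [h.mul hv' hv', this])
  have vb (i : Ω) : v' i = sw ζ p q ((sw ζ p q * v') i) := by
    rw [mul_apply, sq_ap (sw_sq hpq)]
  have b3 (i : Ω) (hi : ζ i = i) (a : i ≠ α) (b : i ≠ β) : (sw ζ p q * v') i = i := by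
    rw [mul_apply, fix_of_cubes hB hα hβ hn hv'.2 v2 ?_ (fun j j1 j3 hj => ?_) hi a b]
    · exact sw_off (by grind) (by grind) (by grind) (by grind)
    · rw [vb α, vb β]
      rcases b2 with ⟨a, b⟩ | ⟨a, b⟩ <;> rw [a, b, sw_off (i := α) (by grind) (by grind) (by grind)
        (by grind), sw_off (i := β) (by grind) (by grind) (by grind) (by grind)] <;> simp
    · obtain ⟨j', a1, -, a3, a4⟩ := (hg.cube hB h j1 j3 hj).2
      have a5 := (h.comm_iff hV (mem_HU_of_fix a1 fun p hp => a3 p (.inl hp))).2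
        (comm_of_fix fun i hi => a3 i (.inl fun e => hi (sw_off (by grind) (by grind) (by grind)
          (by grind))))
      rw [← a4, ← e, conj_mul, conj_mul, mul_left_inj, mul_right_inj] at a5
      exact (h.comm_iff hv' (mem_HU_of_fix j1 fun p hp => hj p (.inl hp))).1 a5
  have b4 (s s' : Ω) (a1 : Df ζ p s) (a2 : Df ζ q s) (a3 : Df ζ s r) (a4 : Df ζ p s')
      (a5 : Df ζ q s') (a6 : Df ζ s' r) (a7 : (sw ζ p q * v') s = s) : (sw ζ p q * v') s' = s' := by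
    have c0 := cm_ap hb.2
    by_cases c1 : s' = s
    · rw [c1, a7]
    by_cases c2 : s' = ζ s
    · rw [c2, c0, a7]
    have hd := df_of h2 a3.1.symm a6.1.symm c1 c2
    obtain ⟨u', hu', e', hc'⟩ := gg_sw hB h hg hd a3 a6
    have hU := sw_mem h2 hd
    have c3 := (bs0_cent hB hα hβ hn (mul_mem hU hu') hc').1 s a3.1.symm
    have c4 := (h.comm_iff hV hU).2 (comm_of_fix fun i hi => sw_off (by
      rintro rfl; exact hi (sw_off (by grind) (by grind) (by grind) (by grind))) (by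
      rintro rfl; exact hi (sw_off (by grind) (by grind) (by grind) (by grind))) (by
      rintro rfl; exact hi (sw_off (by grind) (by grind) (by grind) (by grind))) (by
      rintro rfl; exact hi (sw_off (by grind) (by grind) (by grind) (by grind))))
    rw [← e, ← e', conj_mul, conj_mul, mul_left_inj, mul_right_inj] at c4
    have c5 := cm_ap ((h.comm_iff hv' hu').1 c4) s
    have c6 : v' s = s := by rw [vb, a7]; exact sw_off (by grind) (by grind) (by grind) (by grind)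
    have c7 : u' s = s' ∨ u' s = ζ s' := by
      rw [← sq_ap (sw_sq hd) (u' s), ← mul_apply (sw ζ s s') u']
      rcases c3 with c | c <;> rw [c]
      · exact .inl (sw_left hd)
      · exact .inr (by rw [cm_ap hU.2, sw_left hd])
    have c8 : v' s' = s' := by
      rw [c6] at c5
      rcases c7 with c | c <;> rw [c] at c5
      · exact c5
      · rw [cm_ap hv'.2] at c5; exact ζ.injective c5
    rw [mul_apply, c8]
    exact sw_off (by grind) (by grind) (by grind) (by grind)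
  have b5 : (sw ζ p q * v') p = p ∧ (sw ζ p q * v') q = q ∨
      (sw ζ p q * v') p = ζ p ∧ (sw ζ p q * v') q = ζ q := by
    have c1 := sq_ap v2 p
    have c2 := cm_ap hv'.2 q
    have c3 := b1 p hp
    have c4 := b1 q hq
    have c5 := vb p
    have c6 := vb q
    simp only [sw_apply] at c5 c6
    grind
  generalize hb' : sw ζ p q * v' = b at hb b1 b2 b3 b4 b5
  have hv : v' = sw ζ p q * b := by rw [← hb', ← mul_assoc, sw_sq hpq, one_mul]
  obtain ⟨c, hc, c2⟩ : ∃ c, (c = 1 ∨ c = tr ζ p * tr ζ q ∨ c = tr ζ p * tr ζ q * ζ ∨ c = ζ) ∧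
      (c * b = 1 ∨ c * b = tr ζ r * swap α β) := by
    obtain ⟨s, hs⟩ := hB.fresh p q r
    have c0 := cm_ap hb.2
    have c1 := b1 r hr
    have k {i : Ω} (hi : ζ i ≠ i) (a : i ≠ p ∧ i ≠ ζ p ∧ i ≠ q ∧ i ≠ ζ q ∧ i ≠ r ∧ i ≠ ζ r) :
        Df ζ p i ∧ Df ζ q i ∧ Df ζ i r := ⟨by grind, by grind, by grind⟩
    have ks := k hs.1 hs.2
    have k1 (e : b s = s) (i : Ω) (hi : ζ i ≠ i)
        (a : i ≠ p ∧ i ≠ ζ p ∧ i ≠ q ∧ i ≠ ζ q ∧ i ≠ r ∧ i ≠ ζ r) : b i = i :=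
      b4 s i ks.1 ks.2.1 ks.2.2 (k hi a).1 (k hi a).2.1 (k hi a).2.2 e
    have k2 (e : b s ≠ s) (i : Ω) (hi : ζ i ≠ i)
        (a : i ≠ p ∧ i ≠ ζ p ∧ i ≠ q ∧ i ≠ ζ q ∧ i ≠ r ∧ i ≠ ζ r) : b i = ζ i :=
      (b1 i hi).resolve_left fun e' =>
        e (b4 i s (k hi a).1 (k hi a).2.1 (k hi a).2.2 ks.1 ks.2.1 ks.2.2 e')
    have c3 := c0 p
    have c4 := c0 q
    replace k1 (e : b s = s) (i : Ω) :
        ζ i = i ∨ i = p ∨ i = ζ p ∨ i = q ∨ i = ζ q ∨ i = r ∨ i = ζ r ∨ b i = i := by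
      by_contra hh; push Not at hh
      exact hh.2.2.2.2.2.2.2 (k1 e i hh.1 ⟨hh.2.1, hh.2.2.1, hh.2.2.2.1, hh.2.2.2.2.1,
        hh.2.2.2.2.2.1, hh.2.2.2.2.2.2.1⟩)
    replace k2 (e : b s ≠ s) (i : Ω) :
        ζ i = i ∨ i = p ∨ i = ζ p ∨ i = q ∨ i = ζ q ∨ i = r ∨ i = ζ r ∨ b i = ζ i := by
      by_contra hh; push Not at hh
      exact hh.2.2.2.2.2.2.2 (k2 e i hh.1 ⟨hh.2.1, hh.2.2.1, hh.2.2.2.1, hh.2.2.2.2.1,
        hh.2.2.2.2.2.1, hh.2.2.2.2.2.2.1⟩)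
    replace b3 (i : Ω) : ζ i ≠ i ∨ i = α ∨ i = β ∨ b i = i := by
      by_contra hh; push Not at hh
      exact hh.2.2.2 (b3 i hh.1 hh.2.1 hh.2.2.1)
    clear b4 k ks b1 hc vb e hv hb' z1 bA bT bZ hμ hT hP hV hρ hg c0 v2 hv'
    by_cases e : b s = s <;> rcases b5 with e' | e'
    · refine ⟨1, .inl rfl, one_or_t h2 hr hα hβ hn (mul_mem (one_mem _) hb) (by simpa using c1)
        (by simpa using b2) fun i _ _ _ _ => ?_⟩
      have := k1 e i; have := b3 i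
      simp only [one_mul]; grind
    · refine ⟨_, .inr (.inl rfl), one_or_t h2 hr hα hβ hn (mul_mem hA hb) ?_ ?_ fun i _ _ _ _ => ?_⟩
      · clear k1 k2 b3; simp only [mul_apply, tr]; grind (splits := 40)
      · clear k1 k2 b3; simp only [mul_apply, tr]; grind (splits := 40)
      · have := k1 e i; have := b3 i
        clear k1 k2 b3 b2 c1; simp only [mul_apply, tr]; grind (splits := 40)
    · refine ⟨_, .inr (.inr (.inl rfl)), one_or_t h2 hr hα hβ hn (mul_mem (mul_mem hA hζ) hb) ?_ ?_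
        fun i _ _ _ _ => ?_⟩
      · clear k1 k2 b3; simp only [mul_apply, tr]; grind (splits := 40)
      · clear k1 k2 b3; simp only [mul_apply, tr]; grind (splits := 40)
      · have := k2 e i; have := b3 i
        clear k1 k2 b3 b2 c1; simp only [mul_apply, tr]; grind (splits := 40)
    · refine ⟨_, .inr (.inr (.inr rfl)), one_or_t h2 hr hα hβ hn (mul_mem hζ hb) ?_ ?_
        fun i _ _ _ _ => ?_⟩
      · simp only [mul_apply]; grind
      · simp only [mul_apply]; grind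
      · have := k2 e i; have := b3 i
        simp only [mul_apply]; grind
  have AA := bA.sq hμ
  have cc : c * c = 1 ∧ c ∈ HU ζ ∧ (ι c = 1 ∨ ι c = ι (tr ζ p * tr ζ q) ∨
      ι c = ι (tr ζ p * tr ζ q) * z ∨ ι c = z) := by
    rcases hc with rfl | rfl | rfl | rfl
    · exact ⟨one_mul _, one_mem _, .inl h.one⟩
    · exact ⟨AA, hA, .inr (.inl rfl)⟩
    · exact ⟨(bA.mul hμ bZ).sq hμ, mul_mem hA hζ, .inr (.inr (.inl (by rw [h.mul hA hζ, h.ιζ])))⟩
    · exact ⟨h2, hζ, .inr (.inr (.inr h.ιζ))⟩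
  have hb2 : b = c * (c * b) := by rw [← mul_assoc, cc.1, one_mul]
  have r3 := hρ.z
  rw [h.ιζ] at r3
  have AV : ι (sw ζ p q) * ι (tr ζ p * tr ζ q) = ι (tr ζ p * tr ζ q) * ι (sw ζ p q) :=
    (h.comm_iff hV hA).2 (tr_tr_sw hpq).symm
  have A2 : ι (tr ζ p * tr ζ q) * ι (tr ζ p * tr ζ q) = 1 := by rw [← h.mul hA hA, AA, h.one]
  have nV : ¬ IsConj z (ι (sw ζ p q)) := fun e' =>
    not_z_a hB z1 hpq (e'.trans (isConj_iff.2 ⟨ρ, hρ.a⟩).symm)
  have zA : IsConj z (ι (tr ζ p * tr ζ q) * ι (sw ζ p q) * z) := isConj_iff.2 ⟨ρ, r3⟩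
  have e1 : ι (tr ζ p * swap α β) * ι (sw ζ p q) * (ι (tr ζ p * swap α β))⁻¹ =
      ι (tr ζ p * tr ζ q) * ι (sw ζ p q) := by
    rw [h.cj hP hV, tp_v h2 hpq hα hβ, mul_inv_cancel_right, h.mul hA hV]
  have e2 {x : Perm Ω} (hx : Bs (ζ * swap α β) x) :
      ι (tr ζ p * swap α β) * ι x * (ι (tr ζ p * swap α β))⁻¹ = ι x := by
    rw [h.cj hP (hx.mem h2 hα hβ), (bs_tr_swap h2 hp hα hβ hn).comm hμ hx, mul_inv_cancel_right]
  rcases c2 with c2 | c2 <;> rw [c2] at hb2 <;> rw [hv, hb2] at e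
  · rw [mul_one, h.mul hV cc.2.1] at e
    rcases cc.2.2 with c3 | c3 | c3 | c3 <;> rw [c3] at e
    · exact ⟨g, hg, by rwa [mul_one] at e⟩
    · refine ⟨g * ι (tr ζ p * swap α β), ⟨hr, hα, hβ, hn, fun x hx => ?_⟩, ?_⟩
      · rw [← hg.act x hx]
        nth_rw 2 [← e2 hx]
        group
      · rw [AV, ← e1] at e
        nth_rw 2 [← e]
        group
    · rw [← mul_assoc (ι _), AV] at e
      exact (nV (zA.trans (isConj_iff.2 ⟨g, e⟩))).elim
    · refine (nV ((zA.trans (isConj_iff.2 ⟨ι (tr ζ p * swap α β), ?_⟩)).trans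
        (isConj_iff.2 ⟨g, e⟩))).elim
      have := e2 bZ
      rw [h.ιζ] at this
      rw [← conj_mul, ← conj_mul, e1, e2 bA, this, ← mul_assoc, A2, one_mul]
  · exfalso
    rw [h.mul hV (mul_mem cc.2.1 hT), h.mul cc.2.1 hT] at e
    have g1 := hg.act _ bA
    have g2 := hg.act _ bT
    have g3 := hg.act _ bZ
    rw [← conj_mul, pi_tr h2 h1 hα hβ, pi_tr h2 h3 hα hβ] at g1
    rw [← conj_mul, pi_r h2 hr hα hβ hn, pi_lam h2 hr hα hβ hn, tr_lam h2 hr hα hβ] at g2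
    rw [pi_zeta h2 hr hα hβ hn, h.mul hζ hT, h.ιζ] at g3
    obtain ⟨κ, k1, k2, k3⟩ := exists_kappa' A2 (by rw [← h.mul hV hV, sw_sq hpq, h.one])
      (h.z2 hB.ev h2) (by rw [← h.mul hT hT, bT.sq hμ, h.one]) AV (h.comm hB.ev hA).symm
      ((h.comm_iff hT hA).2 (bT.comm hμ bA)) (h.comm hB.ev hV).symm
      ((h.comm_iff hT hV).2 (sw_ts' h2 hpq h1 h3 hα hβ).symm) (h.comm hB.ev hT) g1 g2 g3
      hρ.a hρ.v r3 (hρ.t r h1 h3) cc.2.2 e
    rcases k3 with k3 | k3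
    · obtain ⟨k, hk, rfl⟩ := h.surj κ (mul_inv_eq_iff_eq_mul.1 k2)
      rw [h.cj hk hV, ← h.mul hV hT] at k3
      have := chr_ε1.cj hk hV
      rw [h.eq (mul_mem (mul_mem hk hV) (inv_mem hk)) (mul_mem hV hT) k3, chr_ε1.mul hV hT,
        ε1_tr_swap h2 hr hα hβ hn, mul_eq_left] at this
      exact absurd this (by decide)
    · exact nV (zA.trans (isConj_iff.2 ⟨κ, k3⟩).symm)

/-- The normalised chart, given the absence of fusion in the base group. -/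
theorem nice (hB : Big ζ) (h : ZC z ζ ι) (hg : GG ζ ι r α β g) {ε : Perm Ω → ℤˣ} (hε : Chr ζ ε)
    (z1 : ∀ w ∈ HU ζ, IsConj z (rech z ι ε w) → (∀ p, w p = p ∨ w p = ζ p) → w = ζ)
    (ha : ∀ p q α β, Df ζ p q → ζ α = α → ζ β = β → α ≠ β →
      ∃ θ, A0 z ζ (rech z ι ε) p q α β θ) : Nice z ζ (rech z ι ε) := by
  have h2 := hB.sq
  have h0 := sq_ap h2
  have h' := h.rech hB.ev h2 hε
  have hr := hg.hr
  obtain ⟨p, hp⟩ := hB.fresh r r r
  obtain ⟨q, hq⟩ := hB.fresh p r r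
  have hpq : Df ζ p q := by grind
  have h1 : Df ζ p r := by grind
  have h3 : Df ζ q r := by grind
  have hg' : GG ζ (rech z ι ε) r α β g := by
    rcases Int.units_eq_one_or (ε (tr ζ r * swap α β)) with e | e
    · exact gg_rech hB hg hε e
    · have := gg_rech (z := z) hB hg (hε.mul' chr_ε1) (by
        simp only [e, ε1_tr_swap h2 hr hg.hα hg.hβ hg.ne]; rfl)
      rw [← rech_rech (h.z2 hB.ev h2)] at this
      obtain ⟨θ, hθ⟩ := ha p q α β hpq hg.hα hg.hβ hg.ne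
      obtain ⟨ρ, hρ⟩ := exists_rho hB h' hpq hg.hα hg.hβ hg.ne hθ
      exact (not_gg hB h' this hpq h1 h3 hρ).elim
  refine ⟨ha, fun p' q' r' α' β' a1 a2 a3 a4 a5 a6 => ?_⟩
  obtain ⟨k, hk, -, -, rfl, rfl, rfl⟩ := exists_mv hB hpq h1 h3 a1 a2 a3 hg.hα hg.hβ hg.ne a4 a5 a6
  obtain ⟨θ, hθ⟩ := ha p' q' _ _ a1 a4 a5 a6
  obtain ⟨ρ, hρ⟩ := exists_rho hB h' a1 a4 a5 a6 hθ
  exact gg_fix hB h' z1 (hg'.map hB h' hk) a1 a2 a3 hρ

end Gam

end Cfsg.Lib.AltZ
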