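import Cfsg.Agent.AltC.Pair1
import Cfsg.Agent.Local.InvCent
import Cfsg.Agent.Perm.MultiInvol
import Cfsg.Agent.Solv.ClassSize

/-! Commuting pairs of even type, and their existence. -/

set_option autoImplicit false

namespace Cfsg.Lib.AltC

open Equiv Equiv.Perm

variable {G : Type*} [Group G] {R : Type*} [Fintype R] [DecidableEq R] {a v : G}
  {ψ : Perm R →* G}

theorem IV.mul {d x y : G} (hx : IV d x) (hy : IV d y) : IV d (x * y) :=
  ⟨by rw [mul_assoc, hy.1, ← mul_assoc, hx.1, mul_assoc],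
    fun z hz => by rw [mul_assoc, hy.2 z hz, ← mul_assoc, hx.2 z hz, mul_assoc]⟩

theorem Ch.conj_even (h : Ch a v ψ) {y : Perm R} (hy : sign y = 1) {x : G} (hx : InV a v x)
    (s : Perm R) : ψ y * (x * ψ s) * (ψ y)⁻¹ = x * ψ (y * s * y⁻¹) := by
  rw [← mul_assoc, h.even hy hx, map_mul, map_mul, map_inv]; group

theorem Ch.even_of_comm (h : Ch a v ψ) {x : G} (hx : InV a v x) {s : Perm R}
    (e : x * ψ s * v = v * (x * ψ s)) : sign s = 1 :=
  (sign_cases s).resolve_right fun hs => (h.odd_comm hs hx inV_v e).elim h.v1 h.va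

theorem Ch.conj_odd (h : Ch a v ψ) {x : G} (hx : InV a v x) {s : Perm R} (hs : sign s = -1) :
    v * (x * ψ s) * v⁻¹ = a * (x * ψ s) := by
  rw [mul_inv_eq_iff_eq_mul, mul_assoc a, mul_assoc x, h.ψo s hs, ← mul_assoc x,
    h.commV hx inV_av, mul_assoc a, mul_assoc a, h.aa, mul_assoc]

theorem Ch.q1 [Finite G] (h : Ch a v ψ) (hR : Sz R) {d : G} (hp : Pair a d) (hv : IV d v) :
    IsConj a (a * d) ∧ IV (a * d) (a * v) := by
  obtain ⟨x, s, hx, e, s2, s1, -⟩ := h.pair_dec hR hp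
  obtain ⟨p, hp1⟩ := ne_one_ap s1
  have ho : sign (swap p (s p)) = -1 := sign_swap hp1.symm
  have e1 : ψ (swap p (s p)) * v * (ψ (swap p (s p)))⁻¹ = a * v := by
    rw [h.ψo _ ho, mul_inv_cancel_right]
  have e2 : ∀ x', ψ (swap p (s p)) * x = x' * ψ (swap p (s p)) →
      ψ (swap p (s p)) * d * (ψ (swap p (s p)))⁻¹ = x' * ψ s := fun x' e' => by
    rw [e, ← mul_assoc, e', mul_assoc x', ← map_mul, tau_comm s2, map_mul]; group
  have h1 := e1 ▸ hv.conj (ψ (swap p (s p)))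
  have h2 := hp.conj.trans (isConj_iff.2 ⟨ψ (swap p (s p)), rfl⟩)
  have K : ψ (swap p (s p)) * x = x * ψ (swap p (s p)) → False := fun e' => by
    rw [e2 x e', ← e] at h1
    exact (h.pair_symm hp).nv (by simpa [mul_assoc, h.v2] using h1.mul hv)
  suffices ψ (swap p (s p)) * d * (ψ (swap p (s p)))⁻¹ = a * d from this ▸ ⟨h2, h1⟩
  rcases hx with rfl | rfl | rfl | rfl
  · exact (K (by simp)).elim
  · exact (K (h.ψa _)).elim
  · rw [e2 _ (h.ψo _ ho), e, mul_assoc]
  · rw [e2 _ (h.ψo' ho), e, mul_assoc, h.aa]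

theorem Ch.q2' [Finite G] (h : Ch a v ψ) (hR : Sz R) {d : G} (hp : Pair a d) (hv : IV d v) :
    False := by
  obtain ⟨x, s, hx, e, s2, s1, -⟩ := h.pair_dec hR hp
  have se := h.even_of_comm hx (e ▸ hv.1.symm)
  have K0 : ∀ t y, sign y = 1 → y * s * y⁻¹ = t → IsConj a (x * ψ t) ∧ IV (x * ψ t) v ∧ t ≠ 1 ∧
      sign t = 1 := fun t y hy e' => by
    have h1 := hv.conj (ψ y)
    have h2 := hp.conj.trans (isConj_iff.2 ⟨ψ y, rfl⟩)
    rw [e, h.conj_even hy hx, e'] at h1 h2
    rw [h.ψe y hy, mul_inv_cancel_right] at h1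
    exact ⟨h2, h1, fun e2 => s1 (by simpa [e2] using e'), by simp [← e', se]⟩
  have K : ∀ t, Ok s t → IsConj a (ψ s) ∧ IV (ψ s) (x * ψ t * v) ∧ t ≠ 1 ∧ t ≠ s := by
    rintro t ⟨t2, ts, ⟨y1, a1, b1⟩, y2, a2, b2⟩
    obtain ⟨c1, i1, n1, e1⟩ := K0 _ _ a1 b1
    obtain ⟨c2, i2, n2, e2⟩ := K0 _ _ a2 b2
    obtain ⟨v', ψ', h'⟩ := h.at c1
    have h'' := h'.rechart hR i1 h.v1 fun e' => n1 (h.prUniq (pr_mk hx t) (e' ▸ pr_V inV_v))
    have m1 : x * ψ t * (x * ψ (s * t)) = ψ s := by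
      rw [mul_assoc, ← mul_assoc (ψ t), h.even e1 hx, mul_assoc, ← mul_assoc, h.sqV hx, one_mul,
        ← map_mul, ← mul_assoc, ts, mul_assoc, t2, mul_one]
    have m2 : x * ψ (s * t) * (x * ψ t) = ψ s := by
      rw [mul_assoc, ← mul_assoc (ψ _), h.even e2 hx, mul_assoc, ← mul_assoc, h.sqV hx, one_mul,
        ← map_mul, mul_assoc, t2, mul_one]
    have := h''.q1 hR (d := x * ψ (s * t)) ⟨c1.symm.trans c2, m2.trans m1.symm, fun i => by
      have p := pr_mk (ψ := ψ) hx (s * t)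
      rcases (h''.iv hR).1 i with e' | e' | e' | e' <;> rw [e'] at p
      · exact n2 (h.prUniq p (pr_V inV_one))
      · exact s1 (by simpa using h.prUniq p (pr_mk hx t))
      · exact n2 (h.prUniq p (pr_V inV_v))
      · exact s1 (by simpa using h.prUniq p (h.prMul (pr_mk hx t) (pr_V inV_v)))⟩ i2
    rw [m1] at this
    exact ⟨c1.trans this.1, this.2, n1, fun e' => n2 (by rw [e', s2])⟩
  refine not_ok hR s2 s1 se fun t t' o o' => ?_
  obtain ⟨c, i, n1, n2⟩ := K t o
  obtain ⟨-, i', n1', n2'⟩ := K t' o'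
  have p : ∀ t, Pr a v ψ (x * ψ t * v) t := fun t => by
    simpa using h.prMul (pr_mk hx t) (pr_V inV_v)
  obtain ⟨v', ψ', h'⟩ := h.at c
  have h'' := h'.rechart hR i (fun e' => n1 (h.prUniq (p t) (e' ▸ pr_V inV_one)))
    fun e' => n2 (h.prUniq (p t) (e' ▸ pr_psi s))
  have p' := p t'
  rcases (h''.iv hR).1 i' with e' | e' | e' | e' <;> rw [e'] at p'
  · exact absurd (h.prUniq p' (pr_V inV_one)) n1'
  · exact absurd (h.prUniq p' (pr_psi s)) n2'
  · exact .inl (h.prUniq p' (p t))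
  · exact .inr (h.prUniq p' (h.prMul (pr_psi s) (p t)))

theorem Ch.q2 [Finite G] (h : Ch a v ψ) (hR : Sz R) {d w : G} (hp : Pair a d) (h1 : IV a w)
    (h2 : IV d w) : w = 1 := by
  by_contra e
  exact (h.rechart hR h1 e fun e' => (h.pair_symm hp).nv (e' ▸ h2)).q2' hR hp h2

theorem Ch.x0 [Finite G] (h : Ch a v ψ) (hR : Sz R) {d v' : G} {ψ' : Perm R →* G}
    (h' : Ch d v' ψ') (hx : PX a d) : ∃ p q r u x t, N4 p q r u ∧ Shape p q r u t ∧
      d = ψ (swap p q * swap r u) ∧ (x = 1 ∨ x = a) ∧ v' = x * ψ t := by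
  obtain ⟨x, s, hx1, e, s2, s1, -⟩ := h.pair_dec hR hx.1
  have dv := (h.px_iff hR hx.1).1 hx
  have se := h.even_of_comm hx1 (e ▸ dv)
  obtain ⟨x1, t, hx2, e1⟩ := h.cent v' ((h.px_symm hR hx).2 v' ((h'.iv hR).2 inV_v)).symm
  have pd : Pr a v ψ d s := ⟨x, hx1, e⟩
  have pv : Pr a v ψ v' t := ⟨x1, hx2, e1⟩
  have da : d ≠ a := fun e' => hx.1.nv (e' ▸ (h.iv hR).2 inV_a)
  have te : sign t = 1 := (sign_cases t).resolve_right fun ho => by
    have : v * v' * v⁻¹ = a * v' := e1 ▸ h.conj_odd hx2 ho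
    rcases h'.norm dv.symm with e' | e' <;> rw [this] at e'
    · exact h.a1 (by simpa using e')
    · exact da (by simpa using e'.symm)
  have K : ∀ w, Ch d w ψ' → Pr a v ψ w 1 → False := fun w hw ⟨x3, hx3, e3⟩ =>
    hw.v1 (h.q2 hR hx.1 ((h.iv hR).2 (by simpa [e3] using hx3)) ((hw.iv hR).2 inV_v))
  have c : ∀ y, sign y = 1 → y * s = s * y → ψ y * d = d * ψ y := fun y hy ys => by
    rw [e, ← mul_assoc, h.even hy hx1, mul_assoc, ← map_mul, ys, map_mul, mul_assoc]
  obtain ⟨p, q, r, u, hn, es, sh⟩ := x_shape s2 s1 se (h.prSq pv h'.v2) te (fun e' => K _ h' (e' ▸ pv))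
    (fun e' => K _ h'.alt (s2 ▸ h.prMul pd (e' ▸ pv))) (h.prComm pv pd h'.av.symm)
    fun y hy ys => h.norm_pr h' pd pv (c y hy ys)
  obtain ⟨⟨k, ke, ks, kt⟩, l, lo, ls, lt⟩ := sh.aux hR hn
  rw [← es] at ks kt ls
  have st : s * t ≠ t := by simpa using s1
  have x1' : x = 1 := by
    rcases h'.norm (c k ke ks) with e' | e' <;> rw [e1, h.conj_even ke hx2, kt] at e'
    · exact absurd (h.psi_inj (mul_left_cancel e')) st
    · rw [e, mul_assoc x, ← mul_assoc (ψ s), h.even se hx2, mul_assoc, ← map_mul] at e'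
      simpa using e'.symm
  rw [x1', one_mul] at e
  refine ⟨p, q, r, u, x1, t, hn, sh, es ▸ e, h.odd_comm lo inV_one hx2 ?_, e1⟩
  rcases h'.norm (θ := ψ l) (by rw [e, ← map_mul, ls, map_mul]) with e' | e'
  · rw [mul_inv_eq_iff_eq_mul, e1, mul_assoc, ← map_mul, ← lt, map_mul, ← mul_assoc,
      ← mul_assoc] at e'
    simpa using mul_right_cancel e'
  · have := h.prUniq (h.prConj l pv) (e'.symm ▸ h.prMul pd pv)
    rw [lt, mul_inv_cancel_right] at this
    exact absurd this.symm st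

theorem Ch.px_mem [Finite G] (h : Ch a v ψ) (hR : Sz R) {d : G} (hx : PX a d) : d ∈ IL a := by
  obtain ⟨v', ψ', h'⟩ := h.at hx.1.conj
  obtain ⟨p, q, r, u, -, -, hn, -, e, -⟩ := h.x0 hR h' hx
  exact h.mem_il.2 ⟨_, sign_dbl hn.1 hn.2.2.2.2.2, e⟩

theorem Ch.x1 [Finite G] (h : Ch a v ψ) (hR : Sz R) {d : G} (hx : PX a d) :
    ∃ p q r u t, N4 p q r u ∧ Shape p q r u t ∧ d = ψ (swap p q * swap r u) ∧ IV d (ψ t) := by
  obtain ⟨v', ψ', h'⟩ := h.at hx.1.conj
  obtain ⟨p, q, r, u, x, t, hn, sh, e, hx1, e1⟩ := h.x0 hR h' hx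
  refine ⟨p, q, r, u, t, hn, sh, e, by_contra fun nv => h'.v1 ?_⟩
  obtain ⟨y, -, hy⟩ := Dbl.conj ⟨p, q, r, u, hn, rfl⟩ (sh.dbl hn)
  have c : x * ψ t = ψ t * x := by
    rcases hx1 with rfl | rfl
    · simp
    · exact (h.ψa t).symm
  have c2 : x * d = d * x := by
    rcases hx1 with rfl | rfl
    · simp
    · exact hx.1.comm.symm
  have pp : Pair d (ψ t) := ⟨isConj_iff.2 ⟨ψ y, by rw [e, ← hy, map_mul ψ (y * _), map_mul ψ y, map_inv]⟩, by
    have := h'.av
    rw [e1, ← mul_assoc, ← c2, mul_assoc, mul_assoc] at this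
    exact (mul_left_cancel this).symm, nv⟩
  have m1 := h'.px_mem hR ((h'.px_iff hR pp).2 (by rw [e1, ← mul_assoc, c]))
  refine h'.eq_one hR ((h'.iv hR).2 inV_v) (e1 ▸ mul_mem ?_ m1)
  rcases hx1 with rfl | rfl
  · exact one_mem _
  · exact h'.px_mem hR (h.px_symm hR hx)

theorem odd_class [Finite G] {t : G} (tt : t * t = 1) (t1 : t ≠ 1)
    (h : ∀ s, IsConj t s → s * t = t * s → s ≠ t → IsConj t (s * t)) :
    Odd (Subgroup.centralizer ({t} : Set G)).index := by
  classical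
  haveI := Fintype.ofFinite G
  let T : Finset G := Finset.univ.filter fun s => IsConj t s
  have hT : T.card = (Subgroup.centralizer ({t} : Set G)).index := by
    have h0 : (Subgroup.centralizer ({t} : Set G)).index =
        (MulAction.stabilizer (ConjAct G) t).index := by
      rw [Subgroup.centralizer_eq_comap_stabilizer]
      exact Subgroup.index_comap_of_surjective _ ConjAct.toConjAct.surjective
    rw [h0, MulAction.index_stabilizer, ← Set.ncard_coe_finset]
    congr 1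
    ext s
    rw [ConjAct.mem_orbit_conjAct, isConj_comm]
    simp only [T, Finset.coe_filter, Finset.mem_univ, true_and, Set.mem_ofPred_eq]
  have h1 := Perm.card_modEq_filter_of_involutive
    (fun s => if s = t then t else if s * t = t * s then s * t else t * s * t) T (fun s hs => by
      simp only [T, Finset.mem_filter, Finset.mem_univ, true_and] at hs ⊢
      split_ifs with e1 e2
      · exact IsConj.refl t
      · exact h s hs e2 e1
      · exact hs.trans (isConj_iff.mpr ⟨t, by rw [inv_eq_of_mul_eq_one_right tt]⟩))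
    (fun s hs => by
      simp only [T, Finset.mem_filter, Finset.mem_univ, true_and] at hs
      have hs1 : s ≠ 1 := fun e => t1 (by simpa [e] using hs)
      by_cases e1 : s = t
      · simp [e1]
      by_cases e2 : s * t = t * s
      · have e3 : s * t * t = t * (s * t) := by rw [← mul_assoc, ← e2]
        simp only [e1, e2, if_true, if_false]
        rw [← e2, if_neg (by simpa using hs1), if_pos e3, mul_assoc, tt, mul_one]
      · have e3 : t * s * t ≠ t := fun e => e1 (by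
          rw [mul_eq_right, ← tt] at e
          exact mul_left_cancel e)
        have e4 : t * s * t * t ≠ t * (t * s * t) := fun e => e2 (by
          rw [mul_assoc, tt, ← mul_assoc, ← mul_assoc, tt] at e
          simpa using e.symm)
        simp only [e1, e2, e3, e4, if_false]
        rw [← mul_assoc, ← mul_assoc, tt, mul_assoc, mul_assoc, tt]; simp)
  have h2 : (T.filter fun s =>
      (if s = t then t else if s * t = t * s then s * t else t * s * t) = s) = {t} := by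
    ext s
    simp only [T, Finset.mem_filter, Finset.mem_univ, true_and, Finset.mem_singleton]
    refine ⟨fun ⟨_, e⟩ => ?_, fun e => ⟨e ▸ IsConj.refl _, by simp [e]⟩⟩
    by_contra e1
    rw [if_neg e1] at e
    split_ifs at e with e2
    · exact t1 (by simpa using e)
    · exact e2 (by nth_rw 1 [← e]; rw [mul_assoc, tt, mul_one])
  rw [h2, hT, Finset.card_singleton] at h1
  exact Nat.odd_iff.mpr h1

theorem Ch.exists_pair [Finite G] (h : Ch a v ψ) (hR : Sz R) (hG : ∀ K : Subgroup G, K.index ≠ 2) :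
    ∃ d, Pair a d := by
  by_contra! H
  have H1 : ∀ d, IsConj a d → d * a = a * d → IV a d := fun d h1 h2 =>
    by_contra fun h3 => H d ⟨h1, h2, h3⟩
  obtain ⟨p, q, hpq⟩ := Fintype.exists_pair_of_one_lt_card (α := R) (by have := hR.1; omega)
  have ho := sign_swap hpq
  have cv : IsConj v (a * v) := isConj_iff.2 ⟨_, by rw [h.ψo _ ho, mul_inv_cancel_right]⟩
  haveI : Fact (Nat.Prime 2) := ⟨Nat.prime_two⟩
  obtain ⟨T, hT⟩ := Solv.ClassSize.exists_sylow_le_of_not_dvd_index (p := 2)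
    (odd_class h.a2 h.a1 fun s h1 h2 h3 => by
      rcases (h.iv hR).1 (H1 s h1 h2) with rfl | rfl | rfl | rfl
      · exact absurd (by simpa using h1) h.a1
      · exact absurd rfl h3
      · exact h.av ▸ h1.trans cv
      · rw [h2, h.aa]
        exact h1.trans cv.symm).not_two_dvd_nat
  have hT' : ∀ t ∈ (T : Subgroup G), t * a = a * t := fun t ht =>
    (Subgroup.mem_centralizer_singleton_iff.1 (hT ht))
  obtain ⟨g, g1, g2, g3⟩ := Local.thompson_idx hG T (M := Subgroup.centralizer {v})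
    (Local.idxLeTwo_centralizer h.a2 hT' fun t ht => h.norm (hT' t ht)) (y := ψ (swap p q))
    (orderOf_eq_prime (by rw [← map_pow, sq, swap_mul_self, map_one]) fun e => by
      rw [h.psi_inj (e.trans (map_one ψ).symm), map_one] at ho
      exact absurd ho (by decide)) (Subgroup.zpowers a)
    (Local.isPGroup_zpowers_of_orderOf_two (orderOf_eq_prime (by rw [sq, h.a2]) h.a1))
    (by rintro _ ⟨k, rfl⟩; exact ((show Commute a _ from (h.ψa _).symm).zpow_left k).eq)
  have c : IsConj a (g * a * g⁻¹) := isConj_iff.2 ⟨g, rfl⟩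
  have i1 := H1 _ c (hT' _ (g3 a (Subgroup.mem_zpowers a)))
  have i2 := (h.conj g).iv_trans hR c.symm (h.iv_symm c i1) (((h.conj g).iv hR).2 inV_v)
  have e1 := hT' _ g1
  have e2 := Subgroup.mem_centralizer_singleton_iff.1 g2
  have e3 : g * ψ (swap p q) * g⁻¹ * (g * v * g⁻¹) = g * v * g⁻¹ * (g * ψ (swap p q) * g⁻¹) := by
    rcases (h.iv hR).1 i2 with e | e | e | e <;> rw [e]
    · simp
    · exact e1
    · exact e2
    · rw [← mul_assoc, e1, mul_assoc a, e2, mul_assoc a]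
  rw [conj_mul, conj_mul, h.ψo _ ho] at e3
  exact h.a1 (by simpa using e3)

theorem Ch.exists_px [Finite G] (h : Ch a v ψ) (hR : Sz R) (hG : ∀ K : Subgroup G, K.index ≠ 2) :
    ∃ d, PX a d := by
  by_contra! H
  have H1 : ∀ {d d' : G}, IsConj a d → ¬ PX d d' := fun {d d'} c hx => by
    obtain ⟨g, rfl⟩ := isConj_iff.1 c.symm
    refine H (g * d' * g⁻¹) ⟨⟨(isConj_iff.2 ⟨g⁻¹, by group⟩ : IsConj _ d).trans
      (hx.1.conj.trans (isConj_iff.2 ⟨g, rfl⟩)), by rw [conj_mul, conj_mul, hx.1.comm],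
      fun i => hx.1.nv (by simpa [mul_assoc] using i.conj g⁻¹)⟩, fun x i => ?_⟩
    have := hx.2 _ (by simpa [mul_assoc] using i.conj g⁻¹)
    calc _ = g * (d' * (g⁻¹ * (x * g))) * g⁻¹ := by group
      _ = _ := by rw [this]; group
  obtain ⟨d, hp⟩ := h.exists_pair hR hG
  obtain ⟨x, s, hx, e, s2, s1, so⟩ := h.pair_dec hR hp
  have K : ∀ {d x : G} {s : Perm R}, Pair a d → InV a v x → d = x * ψ s → sign s = -1 :=
    fun hp hx e => (sign_cases _).resolve_left fun se => H _ ((h.px_iff hR hp).2 (by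
      rw [e, mul_assoc, h.ψe _ se, ← mul_assoc, h.commV hx inV_v, mul_assoc]))
  have ho := K hp hx e
  obtain ⟨y, y1, y2⟩ := other_conj (by have := hR.1; omega) s2 s1
  have xc : ∀ z, ψ z * x = x * ψ z := fun z => by
    rcases so ho with rfl | rfl
    · simp
    · exact h.ψa z
  have e1 : ψ y * d * (ψ y)⁻¹ = x * ψ (y * s * y⁻¹) := by
    rw [e, ← mul_assoc, xc, map_mul, map_mul, map_inv]; group
  have c1 : IsConj d (x * ψ (y * s * y⁻¹)) := isConj_iff.2 ⟨_, e1⟩
  have so' : sign (y * s * y⁻¹) = -1 := by simp [ho]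
  generalize y * s * y⁻¹ = t at *
  have m1 : d * (x * ψ t) = ψ (s * t) := by
    rw [e, mul_assoc, ← mul_assoc (ψ s), xc, mul_assoc, ← mul_assoc, h.sqV hx, one_mul, map_mul]
  have m2 : x * ψ t * d = ψ (s * t) := by
    rw [e, mul_assoc, ← mul_assoc (ψ t), xc, mul_assoc, ← mul_assoc, h.sqV hx, one_mul, ← y2,
      map_mul]
  obtain ⟨v', ψ', h'⟩ := h.at hp.conj
  have n1 : s * t ≠ 1 := fun e' => y1 (by rw [← one_mul t, ← s2, mul_assoc, e', mul_one])
  have c2 : IsConj d (ψ (s * t)) := by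
    rw [← m1]
    refine c1.trans ?_
    by_cases i : IV d (x * ψ t)
    · obtain ⟨p, q, hpq⟩ := Fintype.exists_pair_of_one_lt_card (α := R) (by have := hR.1; omega)
      have h'' := h'.rechart hR i (fun e' => h'.a1 (by simpa [e'] using c1)) fun e' =>
        n1 (h.psi_inj (by rw [← m1, e', h'.a2, map_one]))
      exact isConj_iff.2 ⟨_, by rw [h''.ψo _ (sign_swap hpq), mul_inv_cancel_right]⟩
    · have pp : Pair d (x * ψ t) := ⟨c1, m2.trans m1.symm, i⟩
      obtain ⟨x', s', hx', e', -⟩ := h'.pair_dec hR pp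
      have : sign s' = -1 := (sign_cases _).resolve_left fun se => H1 hp.conj
        ((h'.px_iff hR pp).2 (by
          rw [e', mul_assoc, h'.ψe _ se, ← mul_assoc, h'.commV hx' inV_v, mul_assoc]))
      exact isConj_iff.2 ⟨v', e' ▸ h'.conj_odd hx' this⟩
  have := K (x := 1) (s := s * t) ⟨hp.conj.trans c2, h.ψa _, fun i =>
    n1 (h.prUniq (pr_psi _) (pr_V ((h.iv hR).1 i)))⟩ inV_one (one_mul _).symm
  rw [map_mul, ho, so'] at this
  exact absurd this (by decide)

end Cfsg.Lib.AltC
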