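import Cfsg.Agent.AltC.Pair2
import Cfsg.Agent.Spor.SymCox
import Cfsg.Agent.Local.SixRecog
import Cfsg.Agent.S2119

/-! Good charts: the twist for six letters, and automorphisms of order three. -/

set_option autoImplicit false

namespace Cfsg.Lib.AltC

open Equiv Equiv.Perm

variable {G : Type*} [Group G] {R : Type*} [Fintype R] [DecidableEq R] {a v : G}
  {ψ : Perm R →* G}

set_option maxRecDepth 4000 in
theorem exists_outer6 : ∃ β : Perm (Fin 6) →* Perm (Fin 6), Function.Bijective β ∧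
    (∀ y, sign (β y) = sign y) ∧ β (swap 0 1 * swap 2 3) = swap 0 1 * swap 2 3 ∧
      β (swap 0 2 * swap 1 3) = swap 0 1 * swap 4 5 := by
  obtain ⟨β, hβ⟩ := Spor.SymCox.exists_hom (W := Perm (Fin 6)) (n := 5)
    ![swap 0 3 * swap 1 2 * swap 4 5, swap 0 1 * swap 2 5 * swap 3 4,
      swap 0 2 * swap 1 3 * swap 4 5, swap 0 3 * swap 1 4 * swap 2 5,
      swap 0 1 * swap 2 3 * swap 4 5] (by decide) (by unfold Commute SemiconjBy; decide) (by decide)
  have h0 : β (swap 0 1) = _ := hβ 0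
  have h1 : β (swap 1 2) = _ := hβ 1
  have h2 : β (swap 2 3) = _ := hβ 2
  have h3 : β (swap 3 4) = _ := hβ 3
  have h4 : β (swap 4 5) = _ := hβ 4
  refine ⟨β, Finite.surjective_iff_bijective.1 fun y => ?_, fun y => ?_, ?_, ?_⟩
  · have : y ∈ Submonoid.closure (Set.range fun i : Fin 5 => swap i.castSucc i.succ) := by
      rw [mclosure_swap_castSucc_succ]; trivial
    refine (Submonoid.closure_le (S := MonoidHom.mrange β)).2 ?_ this
    rintro _ ⟨i, rfl⟩
    fin_cases i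
    · exact ⟨swap 0 1 * swap 1 2 * swap 0 1 * swap 2 3 * swap 1 2 * swap 0 1 * swap 4 5, by
        simp only [map_mul, h0, h1, h2, h4]; decide⟩
    · exact ⟨swap 0 1 * swap 3 4 * swap 2 3 * swap 4 5 * swap 3 4, by
        simp only [map_mul, h0, h2, h3, h4]; decide⟩
    · exact ⟨swap 1 2 * swap 0 1 * swap 2 3 * swap 1 2 * swap 4 5, by
        simp only [map_mul, h0, h1, h2, h4]; decide⟩
    · exact ⟨swap 0 1 * swap 1 2 * swap 0 1 * swap 3 4 * swap 2 3 * swap 1 2 * swap 0 1 *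
        swap 4 5 * swap 3 4, by simp only [map_mul, h0, h1, h2, h3, h4]; decide⟩
    · exact ⟨swap 0 1 * swap 2 3 * swap 4 5, by simp only [map_mul, h0, h2, h4]; decide⟩
  · refine DFunLike.congr_fun (MonoidHom.eq_of_eqOn_denseM (f := sign.comp β) (g := sign)
      (mclosure_swap_castSucc_succ 5) ?_) y
    rintro _ ⟨i, rfl⟩
    rw [MonoidHom.comp_apply, hβ]
    revert i
    decide
  · rw [map_mul, h0, h2]; decide
  · rw [show (swap 0 2 * swap 1 3 : Perm (Fin 6)) = swap 1 2 * swap 0 1 * swap 2 3 * swap 1 2 by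
      decide]
    simp only [map_mul, h0, h1, h2]; decide

theorem exists_outer {p q r u f g : R} (hn : N4 p q r u) (hfg : f ≠ g) (hf : Off p q r u f)
    (hg : Off p q r u g) (h : ∀ x, Off p q r u x → x = f ∨ x = g) :
    ∃ β : Perm R →* Perm R, Function.Bijective β ∧ (∀ y, sign (β y) = sign y) ∧
      β (swap p q * swap r u) = swap p q * swap r u ∧
      β (swap p r * swap q u) = swap p q * swap f g := by
  obtain ⟨β, b1, b2, b3, b4⟩ := exists_outer6
  let e : Fin 6 ≃ R := Equiv.ofBijective ![p, q, r, u, f, g] ⟨fun i j e => by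
    fin_cases i <;> fin_cases j <;> simp_all <;> grind, fun x => by
    have : x = p ∨ x = q ∨ x = r ∨ x = u ∨ x = f ∨ x = g := by have := h x; grind
    rcases this with rfl | rfl | rfl | rfl | rfl | rfl
    exacts [⟨0, rfl⟩, ⟨1, rfl⟩, ⟨2, rfl⟩, ⟨3, rfl⟩, ⟨4, rfl⟩, ⟨5, rfl⟩]⟩
  have he : ∀ i j k l, e.permCongrHom (swap i j * swap k l) = swap (e i) (e j) * swap (e k) (e l) :=
    fun i j k l => by
      rw [map_mul]
      exact congrArg₂ _ (symm_trans_swap_trans _ _ _) (symm_trans_swap_trans _ _ _)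
  refine ⟨e.permCongrHom.toMonoidHom.comp (β.comp e.permCongrHom.symm.toMonoidHom),
    e.permCongrHom.bijective.comp (b1.comp e.permCongrHom.symm.bijective), fun y => ?_, ?_, ?_⟩
  · obtain ⟨y, rfl⟩ := e.permCongrHom.surjective y
    change sign (e.permCongr (β (e.permCongrHom.symm (e.permCongrHom y)))) = sign (e.permCongr y)
    rw [MulEquiv.symm_apply_apply, sign_permCongr, sign_permCongr, b2]
  · change e.permCongrHom (β (e.permCongrHom.symm (swap (e 0) (e 1) * swap (e 2) (e 3)))) = _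
    rw [← he, MulEquiv.symm_apply_apply, b3, he]; rfl
  · change e.permCongrHom (β (e.permCongrHom.symm (swap (e 0) (e 2) * swap (e 1) (e 3)))) = _
    rw [← he, MulEquiv.symm_apply_apply, b4, he]; rfl

theorem Ch.comp (h : Ch a v ψ) {β : Perm R →* Perm R} (hb : Function.Bijective β)
    (hs : ∀ y, sign (β y) = sign y) : Ch a v (ψ.comp β) where
  a2 := h.a2
  a1 := h.a1
  v2 := h.v2
  av := h.av
  v1 := h.v1
  va := h.va
  ψa := fun _ => h.ψa _
  ψe := fun y hy => h.ψe _ ((hs y).trans hy)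
  ψo := fun y hy => h.ψo _ ((hs y).trans hy)
  cent := fun c hc => by
    obtain ⟨x, y, hx, e⟩ := h.cent c hc
    obtain ⟨y, rfl⟩ := hb.2 y
    exact ⟨x, y, hx, e⟩
  inj := fun x y hx e => hb.1 ((h.inj x _ hx e).trans (map_one β).symm)

/-- Charts in which the four-groups of double transpositions are the four-point groups. -/
structure Gd (a v : G) (ψ : Perm R →* G) : Prop extends Ch a v ψ where
  dbl : ∀ p q r u, N4 p q r u → IsConj a (ψ (swap p q * swap r u)) ∧
    IV (ψ (swap p q * swap r u)) (ψ (swap p r * swap q u))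

theorem Gd.conj (h : Gd a v ψ) (g : G) : Gd (g * a * g⁻¹) (g * v * g⁻¹) (cjh g ψ) where
  toCh := h.toCh.conj g
  dbl := fun p q r u hn => ⟨(isConj_iff.2 ⟨g⁻¹, by group⟩ : IsConj _ a).trans
    ((h.dbl p q r u hn).1.trans (isConj_iff.2 ⟨g, rfl⟩)), (h.dbl p q r u hn).2.conj g⟩

theorem Gd.at (h : Gd a v ψ) {d : G} (hd : IsConj a d) : ∃ v' ψ', Gd (R := R) d v' ψ' := by
  obtain ⟨g, rfl⟩ := isConj_iff.1 hd
  exact ⟨_, _, h.conj g⟩

theorem Ch.gd (h : Ch a v ψ) {p q r u : R} (hn : N4 p q r u)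
    (h1 : IsConj a (ψ (swap p q * swap r u)))
    (h2 : IV (ψ (swap p q * swap r u)) (ψ (swap p r * swap q u))) : Gd a v ψ where
  toCh := h
  dbl := fun p' q' r' u' hn' => by
    obtain ⟨y, rfl, rfl, rfl, rfl⟩ := exists_map4 hn hn'
    simp only [← conj_dbl, map_mul ψ (y * _), map_mul ψ y, map_inv]
    exact ⟨h1.trans (isConj_iff.2 ⟨_, rfl⟩), h2.conj _⟩

theorem Ch.exists_gd [Finite G] (h : Ch a v ψ) (hR : Sz R) (hG : ∀ K : Subgroup G, K.index ≠ 2) :
    ∃ ψ', Gd (R := R) a v ψ' := by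
  obtain ⟨d, hx⟩ := h.exists_px hR hG
  obtain ⟨p, q, r, u, t, hn, rfl | ⟨f, g, a1, a2, a3, a4, rfl⟩, rfl, i⟩ := h.x1 hR hx
  · exact ⟨ψ, h.gd hn hx.1.conj i⟩
  · obtain ⟨β, b1, b2, b3, b4⟩ := exists_outer hn a1 a2 a3 a4
    exact ⟨_, (h.comp b1 b2).gd hn (by rw [MonoidHom.comp_apply, b3]; exact hx.1.conj)
      (by rw [MonoidHom.comp_apply, MonoidHom.comp_apply, b3, b4]; exact i)⟩

theorem alt_aut3_fin {n : ℕ} (h6 : 6 ≤ n) (φ : MulAut (alternatingGroup (Fin n)))
    (h3 : φ ^ 3 = 1) : ∃ σ : Perm (Fin n), MulAut.conjNormal σ = φ := by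
  rcases h6.eq_or_lt with rfl | h7
  · haveI : Fact (Nat.Prime 3) := ⟨Nat.prime_three⟩
    let K : Subgroup (alternatingGroup (Fin 6)) := φ.toMonoidHom.eqLocus (MonoidHom.id _)
    have h1 := card_fixedPoints_modEq (p := 3) (n := 1)
      (f := (φ : alternatingGroup (Fin 6) → _)) (funext fun x =>
        congrArg (fun ψ : MulAut _ => ψ x) h3)
    have h2 := two_mul_card_alternatingGroup (α := Fin 6)
    rw [Fintype.card_perm, Fintype.card_fin] at h2
    have h4 : Nat.card K = Fintype.card (Function.fixedPoints (φ : alternatingGroup (Fin 6) → _)) :=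
      by rw [← Nat.card_eq_fintype_card]; rfl
    obtain ⟨x, hx⟩ := exists_prime_orderOf_dvd_card' (G := K) 3 (by
      rw [h4]
      refine (h1.dvd_iff dvd_rfl).1 ?_
      have : Nat.factorial 6 = 720 := rfl
      omega)
    exact Local.exists_conjNormal_eq φ x.1 (by rw [Subgroup.orderOf_coe, hx]) x.2
  · exact (Agent.S2119.result n (by omega) (by omega)).2 φ

theorem alt_aut3 (h6 : 6 ≤ Fintype.card R) (φ : MulAut (alternatingGroup R)) (h3 : φ ^ 3 = 1) :
    ∃ σ : Perm R, ∀ τ : alternatingGroup R, (φ τ).1 = σ * τ * σ⁻¹ := by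
  let e := Fintype.equivFin R
  obtain ⟨σ, hσ⟩ := alt_aut3_fin h6 (MulAut.congr e.altCongrHom φ) (by rw [← map_pow, h3, map_one])
  refine ⟨e.permCongrHom.symm σ, fun τ => ?_⟩
  have h1 := congrArg (fun f : MulAut (alternatingGroup (Fin (Fintype.card R))) =>
    (f (e.altCongrHom τ)).1) hσ
  simp only [MulAut.conjNormal_apply, MulAut.congr_apply, MulEquiv.trans_apply,
    MulEquiv.symm_apply_apply] at h1
  apply e.permCongrHom.injective
  rw [map_mul, map_mul, map_inv, MulEquiv.apply_symm_apply]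
  exact h1.symm

theorem Ch.induced (h : Ch a v ψ) (hR : Sz R) {κ : G} (hκ : ∀ z ∈ IL a, κ * z * κ⁻¹ ∈ IL a)
    (h3 : κ ^ 3 = 1) :
    ∃ y : Perm R, y ^ 3 = 1 ∧ ∀ τ, sign τ = 1 → κ * ψ τ * κ⁻¹ = ψ (y * τ * y⁻¹) := by
  have H : ∀ τ : alternatingGroup R, ∃ τ' : alternatingGroup R, κ * ψ τ * κ⁻¹ = ψ τ' := fun τ => by
    obtain ⟨y, hy, e⟩ := h.mem_il.1 (hκ _ (h.mem_il.2 ⟨τ, mem_alternatingGroup.1 τ.2, rfl⟩))
    exact ⟨⟨y, mem_alternatingGroup.2 hy⟩, e⟩
  choose f hf using H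
  let F : alternatingGroup R →* alternatingGroup R := MonoidHom.mk' f fun x y =>
    Subtype.ext (h.psi_inj (by
      rw [← hf, Subgroup.coe_mul, Subgroup.coe_mul, map_mul, map_mul, ← hf, ← hf, conj_mul]))
  have e3 : ∀ τ, f (f (f τ)) = τ := fun τ => Subtype.ext (h.psi_inj (by
    rw [← hf, ← hf, ← hf]
    calc _ = κ ^ 3 * ψ τ * (κ ^ 3)⁻¹ := by rw [pow_three']; group
      _ = _ := by rw [h3]; group))
  obtain ⟨y, hy⟩ := alt_aut3 hR.1 (MulEquiv.ofBijective F (Finite.injective_iff_bijective.1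
    fun x y (e : f x = f y) => by rw [← e3 x, e, e3])) (MulEquiv.ext e3)
  have hy' : ∀ τ, (f τ).1 = y * τ * y⁻¹ := hy
  refine ⟨y, Known.eq_one_of_commute_alt (by have := hR.1; simp; omega) fun k hk => ?_,
    fun τ hτ => (hf ⟨τ, mem_alternatingGroup.2 hτ⟩).trans (by rw [hy'])⟩
  have := congrArg Subtype.val (e3 ⟨k, hk⟩)
  rw [hy', hy', hy'] at this
  calc _ = y * (y * (y * k * y⁻¹) * y⁻¹) * y⁻¹ * y ^ 3 := by rw [pow_three']; group
    _ = _ := by rw [this]

end Cfsg.Lib.AltC
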