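import Cfsg.Agent.AltC.Zm

/-! The centraliser of a four-group in an alternating group: blocks and commuting classes. -/

set_option autoImplicit false
set_option linter.unusedSectionVars false

namespace Cfsg.Lib.AltZ

open Equiv Equiv.Perm
open scoped commutatorElement
open Cfsg.Lib.AltC (N4 Sz sq_ap cm_ap sign_cases)

variable {Ω : Type*} [DecidableEq Ω] [Fintype Ω] {μ ν x y : Perm Ω}

/-- Points moved by `μ` and fixed by `ν`. -/
def Bk (μ ν : Perm Ω) (p : Ω) : Prop := μ p ≠ p ∧ ν p = p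

/-- Common fixed points. -/
def Ph (μ ν : Perm Ω) (p : Ω) : Prop := μ p = p ∧ ν p = p

/-- Two commuting even involutions. -/
structure U2 (μ ν : Perm Ω) : Prop where
  sz : Sz Ω
  μ2 : μ * μ = 1
  ν2 : ν * ν = 1
  μe : sign μ = 1
  νe : sign ν = 1
  cm : ν * μ = μ * ν

/-- An involution commuting with its conjugates. -/
structure CC (C : Subgroup (Perm Ω)) (x : Perm Ω) : Prop where
  mem : x ∈ C
  sq : x * x = 1
  cm : ∀ y ∈ C, y * x * y⁻¹ * x = x * (y * x * y⁻¹)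

/-- Acting on the block as the identity or as `μ`. -/
def Cen (μ ν x : Perm Ω) : Prop := (∀ p, Bk μ ν p → x p = p) ∨ ∀ p, Bk μ ν p → x p = μ p

theorem U2.symm (h : U2 μ ν) : U2 ν μ := ⟨h.sz, h.ν2, h.μ2, h.νe, h.μe, h.cm.symm⟩

theorem U2.mul (h : U2 μ ν) : U2 μ (μ * ν) :=
  ⟨h.sz, h.μ2, by rw [mul_assoc, ← mul_assoc ν, h.cm, mul_assoc, h.ν2, mul_one, h.μ2], h.μe,
    by simp [h.μe, h.νe], by rw [mul_assoc, h.cm]⟩

theorem CU_symm (μ ν : Perm Ω) : CU ν μ = CU μ ν := inf_comm _ _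

theorem CU_mul (μ ν : Perm Ω) : CU μ (μ * ν) = CU μ ν := by
  ext x
  simp only [mem_CU]
  refine and_congr_right fun _ => and_congr_right fun h => ?_
  rw [← mul_assoc, h, mul_assoc, mul_assoc, mul_right_inj]

theorem bk_inv (hx : x ∈ CU μ ν) (p : Ω) : Bk μ ν (x p) ↔ Bk μ ν p :=
  and_congr (fix_iff hx.1.2 p).not (fix_iff hx.2.2 p)

theorem ph_inv (hx : x ∈ CU μ ν) (p : Ω) : Ph μ ν (x p) ↔ Ph μ ν p :=
  and_congr (fix_iff hx.1.2 p) (fix_iff hx.2.2 p)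

theorem U2.memμ (h : U2 μ ν) : μ ∈ CU μ ν := mem_CU.2 ⟨h.μe, rfl, h.cm.symm⟩

theorem U2.memν (h : U2 μ ν) : ν ∈ CU μ ν := mem_CU.2 ⟨h.νe, h.cm, rfl⟩

theorem U2.bk_ap (h : U2 μ ν) {p : Ω} (hp : Bk μ ν p) : Bk μ ν (μ p) := (bk_inv h.memμ p).2 hp

theorem U2.tr_ν (h : U2 μ ν) {p : Ω} (hp : Bk μ ν p) : tr μ p * ν = ν * tr μ p :=
  AltC.fix_comm hp.2 (h.bk_ap hp).2

theorem U2.tt_mem (h : U2 μ ν) {p q : Ω} (hp : Bk μ ν p) (hq : Bk μ ν q) :
    tr μ p * tr μ q ∈ CU μ ν :=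
  mem_CU.2 ⟨by simp [sign_tr hp.1, sign_tr hq.1],
    (Commute.mul_left (tr_comm h.μ2 p) (tr_comm h.μ2 q)).eq,
    (Commute.mul_left (h.tr_ν hp) (h.tr_ν hq)).eq⟩

theorem U2.sw_mem (h : U2 μ ν) {p q : Ω} (hp : Bk μ ν p) (hq : Bk μ ν q) (hd : Df μ p q) :
    sw μ p q ∈ CU μ ν :=
  mem_CU.2 ⟨sign_sw hd, sw_comm h.μ2 hd,
    (Commute.mul_left (AltC.fix_comm hp.2 hq.2) (AltC.fix_comm (h.bk_ap hp).2 (h.bk_ap hq).2)).eq⟩

theorem U2.to_mem (h : U2 μ ν) {p α β : Ω} (hp : Bk μ ν p) (hn : α ≠ β) (hα : μ α = α)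
    (hβ : μ β = β) (ho : ν * swap α β = swap α β * ν) : tr μ p * swap α β ∈ CU μ ν :=
  mem_CU.2 ⟨by simp [sign_tr hp.1, hn],
    (Commute.mul_left (tr_comm h.μ2 p) (AltC.fix_comm hα hβ)).eq,
    (Commute.mul_left (h.tr_ν hp) ho.symm).eq⟩

theorem comm_of_fix_pp {u : Perm Ω} (h : ∀ p, x p ≠ p → u p = p) : x * u = u * x := by
  ext p
  by_cases hp : x p = p
  · by_cases hq : x (u p) = u p
    · simp [hp, hq]
    · have := u.injective (h _ hq); rw [this] at hq; exact absurd hp hq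
  · rw [mul_apply, mul_apply, h p hp, h _ (x.injective.ne hp)]

theorem ph_mem (he : sign x = 1) (h : ∀ p, ¬ Ph μ ν p → x p = p) : x ∈ CU μ ν :=
  mem_CU.2 ⟨he, comm_of_fix_pp fun p hp => (by_contra fun hn => hp (h p fun a => hn a.1)),
    comm_of_fix_pp fun p hp => (by_contra fun hn => hp (h p fun a => hn a.2))⟩

theorem exists_o_set (T : Set (Perm Ω)) (h2 : ∀ t ∈ T, t * t = 1)
    (hc : ∀ s ∈ T, ∀ t ∈ T, s * t = t * s) (S : Finset Ω) (hS : ∀ t ∈ T, ∀ p ∈ S, t p ∈ S)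
    (hk : S.card % 4 = 2 ∨ S.card % 4 = 3) :
    ∃ α ∈ S, ∃ β ∈ S, α ≠ β ∧ ∀ t ∈ T, t * swap α β = swap α β * t := by
  let A : Subgroup (Perm Ω) :=
    { carrier := {y | y * y = 1 ∧ (∀ t ∈ T, y * t = t * y) ∧
        (∀ k, (∀ t ∈ T, k * t = t * k) → k * y = y * k) ∧ ∀ p ∈ S, y p ∈ S}
      mul_mem' := fun {a b} ha hb => ⟨by
        rw [mul_assoc, ← mul_assoc b, ← hb.2.2.1 a ha.2.1, mul_assoc, hb.1, mul_one, ha.1],
        fun t ht => (Commute.mul_left (ha.2.1 t ht) (hb.2.1 t ht)).eq,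
        fun k hk => (Commute.mul_right (ha.2.2.1 k hk) (hb.2.2.1 k hk)).eq,
        fun p hp => ha.2.2.2 _ (hb.2.2.2 p hp)⟩
      one_mem' := ⟨by simp, by simp, by simp, by simp⟩
      inv_mem' := fun {a} ha => by rwa [inv_eq_of_mul_eq_one_right ha.1] }
  obtain ⟨α, a, β, b, hn, h⟩ := exists_inv_pair A (fun g => ⟨1, Subtype.ext (by
    rw [pow_one, sq]; exact g.2.1)⟩) S (fun x hx => hx.2.2.2) hk
  exact ⟨α, a, β, b, hn, fun t ht => h t ⟨h2 t ht, hc t ht, fun k hk => hk t ht, hS t ht⟩⟩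

theorem card_fix_mod (h2 : μ * μ = 1) (he : sign μ = 1) :
    (Finset.univ.filter fun p => μ p = p).card % 4 = Fintype.card Ω % 4 := by
  have h1 := card_fix_add μ
  rcases sign_invol h2 with h | h
  · omega
  · rw [he] at h; exact absurd h.1 (by decide)

/-- A transposition of fixed points of `μ` commuting with `ν` and two more involutions. -/
theorem U2.exists_o2 (h : U2 μ ν) (hx : x ∈ CU μ ν) (hy : y ∈ CU μ ν) (x2 : x * x = 1)
    (y2 : y * y = 1) (hc : x * y = y * x) : ∃ α β, α ≠ β ∧ μ α = α ∧ μ β = β ∧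
      ν * swap α β = swap α β * ν ∧ x * swap α β = swap α β * x ∧ y * swap α β = swap α β * y := by
  have a1 := hx.2.2
  have a2 := hy.2.2
  obtain ⟨α, a, β, b, hn, H⟩ := exists_o_set {ν, x, y} (by simp [h.ν2, x2, y2])
    (by simp [a1, a2, hc]) (Finset.univ.filter fun p => μ p = p)
    (by simp [fix_iff h.cm, fix_iff hx.1.2, fix_iff hy.1.2])
    (by rw [card_fix_mod h.μ2 h.μe]; exact h.sz.2)
  exact ⟨α, β, hn, by simpa using a, by simpa using b, H _ (by simp), H _ (by simp), H _ (by simp)⟩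

theorem U2.exists_o (h : U2 μ ν) : ∃ α β, α ≠ β ∧ μ α = α ∧ μ β = β ∧
    ν * swap α β = swap α β * ν := by
  obtain ⟨α, β, a, b, c, d, -⟩ := h.exists_o2 (one_mem _) (one_mem _) (by simp) (by simp) rfl
  exact ⟨α, β, a, b, c, d⟩

theorem CC.cm2 {C : Subgroup (Perm Ω)} (h : CC C x) {y k : Perm Ω} (hy : y ∈ C) (hk : k ∈ C) :
    y * x * y⁻¹ * (k * x * k⁻¹) = k * x * k⁻¹ * (y * x * y⁻¹) := by
  have := h.cm (k⁻¹ * y) (mul_mem (inv_mem hk) hy)
  calc _ = k * (k⁻¹ * y * x * (k⁻¹ * y)⁻¹ * x) * k⁻¹ := by group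
    _ = _ := by rw [this]; group

theorem base_comm {u : Perm Ω} (hx : x * u = u * x) (hy : y * u = u * y)
    (bx : ∀ p, x p = p ∨ x p = u p) (b : ∀ p, y p = p ∨ y p = u p) : x * y = y * x := by
  ext p
  have := cm_ap hx p; have := cm_ap hy p; have := bx p; have := b p
  simp only [mul_apply]
  grind

theorem cc_of_base {C : Subgroup (Perm Ω)} {u : Perm Ω} (hu : ∀ y ∈ C, y * u = u * y)
    (hx : x ∈ C) (x2 : x * x = 1) (bx : ∀ p, x p = p ∨ x p = u p) : CC C x :=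
  ⟨hx, x2, fun y hy => base_comm (hu _ (mul_mem (mul_mem hy hx) (inv_mem hy))) (hu x hx)
    (fun p => by
      obtain ⟨q, rfl⟩ := y.surjective p
      simpa [← cm_ap (hu y hy)] using bx q) bx⟩

theorem cc_of_cent {C : Subgroup (Perm Ω)} (hx : x ∈ C) (x2 : x * x = 1)
    (hc : ∀ y ∈ C, y * x = x * y) : CC C x :=
  ⟨hx, x2, fun y hy => by rw [hc y hy, mul_inv_cancel_right]⟩

theorem com_chr {C : Subgroup (Perm Ω)} (χ : Perm Ω → ℤˣ)
    (hχ : ∀ x ∈ C, ∀ y ∈ C, χ (x * y) = χ x * χ y) (hx : x ∈ ⁅C, C⁆) : χ x = 1 := by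
  let f : C →* ℤˣ := MonoidHom.mk' (fun x => χ x) (fun x y => hχ _ x.2 _ y.2)
  have : ⁅C, C⁆ ≤ f.ker.map C.subtype := Subgroup.commutator_le.2 fun a ha b hb =>
    ⟨⁅(⟨a, ha⟩ : C), ⟨b, hb⟩⁆, by
      rw [SetLike.mem_coe, MonoidHom.mem_ker, map_commutatorElement,
        commutatorElement_eq_one_iff_mul_comm, mul_comm], rfl⟩
  obtain ⟨y, hy, rfl⟩ := this hx
  exact hy

theorem com_restr {C : Subgroup (Perm Ω)} (S : Ω → Prop) (hS : ∀ x ∈ C, ∀ p, S (x p) ↔ S p)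
    (hx : x ∈ ⁅C, C⁆) : sign (restr S x) = 1 :=
  com_chr (fun x => sign (restr S x)) (fun x a y b => by
    rw [restr_mul (hS x a) (hS y b), map_mul]) hx

theorem com_le {C : Subgroup (Perm Ω)} (hx : x ∈ ⁅C, C⁆) : x ∈ C :=
  (Subgroup.commutator_le.2 fun _ a _ b =>
    mul_mem (mul_mem (mul_mem a b) (inv_mem a)) (inv_mem b)) hx

/-- A character from an invariant partition of the orbit of `p` into two halves. -/
theorem com_half {C : Subgroup (Perm Ω)} {u : Perm Ω} (u2 : u * u = 1)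
    (hu : ∀ y ∈ C, y * u = u * y) {p q : Ω}
    (h4 : ∀ y ∈ C, y p = p ∨ y p = u p ∨ y p = q ∨ y p = u q)
    (h4' : ∀ y ∈ C, y q = p ∨ y q = u p ∨ y q = q ∨ y q = u q) (hx : x ∈ ⁅C, C⁆) :
    x p = p ∨ x p = u p := by
  classical
  have := com_chr (fun y => if y p = p ∨ y p = u p then 1 else -1) (fun a ha b hb => by
    have a1 := h4 a ha; have a2 := h4' a ha; have a3 := h4 b hb
    have a4 := cm_ap (hu a ha) p; have a5 := cm_ap (hu a ha) q
    have a6 := sq_ap u2 p; have a7 := sq_ap u2 q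
    have a8 : a p = a q → p = q := fun e => a.injective e
    have a9 : a p = a (u q) → p = u q := fun e => a.injective e
    simp only [mul_apply]
    split_ifs <;> first | rfl | grind) hx
  by_contra hn
  rw [if_neg hn] at this
  exact absurd this (by decide)

theorem U2.tt_eq (h : U2 μ ν) {p q : Ω} (hp : Bk μ ν p) (hd : Df μ p q) :
    ∃ θ ∈ CU μ ν, tr μ p * tr μ q = θ * sw μ p q * θ⁻¹ * (sw μ p q)⁻¹ := by
  obtain ⟨α, β, a, b, c, d⟩ := h.exists_o
  refine ⟨_, h.to_mem hp a b c d, ?_⟩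
  have z := sq_ap h.μ2 p
  have z' := sq_ap h.μ2 q
  have e1 : (tr μ p * swap α β) p = μ p := by simp only [mul_apply, tr]; grind
  have e2 : (tr μ p * swap α β) q = q := by simp only [mul_apply, tr]; grind
  rw [conj_sw (h.to_mem hp a b c d).1.2, e1, e2, sw_symm, sw_ap h.μ2 hd.symm, sw_symm,
    mul_inv_cancel_right, tr_tr_comm h.μ2]

theorem U2.tt_com (h : U2 μ ν) {p q : Ω} (hp : Bk μ ν p) (hq : Bk μ ν q) :
    tr μ p * tr μ q ∈ ⁅CU μ ν, CU μ ν⁆ := by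
  by_cases h1 : q = p
  · rw [h1, tr_sq]; exact one_mem _
  by_cases h2 : q = μ p
  · rw [h2, tr_ap h.μ2, tr_sq]; exact one_mem _
  have hd := df_of h.μ2 hp.1 hq.1 h1 h2
  obtain ⟨θ, hθ, e⟩ := h.tt_eq hp hd
  rw [e]
  exact Subgroup.commutator_mem_commutator hθ (h.sw_mem hp hq hd)

theorem U2.restr_base (h : U2 μ ν) (P : Subgroup (Perm Ω))
    (hP : ∀ p q, Bk μ ν p → Bk μ ν q → Df μ p q → tr μ p * tr μ q ∈ P)
    (he : sign (restr (Bk μ ν) μ) = 1) : restr (Bk μ ν) μ ∈ P := by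
  have hi := bk_inv h.memμ
  refine AltC.mem_of_pairs (s := restr (Bk μ ν) μ) P (fun p q hn => ?_) ?_ he (fun _ => .inr rfl)
  · have hp : Bk μ ν p := by_contra fun a => hn.1 (restr_neg μ a).symm
    have hq : Bk μ ν q := by_contra fun a => hn.2.2.2.2.2 (restr_neg μ a).symm
    rw [restr_pos hi hp, restr_pos hi hq] at hn ⊢
    exact hP p q hp hq hn
  · rw [← restr_mul hi hi, h.μ2]; exact restr_eq (fun _ _ => rfl) (fun _ _ => rfl)

theorem U2.tau_sq (h : U2 μ ν) : restr (Bk μ ν) μ * restr (Bk μ ν) μ = 1 := by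
  rw [← restr_mul (bk_inv h.memμ) (bk_inv h.memμ), h.μ2]
  exact restr_eq (fun _ _ => rfl) (fun _ _ => rfl)

theorem U2.tau_comm (h : U2 μ ν) (hx : x ∈ CU μ ν) :
    x * restr (Bk μ ν) μ = restr (Bk μ ν) μ * x := by
  have hi := bk_inv h.memμ
  ext p
  by_cases hp : Bk μ ν p
  · rw [mul_apply, mul_apply, restr_pos hi hp, restr_pos hi ((bk_inv hx p).2 hp), cm_ap hx.1.2]
  · rw [mul_apply, mul_apply, restr_neg μ hp, restr_neg μ ((bk_inv hx p).not.2 hp)]

theorem U2.tau_com (h : U2 μ ν) (he : sign (restr (Bk μ ν) μ) = 1) :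
    restr (Bk μ ν) μ ∈ ⁅CU μ ν, CU μ ν⁆ :=
  h.restr_base _ (fun _ _ hp hq _ => h.tt_com hp hq) he

/-- An involution with commuting class moves a cycle only in a block of two cycles. -/
theorem U2.omega (h : U2 μ ν) (hx : CC (CU μ ν) x) {p : Ω} (hp : Bk μ ν p) (h1 : x p ≠ p)
    (h2 : x p ≠ μ p) {s : Ω} (hs : Bk μ ν s) : s = p ∨ s = μ p ∨ s = x p ∨ s = μ (x p) := by
  by_contra! hn
  obtain ⟨α, β, a, b, c, d⟩ := h.exists_o
  have hq := (bk_inv hx.mem p).2 hp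
  have hd := df_of h.μ2 hq.1 hs.1 hn.2.2.1 hn.2.2.2
  have hθ := h.to_mem hp a b c d
  have hk := h.sw_mem hq hs hd
  have z := sq_ap h.μ2
  have e1 := hx.cm _ hk
  have e2 := hx.cm2 hk hθ
  have e3 : (sw μ (x p) s * x * (sw μ (x p) s)⁻¹) p = s := by
    rw [sw_inv hd, mul_apply, mul_apply, sw_off h1.symm (by have := z p; grind) hn.1.symm
      (by have := z s; grind), sw_left hd]
  have e4 := (mul_mem (mul_mem hk hx.mem) (inv_mem hk)).1.2
  generalize sw μ (x p) s * x * (sw μ (x p) s)⁻¹ = k at e1 e2 e3 e4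
  have e5 : k * (x * (tr μ p * swap α β * x * (tr μ p * swap α β)⁻¹)) =
      x * (tr μ p * swap α β * x * (tr μ p * swap α β)⁻¹) * k := by
    rw [← mul_assoc, e1, mul_assoc, e2, ← mul_assoc]
  have e6 := DFunLike.congr_fun e5 p
  have x2 := sq_ap hx.sq
  have xs := (bk_inv hx.mem s).2 hs
  have xμ := cm_ap hx.mem.1.2
  have t1 : ∀ i, Bk μ ν i → swap α β i = i := fun i hi => by have := hi.1; grind
  simp only [mul_apply, mul_inv_rev, swap_inv, tr_inv, e3] at e6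
  have f1 : tr μ p p = μ p := swap_apply_left _ _
  have f2 : tr μ p s = s := swap_apply_of_ne_of_ne hn.1 hn.2.1
  have f3 : tr μ p (μ (x p)) = μ (x p) := swap_apply_of_ne_of_ne
    (by have := z p; have := z (x p); grind) (μ.injective.ne h1)
  have f4 : tr μ p (x s) = x s := swap_apply_of_ne_of_ne (by have := x2 s; grind)
    (by have := x2 s; have := xμ p; grind)
  rw [f1, f2, t1 _ (h.bk_ap hp), t1 _ hs, xμ p, t1 _ (h.bk_ap hq), t1 _ xs, f3, f4, xμ, x2, x2,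
    cm_ap e4, e3] at e6
  exact hs.1 e6

/-- An involution with commuting class on the common fixed points. -/
theorem cc_ph (hx : CC (CU μ ν) x) {α : Ω} (hα : Ph μ ν α) (h1 : x α ≠ α) :
    (∀ γ, Ph μ ν γ → γ = α ∨ γ = x α) ∨ ∃ γ, Ph μ ν γ ∧ N4 α (x α) γ (x γ) ∧
      ∀ δ, Ph μ ν δ → δ = α ∨ δ = x α ∨ δ = γ ∨ δ = x γ := by
  have hβ := (ph_inv hx.mem α).2 hα
  have x2 := sq_ap hx.sq
  have hm : ∀ γ, Ph μ ν γ → γ ≠ α → γ ≠ x α → swap α γ * swap α (x α) ∈ CU μ ν :=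
    fun γ hγ a _ => ph_mem (by simp [a.symm, h1.symm]) fun p hp => by
      simp only [mul_apply]; grind
  have hk : ∀ γ, Ph μ ν γ → γ ≠ α → γ ≠ x α → x γ ≠ γ := fun γ hγ a b e => by
    have := DFunLike.congr_fun (hx.cm _ (hm γ hγ a b)) α
    simp only [mul_apply, mul_inv_rev, swap_inv] at this
    have := x2 α
    grind
  by_cases hn : ∀ γ, Ph μ ν γ → γ = α ∨ γ = x α
  · exact .inl hn
  push Not at hn
  obtain ⟨γ, hγ, a, b⟩ := hn
  have c := hk γ hγ a b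
  have := x2 α
  have := x2 γ
  refine .inr ⟨γ, hγ, by grind, fun δ hδ => ?_⟩
  by_contra! hn
  have d := hk δ hδ hn.1 hn.2.1
  have := x2 δ
  have := DFunLike.congr_fun (hx.cm2 (hm γ hγ a b) (hm δ hδ hn.1 hn.2.1)) (x α)
  simp only [mul_apply, mul_inv_rev, swap_inv] at this
  grind

/-- The number of common fixed points is `2` or `3` mod `4`. -/
def Ev (μ ν : Perm Ω) : Prop :=
  ∀ S : Finset Ω, (∀ p, p ∈ S ↔ Ph μ ν p) → S.card % 4 = 2 ∨ S.card % 4 = 3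

theorem Ev.two (h : Ev μ ν) : ∃ α β, α ≠ β ∧ Ph μ ν α ∧ Ph μ ν β := by
  classical
  have := h (Finset.univ.filter (Ph μ ν)) (by simp)
  obtain ⟨α, a, β, b, hn⟩ := Finset.one_lt_card.1
    (show 1 < (Finset.univ.filter (Ph μ ν)).card by omega)
  exact ⟨α, β, hn, by simpa using a, by simpa using b⟩

theorem Ev.cc (h : Ev μ ν) (hx : CC (CU μ ν) x) (he : sign (restr (Ph μ ν) x) = 1) {α : Ω}
    (hα : Ph μ ν α) : x α = α := by
  by_contra h1
  have hβ := (ph_inv hx.mem α).2 hα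
  have x2 := sq_ap hx.sq α
  rcases cc_ph hx hα h1 with H | ⟨γ, hγ, hn, H⟩
  · rw [restr_eq (y := swap α (x α)) (fun p hp => by have := H p hp; grind)
      (fun p hp => by grind), sign_swap (Ne.symm h1)] at he
    exact absurd he (by decide)
  · have hδ := (ph_inv hx.mem γ).2 hγ
    have := h {α, x α, γ, x γ} (fun p => by have := H p; grind)
    rw [Finset.card_eq_four.2 ⟨_, _, _, _, hn.1, hn.2.1, hn.2.2.1, hn.2.2.2.1, hn.2.2.2.2.1,
      hn.2.2.2.2.2, rfl⟩] at this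
    omega

theorem U2.ccb (h : U2 μ ν) (hx : CC (CU μ ν) x) (hc : x ∈ ⁅CU μ ν, CU μ ν⁆) {p : Ω}
    (hp : Bk μ ν p) : x p = p ∨ x p = μ p := by
  by_contra! hn
  have H := fun s => h.omega hx hp hn.1 hn.2 (s := s)
  have := com_half (C := CU μ ν) h.μ2 (fun y hy => hy.1.2) (p := p) (q := x p)
    (fun y hy => H _ ((bk_inv hy p).2 hp))
    (fun y hy => H _ ((bk_inv hy _).2 ((bk_inv hx.mem p).2 hp))) hc
  grind

theorem U2.cen (h : U2 μ ν) (hc : ∀ y ∈ CU μ ν, y * x = x * y) (hx : x ∈ CU μ ν) : Cen μ ν x := by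
  obtain ⟨α, β, a, b, c, d⟩ := h.exists_o
  have z := sq_ap h.μ2
  have h1 : ∀ p, Bk μ ν p → x p = p ∨ x p = μ p := fun p hp => by
    have e := DFunLike.congr_fun (hc _ (h.to_mem hp a b c d)) p
    have := cm_ap hx.1.2 p
    have := ((bk_inv hx p).2 hp).1
    have := hp.1
    simp only [mul_apply, tr] at e
    grind
  by_contra hn
  simp only [Cen, not_or, not_forall] at hn
  obtain ⟨⟨q, hq, e1⟩, p, hp, e2⟩ := hn
  have a1 := (h1 q hq).resolve_left e1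
  have a2 := (h1 p hp).resolve_right e2
  have hd : Df μ p q := df_of h.μ2 hp.1 hq.1 (by grind) (by
    have := cm_ap hx.1.2 p; have := z p; have := hp.1; grind)
  have e := DFunLike.congr_fun (hc _ (h.sw_mem hp hq hd)) p
  rw [mul_apply, mul_apply, a2, sw_left hd, a1] at e
  exact hq.1 e.symm

theorem swap_cube {a b c : Ω} (h1 : a ≠ b) (h2 : b ≠ c) : (swap b c * swap a b) ^ 3 = 1 := by
  ext i
  simp only [pow_succ, pow_zero, mul_apply, one_apply]
  by_cases e1 : i = a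
  · grind
  by_cases e2 : i = b
  · grind
  by_cases e3 : i = c
  · grind
  simp only [swap_apply_of_ne_of_ne e1 e2, swap_apply_of_ne_of_ne e2 e3]

/-- A normal subgroup acting non-centrally on a block contains the even base group of the block. -/
theorem U2.nc (h : U2 μ ν) (he : Ev μ ν) (N : Subgroup (Perm Ω)) (hN : N ≤ CU μ ν)
    (hn : ∀ y ∈ CU μ ν, ∀ x ∈ N, y * x * y⁻¹ ∈ N) (hx : x ∈ N) (hc : ¬ Cen μ ν x) {p q : Ω}
    (hp : Bk μ ν p) (hq : Bk μ ν q) : tr μ p * tr μ q ∈ N := by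
  have z := sq_ap h.μ2
  have xc := hN hx
  have hk : ∀ y ∈ CU μ ν, x * y * x⁻¹ * y⁻¹ ∈ N := fun y hy => by
    have := mul_mem hx (hn y hy _ (inv_mem hx)); rwa [← mul_assoc, ← mul_assoc] at this
  obtain ⟨p0, q0, h0, h0', hd, hm⟩ : ∃ p0 q0, Bk μ ν p0 ∧ Bk μ ν q0 ∧ Df μ p0 q0 ∧
      tr μ p0 * tr μ q0 ∈ N := by
    by_cases H : ∀ s, Bk μ ν s → x s = s ∨ x s = μ s
    · simp only [Cen, not_or, not_forall] at hc
      obtain ⟨⟨t, ht, e1⟩, s, hs, e2⟩ := hc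
      have a1 := (H t ht).resolve_left e1
      have a2 := (H s hs).resolve_right e2
      have hd : Df μ s t := df_of h.μ2 hs.1 ht.1 (by grind) (by
        have := cm_ap xc.1.2 s; have := z s; have := hs.1; grind)
      refine ⟨s, t, hs, ht, hd, ?_⟩
      have := hk _ (h.sw_mem hs ht hd)
      rwa [conj_sw xc.1.2, a1, a2, sw_ap h.μ2 hd, mul_inv_cancel_right] at this
    push Not at H
    obtain ⟨s, hs, a1, a2⟩ := H
    have ht := (bk_inv xc s).2 hs
    obtain ⟨γ, δ, hγδ, hγ, hδ, e⟩ : ∃ γ δ, γ ≠ δ ∧ Ph μ ν γ ∧ Ph μ ν δ ∧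
        (swap (x γ) (x δ) * swap γ δ) ^ 3 = 1 := by
      by_cases H : ∀ γ, Ph μ ν γ → x γ = γ
      · obtain ⟨γ, δ, a, b, c⟩ := he.two
        exact ⟨γ, δ, a, b, c, by rw [H γ b, H δ c, swap_mul_self, one_pow]⟩
      push Not at H
      obtain ⟨γ, a, b⟩ := H
      refine ⟨γ, x γ, b.symm, a, (ph_inv xc γ).2 a, ?_⟩
      exact swap_cube b.symm (x.injective.ne b).symm
    refine ⟨x s, s, ht, hs, (df_of h.μ2 hs.1 ht.1 a1 a2).symm, ?_⟩
    have := pow_mem (hk _ (h.to_mem hs hγδ hγ.1 hδ.1 (AltC.fix_comm hγ.2 hδ.2).symm)) 3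
    have c1 : ∀ {i a b}, μ a = a → μ b = b → Commute (tr μ i) (swap a b) := fun {i a b} ha hb => by
      by_cases hi : μ i = i
      · rw [tr, hi, swap_self]; exact Commute.one_left _
      · have := z i
        exact swap_comm_of (.inl ⟨by simp only [tr]; grind, by simp only [tr]; grind⟩)
    have g1 := ((ph_inv xc γ).2 hγ).1
    have g2 := ((ph_inv xc δ).2 hδ).1
    have e1 : x * (tr μ s * swap γ δ) * x⁻¹ * (tr μ s * swap γ δ)⁻¹ =
        tr μ (x s) * tr μ s * (swap (x γ) (x δ) * swap γ δ) := by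
      rw [← conj_mul, conj_tr xc.1.2, conj_swap, mul_inv_rev, swap_inv, tr_inv, mul_assoc,
        mul_assoc, ← mul_assoc (swap _ _), ← ((c1 g1 g2).mul_right (c1 hγ.1 hδ.1)).eq]
    rw [e1, (((c1 g1 g2).mul_right (c1 hγ.1 hδ.1)).mul_left
      ((c1 g1 g2).mul_right (c1 hγ.1 hδ.1))).mul_pow, e, mul_one, pow_succ, sq] at this
    rwa [show tr μ (x s) * tr μ s * (tr μ (x s) * tr μ s) = 1 by
      rw [mul_assoc, ← mul_assoc (tr μ s), ← tr_tr_comm h.μ2, mul_assoc, tr_sq, mul_one, tr_sq],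
      one_mul] at this
  have H : ∀ s, Bk μ ν s → tr μ p0 * tr μ s ∈ N := fun s hs => by
    by_cases a1 : s = p0
    · rw [a1, tr_sq]; exact one_mem _
    by_cases a2 : s = μ p0
    · rw [a2, tr_ap h.μ2, tr_sq]; exact one_mem _
    by_cases a3 : s = q0
    · rwa [a3]
    by_cases a4 : s = μ q0
    · rwa [a4, tr_ap h.μ2]
    have hd' := df_of h.μ2 h0'.1 hs.1 a3 a4
    have := hn _ (h.sw_mem h0' hs hd') _ hm
    have := z s
    rwa [← conj_mul, conj_tr (sw_comm h.μ2 hd'), conj_tr (sw_comm h.μ2 hd'), sw_left hd',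
      sw_off (by grind) (by grind) (by grind) (by grind)] at *
  have := mul_mem (H p hp) (H q hq)
  rwa [tr_tr_comm h.μ2 p0 p, mul_assoc, ← mul_assoc (tr μ p0), tr_sq, one_mul] at this

theorem gen3 (S : Ω → Prop) (P : Subgroup (Perm Ω))
    (hP : ∀ j : Perm Ω, j ^ 3 = 1 → sign j = 1 → (∀ p, ¬ S p → j p = p) → j ∈ P)
    (he : sign x = 1) (hx : ∀ p, ¬ S p → x p = p) : x ∈ P := by
  classical
  have hi : ∀ p, S (x p) ↔ S p := fun p => by
    by_cases hp : S p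
    · refine ⟨fun _ => hp, fun _ => by_contra fun hq => ?_⟩
      have := x.injective (hx _ hq); rw [this] at hq; exact hq hp
    · rw [hx p hp]
  have e : ofSubtype (x.subtypePerm hi) = x :=
    ofSubtype_subtypePerm hi fun p hp => by_contra fun hn => hp (hx p hn)
  have h1 : x.subtypePerm hi ∈ alternatingGroup {p // S p} := by
    rw [mem_alternatingGroup, ← sign_ofSubtype, e, he]
  rw [← closure_three_cycles_eq_alternating] at h1
  have : Subgroup.closure {σ : Perm {p // S p} | σ.IsThreeCycle} ≤ P.comap ofSubtype :=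
    (Subgroup.closure_le _).2 fun σ hσ => hP _
      (by rw [← map_pow, ← hσ.orderOf, pow_orderOf_eq_one, map_one])
      (by rw [sign_ofSubtype, hσ.sign]) fun p hp => ofSubtype_apply_of_not_mem _ hp
  exact e ▸ this h1

theorem cube_eq {S : Finset Ω} (hS : S.card ≤ 3) {j k : Perm Ω} (j3 : j ^ 3 = 1) (k3 : k ^ 3 = 1)
    (j1 : j ≠ 1) (k1 : k ≠ 1) (hj : ∀ p, p ∉ S → j p = p) (hk : ∀ p, p ∉ S → k p = p) :
    k = j ∨ k = j⁻¹ := by
  have H : ∀ j : Perm Ω, j ^ 3 = 1 → j ≠ 1 → (∀ p, p ∉ S → j p = p) → ∃ a, j a ≠ a ∧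
      j (j a) ≠ a ∧ j (j a) ≠ j a ∧ j (j (j a)) = a ∧ ∀ p ∈ S, p = a ∨ p = j a ∨ p = j (j a) :=
    fun j j3 j1 hj => by
      obtain ⟨a, ha⟩ := AltC.ne_one_ap j1
      have e : j (j (j a)) = a := by
        simpa [pow_succ] using DFunLike.congr_fun j3 a
      have h1 : j (j a) ≠ j a := j.injective.ne ha
      have h2 : j (j a) ≠ a := by grind
      have : ({a, j a, j (j a)} : Finset Ω) = S := Finset.eq_of_subset_of_card_le (by
        intro p hp
        by_contra hn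
        have := hj p hn
        simp only [Finset.mem_insert, Finset.mem_singleton] at hp
        grind) (by rw [Finset.card_eq_three.2 ⟨_, _, _, ha.symm, h2.symm, h1.symm, rfl⟩]; exact hS)
      exact ⟨a, ha, h2, h1, e, fun p hp => by simpa [← this] using hp⟩
  obtain ⟨a, a1, a2, a3, a4, a5⟩ := H j j3 j1 hj
  obtain ⟨b, b1, b2, b3, b4, b5⟩ := H k k3 k1 hk
  have s1 : ∀ p, j p ≠ p → p ∈ S := fun p hp => by_contra fun hn => hp (hj p hn)
  have s2 : ∀ p, k p ≠ p → p ∈ S := fun p hp => by_contra fun hn => hp (hk p hn)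
  have c1 := a5 _ (s2 _ b1)
  have c2 := a5 _ (s2 _ b3)
  have c3 := a5 (k (k b)) (s2 _ (by grind))
  by_cases e : k a = j a
  · left; ext p
    by_cases hp : p ∈ S
    · have := a5 p hp; grind
    · rw [hj p hp, hk p hp]
  · right
    refine eq_inv_of_mul_eq_one_right ?_
    ext p
    by_cases hp : p ∈ S
    · have := a5 p hp; simp only [mul_apply, one_apply]; grind
    · rw [mul_apply, hk p hp, hj p hp, one_apply]

end Cfsg.Lib.AltZ
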