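import Cfsg.Agent.AltC.SplA
import Cfsg.Agent.AltC.PCh
import Cfsg.Agent.HN.Carm

/-! The centraliser of the four-group splits: existence of a pre-chart. -/

set_option autoImplicit false

namespace Cfsg.Lib.AltC

open Equiv Equiv.Perm Cfsg.Lib.Known Cfsg.Lib.HN
open scoped commutatorElement

namespace Spl

variable {G : Type*} [Group G] {a v : G} {Y : Subgroup G}

theorem sqV (a2 : a * a = 1) (v2 : v * v = 1) (av : a * v = v * a) {x : G} (hx : InV a v x) :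
    x * x = 1 := by
  rcases hx with rfl | rfl | rfl | rfl
  · exact one_mul 1
  · exact a2
  · exact v2
  · calc a * v * (a * v) = a * (v * a) * v := by group
      _ = a * a * (v * v) := by rw [← av]; group
      _ = 1 := by rw [a2, v2, one_mul]

theorem divV (a2 : a * a = 1) (v2 : v * v = 1) (av : a * v = v * a) {x y : G} (hx : InV a v x)
    (hy : InV a v y) : InV a v (x * y⁻¹) := by
  have aa : ∀ z, a * (a * z) = z := fun z => by rw [← mul_assoc, a2, one_mul]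
  have vv : ∀ z, v * (v * z) = z := fun z => by rw [← mul_assoc, v2, one_mul]
  have va : ∀ z, v * (a * z) = a * (v * z) := fun z => by rw [← mul_assoc, ← av, mul_assoc]
  rw [inv_eq_of_mul_eq_one_right (sqV a2 v2 av hy)]
  rcases hx with rfl | rfl | rfl | rfl <;> rcases hy with rfl | rfl | rfl | rfl <;>
    simp [InV, mul_assoc, aa, vv, va, a2, v2, ← av]

theorem centV (hY : ∀ c, c ∈ Y ↔ c * a = a * c ∧ c * v = v * c) {x c : G} (hx : InV a v x)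
    (hc : c ∈ Y) : c * x = x * c := by
  obtain ⟨h1, h2⟩ := (hY c).1 hc
  rcases hx with rfl | rfl | rfl | rfl
  · simp
  · exact h1
  · exact h2
  · rw [← mul_assoc, h1, mul_assoc, h2, mul_assoc]

theorem memV (av : a * v = v * a) (hY : ∀ c, c ∈ Y ↔ c * a = a * c ∧ c * v = v * c) {x : G}
    (hx : InV a v x) : x ∈ Y := by
  have ha : a ∈ Y := (hY a).2 ⟨rfl, av⟩
  have hv : v ∈ Y := (hY v).2 ⟨av.symm, rfl⟩
  rcases hx with rfl | rfl | rfl | rfl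
  exacts [one_mem _, ha, hv, mul_mem ha hv]

theorem conj_mem (hY : ∀ c, c ∈ Y ↔ c * a = a * c ∧ c * v = v * c) {g : G}
    (ha : InV a v (g⁻¹ * a * g)) (hv : InV a v (g⁻¹ * v * g)) {c : G} (hc : c ∈ Y) :
    g * c * g⁻¹ ∈ Y := by
  have K : ∀ w, InV a v (g⁻¹ * w * g) → g * c * g⁻¹ * w = w * (g * c * g⁻¹) := fun w hw => by
    calc _ = g * (c * (g⁻¹ * w * g)) * g⁻¹ := by group
      _ = _ := by rw [centV hY hw hc]; group
  exact (hY _).2 ⟨K a ha, K v hv⟩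

theorem conjV (a2 : a * a = 1) {u x : G} (ua : u * a = a * u) (uv : u * v * u⁻¹ = a * v)
    (hx : InV a v x) : InV a v (u * x * u⁻¹) := by
  have e : u * a * u⁻¹ = a := by rw [ua]; group
  rcases hx with rfl | rfl | rfl | rfl
  · exact .inl (by group)
  · exact .inr (.inl e)
  · exact .inr (.inr (.inr uv))
  · exact .inr (.inr (.inl (by rw [← conj_mul, e, uv, ← mul_assoc, a2, one_mul])))

variable {R : Type*} [Fintype R] [DecidableEq R]

/-- The splitting. -/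
theorem exists_sec (a2 : a * a = 1) (v2 : v * v = 1) (av : a * v = v * a)
    (hY : ∀ c, c ∈ Y ↔ c * a = a * c ∧ c * v = v * c) (π : Y →* alternatingGroup R)
    (πs : Function.Surjective π) (πk : ∀ y : Y, π y = 1 ↔ InV a v y) {s : alternatingGroup R}
    (s2 : s * s = 1) (s1 : s ≠ 1) (hC : ∀ y : Y, π y * s = s * π y → π y * π y = 1 → y * y = 1) :
    ∃ ν : alternatingGroup R →* Y, ∀ τ, π (ν τ) = τ := by
  have t2 : s.1 * s.1 = 1 := congrArg Subtype.val s2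
  obtain ⟨p, q, hn⟩ := Bld.two_cycles t2 (fun e => s1 (Subtype.ext e)) (mem_alternatingGroup.1 s.2)
  have hn' := n4_iff.1 hn
  have D : ∀ y : Y, Dbl (π y).1 → y * y = 1 := fun y hy => by
    obtain ⟨k, hk, e⟩ := hy.conj (t := swap p (s.1 p) * swap q (s.1 q)) ⟨_, _, _, _, hn', rfl⟩
    obtain ⟨k', hk'⟩ := πs ⟨k, mem_alternatingGroup.2 hk⟩
    have e' : (π (k' * y * k'⁻¹)).1 = swap p (s.1 p) * swap q (s.1 q) := by
      rw [map_mul, map_mul, map_inv, hk', ← e]; rfl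
    have := hC (k' * y * k'⁻¹) (Subtype.ext (by
      rw [Subgroup.coe_mul, Subgroup.coe_mul _ s, e', mul_assoc, tau_comm t2, ← mul_assoc,
        tau_comm t2, mul_assoc])) (Subtype.ext (by rw [Subgroup.coe_mul, e']; exact dbl_sq hn'))
    rwa [conj_mul, conj_eq_one_iff] at this
  have hab : p ≠ q := hn'.2.1
  have H : ∀ i : R, ∃ x : Y, ∀ (h1 : i ≠ p) (h2 : i ≠ q), π x = ac3 i p q h1 h2 ∧ x ^ 3 = 1 :=
    fun i => by
      by_cases h : i ≠ p ∧ i ≠ q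
      · obtain ⟨y, hy⟩ := πs (ac3 i p q h.1 h.2)
        have e3 : ac3 i p q h.1 h.2 ^ 3 = 1 := Subtype.ext (c3_pow_three h.1 h.2 hab)
        refine ⟨y ^ 4, fun _ _ => ⟨by rw [map_pow, hy, pow_succ, e3, one_mul], ?_⟩⟩
        have e2 : y ^ 3 * y ^ 3 = 1 := Subtype.ext (sqV a2 v2 av ((πk (y ^ 3)).1 (by
          rw [map_pow, hy, e3])))
        calc (y ^ 4) ^ 3 = (y ^ 3 * y ^ 3) ^ 2 := by group
          _ = 1 := by rw [e2, one_pow]
      · exact ⟨1, fun h1 h2 => absurd ⟨h1, h2⟩ h⟩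
  choose x hx using H
  obtain ⟨ν, hν⟩ := exists_hom_carm p q hab x (fun i h1 h2 => (hx i h1 h2).2)
    fun i j h1 h2 h3 h4 h5 => by
      rw [sq]
      refine D _ ⟨i, p, j, q, ⟨h1, h5, h2, h3.symm, hab, h4⟩, ?_⟩
      rw [map_mul, (hx i h1 h2).1, (hx j h3 h4).1, Subgroup.coe_mul, coe_ac3, coe_ac3]
      ext y
      simp only [c3, Perm.mul_apply, swap_apply_def]
      grind
  refine ⟨ν, fun τ => DFunLike.congr_fun (hom_ext_ac3 (ν := π.comp ν) (ν' := MonoidHom.id _) hab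
    fun i h1 h2 => ?_) τ⟩
  rw [MonoidHom.comp_apply, hν, (hx i h1 h2).1]; rfl

/-- The complement is normalised by every element normalising `Y`. -/
theorem exists_act (a2 : a * a = 1) (v2 : v * v = 1) (av : a * v = v * a)
    (hY : ∀ c, c ∈ Y ↔ c * a = a * c ∧ c * v = v * c) {π : Y →* alternatingGroup R}
    (πk : ∀ y : Y, π y = 1 ↔ InV a v y) (h6 : 6 ≤ Fintype.card R)
    {ν : alternatingGroup R →* Y} (hν : ∀ τ, π (ν τ) = τ) {g : G}
    (hg : ∀ c ∈ Y, g * c * g⁻¹ ∈ Y) :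
    ∃ φ : MulAut (alternatingGroup R), ∀ τ, g * ν τ * g⁻¹ = ν (φ τ) := by
  let μ : alternatingGroup R →* Y := MonoidHom.mk' (fun τ => ⟨_, hg _ (ν τ).2⟩) fun x y =>
    Subtype.ext (by simp)
  obtain ⟨p, q, hab⟩ := Fintype.one_lt_card_iff.1 (by omega : 1 < Fintype.card R)
  have E : μ = ν.comp (π.comp μ) := hom_ext_ac3 hab fun i h1 h2 => by
    have e3 : ac3 i p q h1 h2 ^ 3 = 1 := Subtype.ext (c3_pow_three h1 h2 hab)
    generalize ac3 i p q h1 h2 = τ at e3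
    have hx : InV a v (μ τ * (ν (π (μ τ)))⁻¹ : Y) := (πk _).1 (by simp [hν])
    have c : Commute (μ τ * (ν (π (μ τ)))⁻¹) (ν (π (μ τ))) :=
      Subtype.ext (centV hY hx (ν _).2).symm
    have x2 : (μ τ * (ν (π (μ τ)))⁻¹) * (μ τ * (ν (π (μ τ)))⁻¹) = 1 :=
      Subtype.ext (sqV a2 v2 av hx)
    have x3 := c.mul_pow 3
    rw [inv_mul_cancel_right, ← map_pow, ← map_pow ν, ← map_pow, ← map_pow, e3, map_one, map_one,
      map_one, mul_one, pow_three', x2, one_mul] at x3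
    exact mul_inv_eq_one.1 x3.symm
  have E' : ∀ τ, g * ν τ * g⁻¹ = ν (π (μ τ)) := fun τ =>
    congrArg Subtype.val (DFunLike.congr_fun E τ)
  refine ⟨MulEquiv.ofBijective (π.comp μ) (Finite.injective_iff_bijective.1
    fun x y (e : π (μ x) = π (μ y)) => ?_), E'⟩
  have := (E' x).trans (e ▸ (E' y).symm)
  rw [← hν x, ← hν y, Subtype.ext (mul_left_cancel (mul_right_cancel this))]

theorem pch_of_alt {z' θ ρ0 : G} (a2 : a * a = 1) (a1 : a ≠ 1) (v2 : v * v = 1)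
    (av : a * v = v * a) (v1 : v ≠ 1) (va : v ≠ a) (hR : Sz R)
    (hY : ∀ c, c ∈ Y ↔ c * a = a * c ∧ c * v = v * c) (π : Y →* alternatingGroup R)
    (πs : Function.Surjective π) (πk : ∀ y : Y, π y = 1 ↔ InV a v y)
    (hz' : z' ∈ Y) (z2 : z' * z' = 1) (zV : ¬ InV a v z') (zc : z' ∈ ⁅Y, Y⁆)
    (hC : ∀ y : Y, π y * π ⟨z', hz'⟩ = π ⟨z', hz'⟩ * π y → (π y * π y = 1 → y * y = 1) ∧
      (Fintype.card R = 6 → InV a v (θ * y * θ⁻¹ * (y : G)⁻¹)))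
    (θ2 : θ * θ = 1) (θa : θ * a = a * θ) (θv : θ * v * θ⁻¹ = a * v)
    (F3 : ∀ u : G, u * a = a * u → u * v * u⁻¹ = a * v →
      ¬ ∀ c ∈ Y, InV a v (u * c * u⁻¹ * c⁻¹))
    (ρa : ρ0 * a * ρ0⁻¹ = v) (ρv : ρ0 * v * ρ0⁻¹ = a * v) :
    ∃ (ψ : Perm R →* G) (ρ : G) (ζ : Perm R), PCh a v ψ ∧ ρ * a * ρ⁻¹ = v ∧ ρ * v * ρ⁻¹ = a * v ∧
      (∀ y, sign y = 1 → ρ * ψ y = ψ y * ρ) ∧ sign ζ = 1 ∧ ψ ζ = z' := by
  have s2 : π ⟨z', hz'⟩ * π ⟨z', hz'⟩ = 1 := by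
    rw [← map_mul, ← map_one π]; congr 1; exact Subtype.ext z2
  have s1 : π ⟨z', hz'⟩ ≠ 1 := fun e => zV ((πk _).1 e)
  obtain ⟨ν, hν⟩ := exists_sec a2 v2 av hY π πs πk s2 s1 fun y h => (hC y h).1
  have dec : ∀ c : Y, InV a v (c * (ν (π c))⁻¹ : Y) := fun c => (πk _).1 (by simp [hν])
  have θi : θ⁻¹ = θ := inv_eq_of_mul_eq_one_right θ2
  have hθ : ∀ c ∈ Y, θ * c * θ⁻¹ ∈ Y := fun c hc => conj_mem hY
    (.inr (.inl (by rw [mul_assoc, ← θa]; group)))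
    (.inr (.inr (.inr (by rw [← θv, θi])))) hc
  have ρav : ρ0 * (a * v) * ρ0⁻¹ = a := by
    rw [← conj_mul, ρa, ρv, ← mul_assoc, ← av, mul_assoc, v2, mul_one]
  have hρ : ∀ c ∈ Y, ρ0 * c * ρ0⁻¹ ∈ Y := fun c hc => conj_mem hY
    (.inr (.inr (.inr (by nth_rewrite 1 [← ρav]; group))))
    (.inr (.inl (by rw [← ρa]; group))) hc
  obtain ⟨φ, hφ⟩ := exists_act a2 v2 av hY πk hR.1 hν hθ
  obtain ⟨σ, hσ⟩ := aut_of_cent hR φ s2 s1 fun h6 τ hτ => by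
    have h1 := (hC (ν τ) (by rw [hν, hτ])).2 h6
    rw [hφ] at h1
    have h2 := (πk (ν (φ τ) * (ν τ)⁻¹)).2 h1
    rwa [map_mul, map_inv, hν, hν, mul_inv_eq_one] at h2
  let n : Perm R → G := fun y => if h : sign y = 1 then ν ⟨y, mem_alternatingGroup.2 h⟩ else 1
  have n0 : ∀ τ : alternatingGroup R, n τ.1 = ν τ := fun τ => dif_pos (mem_alternatingGroup.1 τ.2)
  have nY : ∀ y, n y ∈ Y := fun y => by
    by_cases h : sign y = 1
    · exact (n0 ⟨y, mem_alternatingGroup.2 h⟩) ▸ (ν _).2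
    · simp only [n, dif_neg h, one_mem]
  have nm : ∀ x y, sign x = 1 → sign y = 1 → n (x * y) = n x * n y := fun x y hx hy =>
    (n0 (⟨x, mem_alternatingGroup.2 hx⟩ * ⟨y, mem_alternatingGroup.2 hy⟩)).trans (by
      rw [map_mul, Subgroup.coe_mul, ← n0, ← n0])
  have nθ : ∀ y, sign y = 1 → θ * n y = n (σ * y * σ⁻¹) * θ := fun y hy => by
    rw [n0 ⟨y, mem_alternatingGroup.2 hy⟩, ← hσ ⟨y, mem_alternatingGroup.2 hy⟩, n0, ← hφ]; group
  have so : sign σ = -1 := (sign_cases σ).resolve_left fun he => by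
    let k : alternatingGroup R := ⟨σ, mem_alternatingGroup.2 he⟩
    obtain ⟨ka, kv⟩ := (hY _).1 (ν k⁻¹).2
    have ua : θ * ν k⁻¹ * a = a * (θ * ν k⁻¹) := by rw [mul_assoc, ka, ← mul_assoc, θa, mul_assoc]
    have uv : θ * ν k⁻¹ * v * (θ * ν k⁻¹)⁻¹ = a * v := by rw [mul_assoc θ, kv, ← θv]; group
    refine F3 _ ua uv fun c hc => ?_
    have e : θ * ν k⁻¹ * ν (π ⟨c, hc⟩) * (θ * ν k⁻¹)⁻¹ = ν (π ⟨c, hc⟩) := by
      have e1 : φ (k⁻¹ * π ⟨c, hc⟩ * k) = π ⟨c, hc⟩ := Subtype.ext (by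
        rw [hσ]; simp [k, mul_assoc])
      nth_rewrite 2 [← e1]
      rw [← hφ]; simp [mul_assoc]
    have hx : InV a v (c * (ν (π ⟨c, hc⟩) : G)⁻¹) := dec ⟨c, hc⟩
    have h1 := conjV a2 ua uv hx
    convert divV a2 v2 av h1 hx using 1
    calc _ = θ * ν k⁻¹ * (c * (ν (π ⟨c, hc⟩) : G)⁻¹) * (θ * ν k⁻¹)⁻¹ *
        (θ * ν k⁻¹ * ν (π ⟨c, hc⟩) * (θ * ν k⁻¹)⁻¹) * c⁻¹ := by group
      _ = _ := by rw [e]; group
  have σ2 : σ * σ = 1 := eq_one_of_commute_alt (by have := hR.1; simp; omega) fun k hk => by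
    have e : φ (φ ⟨k, hk⟩) = ⟨k, hk⟩ := by
      rw [← hν (φ (φ _)), ← hν ⟨k, hk⟩]
      congr 1
      refine Subtype.ext ?_
      rw [← hφ, ← hφ, hν, θi]
      calc _ = θ * θ * ν ⟨k, hk⟩ * (θ * θ) := by group
        _ = _ := by rw [θ2]; group
    have := congrArg Subtype.val e
    rw [hσ, hσ] at this
    calc _ = σ * (σ * k * σ⁻¹) * σ⁻¹ * (σ * σ) := by group
      _ = _ := by rw [this]
  have ne : ∀ y : Perm R, sign y = -1 → ¬ sign y = 1 := fun y h => by rw [h]; decide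
  let ψ : Perm R →* G := MonoidHom.mk' (fun y => if sign y = 1 then n y else n (y * σ) * θ)
    fun x y => by
      rcases sign_cases x with hx | hx <;> rcases sign_cases y with hy | hy
      · rw [if_pos hx, if_pos hy, if_pos (by simp [hx, hy]), nm x y hx hy]
      · rw [if_pos hx, if_neg (ne y hy), if_neg (ne _ (by simp [hx, hy])), mul_assoc x,
          nm x _ hx (by simp [hy, so]), mul_assoc]
      · rw [if_neg (ne x hx), if_pos hy, if_neg (ne _ (by simp [hx, hy])), mul_assoc _ θ, nθ y hy,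
          ← mul_assoc, ← nm _ _ (by simp [hx, so]) (by simp [hy, so])]
        congr 2
        calc _ = x * (σ * σ) * y * σ⁻¹ * (σ * σ) := by nth_rewrite 1 [σ2]; group
          _ = _ := by nth_rewrite 2 [σ2]; group
      · rw [if_neg (ne x hx), if_neg (ne y hy), if_pos (by simp [hx, hy])]
        calc _ = n (x * σ * (σ * (y * σ) * σ⁻¹)) * (θ * θ) := by
              rw [θ2, mul_one]; congr 1
              calc _ = x * (σ * σ) * y := by rw [σ2, mul_one]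
                _ = _ := by group
          _ = _ := by
              rw [nm _ _ (by simp [hx, so]) (by simp [hy, so]), mul_assoc _ _ (θ * θ),
                ← mul_assoc _ θ θ, ← nθ _ (by simp [hy, so])]
              group
  have ψe : ∀ y, sign y = 1 → ψ y = n y := fun y h => if_pos h
  have ψo : ∀ y, sign y = -1 → ψ y = n (y * σ) * θ := fun y h => if_neg (ne y h)
  have ψo' : ∀ y, sign y = -1 → ψ y * v = a * v * ψ y := fun y h => by
    rw [ψo y h, ← mul_assoc, ← centV hY inV_av (nY _), ← θv]; group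
  obtain ⟨χ, hχ⟩ := exists_act a2 v2 av hY πk hR.1 hν hρ
  obtain ⟨κ, hκ⟩ := aut_sq hR.1 χ
  let l : alternatingGroup R := ⟨κ * κ, mem_alternatingGroup.2 (by simp)⟩
  obtain ⟨la, lv⟩ := (hY _).1 (ν l⁻¹).2
  have r4 : ∀ w, ρ0 ^ 4 * ν l⁻¹ * w * (ρ0 ^ 4 * ν l⁻¹)⁻¹ =
      ρ0 * (ρ0 * (ρ0 * (ρ0 * (ν l⁻¹ * w * (ν l⁻¹ : G)⁻¹) * ρ0⁻¹) * ρ0⁻¹) * ρ0⁻¹) * ρ0⁻¹ :=
    fun w => by simp only [pow_succ, pow_zero]; group
  have zr : z' ∈ (Y.subtype.comp ν).range := by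
    refine (Subgroup.commutator_le (H₃ := (Y.subtype.comp ν).range)).2
      (fun c hc d hd => ⟨⁅π ⟨c, hc⟩, π ⟨d, hd⟩⁆, ?_⟩) zc
    have hx : InV a v (c * (ν (π ⟨c, hc⟩) : G)⁻¹) := dec ⟨c, hc⟩
    have hy : InV a v (d * (ν (π ⟨d, hd⟩) : G)⁻¹) := dec ⟨d, hd⟩
    have K : ∀ c ∈ Y, ∀ c' ∈ Y, ∀ d ∈ Y, InV a v (c * c'⁻¹) → ⁅c', d⁆ = ⁅c, d⁆ :=
      fun c hc c' hc' d hd h => by
        have := centV hY h (mul_mem (mul_mem hc' hd) (inv_mem hc'))
        calc ⁅c', d⁆ = c' * d * c'⁻¹ * (c * c'⁻¹) * (c * c'⁻¹)⁻¹ * d⁻¹ := by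
              rw [commutatorElement_def]; group
          _ = _ := by rw [this, commutatorElement_def]; group
    rw [map_commutatorElement]
    change ⁅(ν (π ⟨c, hc⟩) : G), (ν (π ⟨d, hd⟩) : G)⁆ = _
    rw [K c hc _ (ν _).2 _ (ν _).2 hx, ← commutatorElement_inv, K d hd _ (ν _).2 c hc hy,
      commutatorElement_inv]
  obtain ⟨ζ, hζ⟩ := zr
  refine ⟨ψ, ρ0 ^ 4 * ν l⁻¹, ζ.1, ⟨a2, a1, v2, av, v1, va, fun y => ?_, fun y h => ?_, ψo',
    fun x y hx e => ?_, fun c ca cv => ?_⟩, ?_, ?_, fun y hy => ?_, mem_alternatingGroup.1 ζ.2, ?_⟩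
  · rcases sign_cases y with h | h
    · rw [ψe y h, ((hY _).1 (nY y)).1]
    · rw [ψo y h, mul_assoc, θa, ← mul_assoc, ((hY _).1 (nY _)).1, mul_assoc]
  · rw [ψe y h, ((hY _).1 (nY y)).2]
  · have e' : ψ y = x := by
      rw [← eq_inv_of_mul_eq_one_right e |>.symm, inv_eq_of_mul_eq_one_right (sqV a2 v2 av hx)]
    rcases sign_cases y with h | h
    · rw [ψe y h, n0 ⟨y, mem_alternatingGroup.2 h⟩] at e'
      have := (πk _).2 (e' ▸ hx)
      rw [hν] at this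
      exact congrArg Subtype.val this
    · have := ψo' y h
      rw [e', ← centV hY hx (memV av hY inV_v), mul_left_inj] at this
      exact absurd (by simpa using this) a1
  · have hc := (hY c).2 ⟨ca, cv⟩
    refine ⟨_, (π ⟨c, hc⟩).1, dec ⟨c, hc⟩, mem_alternatingGroup.1 (π _).2, ?_⟩
    rw [ψe _ (mem_alternatingGroup.1 (π _).2), n0]; simp
  · rw [r4, la, mul_inv_cancel_right, ρa, ρv, ρav, ρa]
  · rw [r4, lv, mul_inv_cancel_right, ρv, ρav, ρa, ρv]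
  · rw [ψe y hy, n0 ⟨y, mem_alternatingGroup.2 hy⟩, ← mul_inv_eq_iff_eq_mul, r4,
      ← Subgroup.coe_inv, ← Subgroup.coe_mul, ← Subgroup.coe_mul, ← map_inv, ← map_mul, ← map_mul,
      hχ, hχ, hχ, hχ]
    congr 2
    refine Subtype.ext ?_
    rw [hκ, hκ]
    simp [l, mul_assoc]
  · rw [ψe _ (mem_alternatingGroup.1 ζ.2), n0]; exact hζ

end Spl

open Spl in
/-- The centraliser of the four-group splits, and the outer element gives a pre-chart. -/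
theorem exists_pch {G X : Type*} [Group G] [Finite G] [Group X] {R : Type*} [Fintype R]
    [DecidableEq R] {a v z' θ ρ0 : G} (a2 : a * a = 1) (a1 : a ≠ 1) (v2 : v * v = 1)
    (av : a * v = v * a) (v1 : v ≠ 1) (va : v ≠ a) (h6 : 6 ≤ Fintype.card R)
    (hm : Fintype.card R % 4 = 2 ∨ Fintype.card R % 4 = 3)
    (Y : Subgroup G) (hY : ∀ c, c ∈ Y ↔ c * a = a * c ∧ c * v = v * c) (π : Y →* X)
    (πs : Function.Surjective π) (πk : ∀ y : Y, π y = 1 ↔ InV a v y) (X0 : Subgroup X) [X0.Normal]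
    (e : Nonempty (X0 ≃* alternatingGroup R) ∨ (Fintype.card R = 6 ∧
      ∃ (F : Type) (_ : Field F) (_ : Fintype F), Fintype.card F = 7 ∧
        Nonempty (X0 ≃* Matrix.ProjectiveSpecialLinearGroup (Fin 2) F)))
    (hz' : z' ∈ Y) (z2 : z' * z' = 1) (zV : ¬ InV a v z') (zc : z' ∈ ⁅Y, Y⁆)
    (hC : ∀ y : Y, π y * π ⟨z', hz'⟩ = π ⟨z', hz'⟩ * π y → π y ∈ X0 ∧
      (π y * π y = 1 → y * y = 1) ∧
      (Fintype.card R = 6 → InV a v (θ * y * θ⁻¹ * (y : G)⁻¹)))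
    (θ2 : θ * θ = 1) (θa : θ * a = a * θ) (θv : θ * v * θ⁻¹ = a * v)
    (F3 : ∀ u : G, u * a = a * u → u * v * u⁻¹ = a * v →
      ¬ ∀ c ∈ Y, InV a v (u * c * u⁻¹ * c⁻¹))
    (ρa : ρ0 * a * ρ0⁻¹ = v) (ρv : ρ0 * v * ρ0⁻¹ = a * v) :
    ∃ (ψ : Perm R →* G) (ρ : G) (ζ : Perm R), PCh a v ψ ∧ ρ * a * ρ⁻¹ = v ∧ ρ * v * ρ⁻¹ = a * v ∧
      (∀ y, sign y = 1 → ρ * ψ y = ψ y * ρ) ∧ sign ζ = 1 ∧ ψ ζ = z' := by
  have hR : Sz R := ⟨h6, hm⟩
  have s2 : π ⟨z', hz'⟩ * π ⟨z', hz'⟩ = 1 := by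
    rw [← map_mul, ← map_one π]; congr 1; exact Subtype.ext z2
  have s1 : π ⟨z', hz'⟩ ≠ 1 := fun e => zV ((πk _).1 e)
  let s : X0 := ⟨_, (hC _ rfl).1⟩
  have t2 : s * s = 1 := Subtype.ext s2
  have t1 : s ≠ 1 := fun e => s1 (congrArg Subtype.val e)
  have cj : ∀ φ : MulAut X0, IsConj s (φ s) := fun φ => by
    rcases e with ⟨⟨e⟩⟩ | ⟨-, F, _, _, hF, ⟨e⟩⟩
    · simpa using e.symm.toMonoidHom.map_isConj (isConj_aut hR (MulAut.congr e φ) (s := e s)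
        (by rw [← map_mul, t2, map_one]) (by simpa using t1))
    · exact (l27 hF e).1 _ _ t2 t1 (by rw [← map_mul, t2, map_one]) (by simpa using t1)
  have top : ∀ x, x ∈ X0 := fun x => by
    obtain ⟨k, hk⟩ := isConj_iff.1 (cj (MulAut.conjNormal x))
    have hk' : k.1 * π ⟨z', hz'⟩ * k.1⁻¹ = x * π ⟨z', hz'⟩ * x⁻¹ := congrArg Subtype.val hk
    obtain ⟨y, hy⟩ := πs (k.1⁻¹ * x)
    have := (hC y (by
      rw [hy]
      calc _ = k.1⁻¹ * (x * π ⟨z', hz'⟩ * x⁻¹) * x := by group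
        _ = _ := by rw [← hk']; group)).1
    rw [hy] at this
    exact (mul_mem_cancel_left (inv_mem k.2)).1 this
  let i : X ≃* X0 := ((MulEquiv.subgroupCongr ((Subgroup.eq_top_iff' X0).2 top)).trans
    Subgroup.topEquiv).symm
  rcases e with ⟨⟨e⟩⟩ | ⟨h6', F, _, _, hF, ⟨e⟩⟩
  · let j := i.trans e
    refine pch_of_alt a2 a1 v2 av v1 va hR hY (j.toMonoidHom.comp π) (j.surjective.comp πs)
      (fun y => (map_eq_one_iff j j.injective).trans (πk y)) hz' z2 zV zc (fun y hy => ?_) θ2 θa θv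
      F3 ρa ρv
    obtain ⟨-, h1, h2⟩ := hC y (j.injective (by rw [map_mul, map_mul]; exact hy))
    exact ⟨fun h => h1 (j.injective (by rw [map_mul, map_one]; exact h)), h2⟩
  · exfalso
    have θi : θ⁻¹ = θ := inv_eq_of_mul_eq_one_right θ2
    have hθ : ∀ c ∈ Y, θ * c * θ⁻¹ ∈ Y := fun c hc => conj_mem hY
      (.inr (.inl (by rw [mul_assoc, ← θa]; group)))
      (.inr (.inr (.inr (by rw [← θv, θi])))) hc
    let μ : Y →* Y := MonoidHom.mk' (fun c => ⟨_, hθ _ c.2⟩) fun x y => Subtype.ext (by simp)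
    let σ : X →* X := π.liftOfSurjective πs ⟨π.comp μ, fun c hc =>
      (πk _).2 (conjV a2 θa θv ((πk c).1 hc))⟩
    have hσ : ∀ c, σ (π c) = π (μ c) := fun c => π.liftOfRightInverse_comp_apply _ _ _ c
    have σ2 : ∀ x, σ (σ x) = x := fun x => by
      obtain ⟨c, rfl⟩ := πs x
      rw [hσ, hσ]
      congr 1
      refine Subtype.ext ?_
      change θ * (θ * c * θ⁻¹) * θ⁻¹ = c
      rw [θi]
      calc _ = θ * θ * c * (θ * θ) := by group
        _ = _ := by rw [θ2]; group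
    obtain ⟨g, hg⟩ := (l27 hF (i.trans e)).2 ⟨⟨σ, σ, σ2, σ2⟩, map_mul σ⟩ _ (MulEquiv.ext σ2) s2 s1
      fun x hx => by
        obtain ⟨c, rfl⟩ := πs x
        have := (πk (μ c * c⁻¹)).2 ((hC c hx).2.2 h6')
        rw [map_mul, map_inv, mul_inv_eq_one] at this
        exact (hσ c).trans this
    obtain ⟨k, rfl⟩ := πs g
    obtain ⟨ka, kv⟩ := (hY _).1 (k⁻¹).2
    refine F3 (θ * k⁻¹) (by rw [mul_assoc, ka, ← mul_assoc, θa, mul_assoc])
      (by rw [mul_assoc θ, kv, ← θv]; group) fun c hc => ?_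
    have h1 : π (μ (k⁻¹ * ⟨c, hc⟩ * k)) = _ := (hσ _).symm.trans (hg _)
    convert (πk (μ (k⁻¹ * ⟨c, hc⟩ * k) * ⟨c, hc⟩⁻¹)).1 (by
      rw [map_mul, h1]; simp [mul_assoc]) using 1
    simp [μ, mul_assoc]

end Cfsg.Lib.AltC
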