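import Cfsg.Agent.AltC.Zm
import Cfsg.Agent.Known.PresAlt

/-! The stabiliser of two cycles in the centraliser of an involution. -/

set_option autoImplicit false
set_option linter.unusedSectionVars false

namespace Cfsg.Lib.AltZ.Stp

open Equiv Equiv.Perm
open Cfsg.Lib.AltC (N4 Off sq_ap cm_ap sign_cases InV)

variable {Ω : Type*} [DecidableEq Ω] [Fintype Ω] {ζ k : Perm Ω} {p q : Ω}

/-- The elements of the centraliser fixing `p` and `q`. -/
def C1 (ζ : Perm Ω) (p q : Ω) : Subgroup (Perm Ω) where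
  carrier := {k | k ∈ HU ζ ∧ k p = p ∧ k q = q}
  mul_mem' := fun {x y} hx hy => ⟨mul_mem hx.1 hy.1, by rw [mul_apply, hy.2.1, hx.2.1],
    by rw [mul_apply, hy.2.2, hx.2.2]⟩
  one_mem' := ⟨one_mem _, rfl, rfl⟩
  inv_mem' := fun {x} hx => ⟨inv_mem hx.1, by rw [inv_eq_iff_eq, hx.2.1],
    by rw [inv_eq_iff_eq, hx.2.2]⟩

theorem mem_C1 : k ∈ C1 ζ p q ↔ k ∈ HU ζ ∧ k p = p ∧ k q = q := Iff.rfl

theorem C1.fix (hk : k ∈ C1 ζ p q) {i : Ω} (hi : ¬ Off p (ζ p) q (ζ q) i) : k i = i := by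
  have h1 := cm_ap hk.1.2 p; have h2 := cm_ap hk.1.2 q
  have := hk.2.1; have := hk.2.2
  grind

theorem C1.off (hk : k ∈ C1 ζ p q) (i : Ω) : Off p (ζ p) q (ζ q) (k i) ↔ Off p (ζ p) q (ζ q) i := by
  refine ⟨fun h => by_contra fun h' => ?_, fun h => by_contra fun h' => ?_⟩
  · rw [C1.fix hk h'] at h; exact h' h
  · rw [k.injective (C1.fix hk h')] at h'; exact h' h

theorem C1.tr (hk : k ∈ C1 ζ p q) : k * tr ζ p * k⁻¹ = tr ζ p ∧ k * tr ζ q * k⁻¹ = tr ζ q := by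
  rw [conj_tr hk.1.2, conj_tr hk.1.2, hk.2.1, hk.2.2]; exact ⟨rfl, rfl⟩

theorem C1.a (hk : k ∈ C1 ζ p q) : k * (AltZ.tr ζ p * AltZ.tr ζ q) = AltZ.tr ζ p * AltZ.tr ζ q * k := by
  rw [← mul_inv_eq_iff_eq_mul, ← conj_mul, (C1.tr hk).1, (C1.tr hk).2]

theorem C1.v (hk : k ∈ C1 ζ p q) : k * sw ζ p q = sw ζ p q * k := by
  rw [← mul_inv_eq_iff_eq_mul, conj_sw hk.1.2, hk.2.1, hk.2.2]

theorem C1.eq_one (hpq : Df ζ p q) (hk : k ∈ C1 ζ p q)
    (h : InV (AltZ.tr ζ p * AltZ.tr ζ q) (sw ζ p q) k) : k = 1 := by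
  have h1 := hk.2.1
  rcases h with e | e | e | e
  · exact e
  all_goals
    rw [e] at h1; simp only [mul_apply, AltZ.tr, sw] at h1; grind

theorem inV_mem (h2 : ζ * ζ = 1) (hpq : Df ζ p q) {x : Perm Ω}
    (h : InV (tr ζ p * tr ζ q) (sw ζ p q) x) : x ∈ HU ζ := by
  have ha := tr_tr_mem h2 hpq.1.symm hpq.2.2.2.2.2.symm
  rcases h with rfl | rfl | rfl | rfl
  exacts [one_mem _, ha, sw_mem h2 hpq, mul_mem ha (sw_mem h2 hpq)]

/-- An element commuting with `tr p * tr q` normalises the four-group. -/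
theorem of_a (h2 : ζ * ζ = 1) (hpq : Df ζ p q) (hk : k ∈ HU ζ)
    (h : k * (tr ζ p * tr ζ q) = tr ζ p * tr ζ q * k) :
    ∃ x, InV (tr ζ p * tr ζ q) (sw ζ p q) x ∧ (k * x) p = p ∧ ((k * x) q = q ∨ (k * x) q = ζ q) := by
  have a1 := cm_ap h p; have a2 := cm_ap h q; have a3 := cm_ap hk.2 p; have a4 := cm_ap hk.2 q
  have a5 := hpq.map hk.2
  have b1 := sq_ap h2 p; have b2 := sq_ap h2 q
  simp only [mul_apply, tr] at a1 a2
  have c : k p = p ∨ k p = ζ p ∨ k p = q ∨ k p = ζ q := by grind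
  have d : k q = p ∨ k q = ζ p ∨ k q = q ∨ k q = ζ q := by grind
  rcases c with c | c | c | c
  · exact ⟨1, .inl rfl, by simp only [mul_one]; grind⟩
  · exact ⟨_, .inr (.inl rfl), by simp only [mul_apply, tr]; grind⟩
  · by_cases e : k q = p
    · exact ⟨_, .inr (.inr (.inl rfl)), by simp only [mul_apply, sw]; grind⟩
    · exact ⟨_, .inr (.inr (.inr rfl)), by simp only [mul_apply, sw, tr]; grind⟩
  · by_cases e : k q = p
    · exact ⟨_, .inr (.inr (.inl rfl)), by simp only [mul_apply, sw]; grind⟩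
    · exact ⟨_, .inr (.inr (.inr rfl)), by simp only [mul_apply, sw, tr]; grind⟩

theorem conj_v (h2 : ζ * ζ = 1) (hpq : Df ζ p q) (hk : k ∈ HU ζ)
    (h : k * (tr ζ p * tr ζ q) = tr ζ p * tr ζ q * k) :
    k * sw ζ p q * k⁻¹ = sw ζ p q ∨ k * sw ζ p q * k⁻¹ = tr ζ p * tr ζ q * sw ζ p q := by
  have a1 := cm_ap h p; have a2 := cm_ap h q; have a3 := cm_ap hk.2 p; have a4 := cm_ap hk.2 q
  have a5 := hpq.map hk.2
  have b1 := sq_ap h2 p; have b2 := sq_ap h2 q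
  simp only [mul_apply, tr] at a1 a2
  have c : k p = p ∨ k p = ζ p ∨ k p = q ∨ k p = ζ q := by grind
  have d : k q = p ∨ k q = ζ p ∨ k q = q ∨ k q = ζ q := by grind
  rw [conj_sw hk.2]
  by_cases e : k q = sw ζ p q (k p)
  · left; ext i; simp only [mul_apply, sw] at e ⊢; grind
  · right; ext i; simp only [mul_apply, sw, tr] at e ⊢; grind

/-- An element commuting with `sw p q` acts on the four points inside the four-group. -/
theorem of_v (h2 : ζ * ζ = 1) (hpq : Df ζ p q) (hk : k ∈ HU ζ) (h : k * sw ζ p q = sw ζ p q * k) :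
    ∃ x k', InV (tr ζ p * tr ζ q) (sw ζ p q) x ∧ k' ∈ C1 ζ p q ∧ k = x * k' := by
  have a1 := cm_ap h p; have a3 := cm_ap hk.2 p; have a4 := cm_ap hk.2 q
  have a5 := hpq.map hk.2
  have b1 := sq_ap h2 p; have b2 := sq_ap h2 q
  simp only [mul_apply, sw] at a1
  have c : k p = p ∨ k p = ζ p ∨ k p = q ∨ k p = ζ q := by grind
  have K : ∀ x, InV (tr ζ p * tr ζ q) (sw ζ p q) x → x p = k p → x q = k q →
      ∃ x k', InV (tr ζ p * tr ζ q) (sw ζ p q) x ∧ k' ∈ C1 ζ p q ∧ k = x * k' :=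
    fun x hx e1 e2 => ⟨x, x⁻¹ * k, hx, ⟨mul_mem (inv_mem (inV_mem h2 hpq hx)) hk,
      by rw [mul_apply, inv_eq_iff_eq, e1], by rw [mul_apply, inv_eq_iff_eq, e2]⟩, by group⟩
  rcases c with c | c | c | c
  · exact K 1 (.inl rfl) c.symm (by simp only [one_apply]; grind)
  · exact K _ (.inr (.inl rfl)) (by simp only [mul_apply, tr]; grind)
      (by simp only [mul_apply, tr]; grind)
  · exact K _ (.inr (.inr (.inl rfl))) (by simp only [mul_apply, sw]; grind)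
      (by simp only [mul_apply, sw]; grind)
  · exact K _ (.inr (.inr (.inr rfl))) (by simp only [mul_apply, sw, tr]; grind)
      (by simp only [mul_apply, sw, tr]; grind)

theorem z'_ap (h2 : ζ * ζ = 1) (hpq : Df ζ p q) (i : Ω) :
    (tr ζ p * tr ζ q * ζ) i = if Off p (ζ p) q (ζ q) i then ζ i else i := by
  have b1 := sq_ap h2 p; have b2 := sq_ap h2 q; have b3 := sq_ap h2 i
  simp only [mul_apply, tr]; grind

theorem z'_C1 (hB : Big ζ) (hpq : Df ζ p q) : tr ζ p * tr ζ q * ζ ∈ C1 ζ p q :=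
  ⟨mul_mem (tr_tr_mem hB.sq hpq.1.symm hpq.2.2.2.2.2.symm) hB.mem,
    by rw [z'_ap hB.sq hpq]; simp, by rw [z'_ap hB.sq hpq]; simp⟩

theorem z'_mem (hB : Big ζ) (hpq : Df ζ p q) (P : Subgroup (Perm Ω))
    (hP : ∀ r s, Df ζ p r → Df ζ q r → Df ζ p s → Df ζ q s → Df ζ r s → tr ζ r * tr ζ s ∈ P) :
    tr ζ p * tr ζ q * ζ ∈ P := by
  have e := z'_ap hB.sq hpq
  have b := sq_ap hB.sq
  refine AltC.mem_of_pairs (s := tr ζ p * tr ζ q * ζ) P (fun x y hn => ?_) ?_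
    (z'_C1 hB hpq).1.1 fun _ => .inr rfl
  · have e1 := e x; have e2 := e y
    have b1 := b x; have b2 := b y; have b3 := b p; have b4 := b q
    have o1 : Off p (ζ p) q (ζ q) x := by grind
    have o2 : Off p (ζ p) q (ζ q) y := by grind
    rw [if_pos o1] at e1; rw [if_pos o2] at e2
    rw [e1, e2] at hn ⊢
    exact hP x y (by grind) (by grind) (by grind) (by grind) hn
  · ext i
    rw [mul_apply, e, e]
    have b1 := b i; have b3 := b p; have b4 := b q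
    simp only [one_apply]; grind

theorem df_off (h2 : ζ * ζ = 1) (hpq : Df ζ p q) {r : Ω} (hr : ζ r ≠ r)
    (ho : Off p (ζ p) q (ζ q) r) : Df ζ p r ∧ Df ζ q r :=
  ⟨df_of h2 hpq.1.symm hr ho.1 ho.2.1, df_of h2 hpq.2.2.2.2.2.symm hr ho.2.2.1 ho.2.2.2⟩

theorem tr_swap_C1 (h2 : ζ * ζ = 1) {r α β : Ω} (h1 : Df ζ p r) (h3 : Df ζ q r) (hα : ζ α = α)
    (hβ : ζ β = β) (hn : α ≠ β) : tr ζ r * swap α β ∈ C1 ζ p q :=
  ⟨tr_swap_mem h2 h1.2.2.2.2.2.symm hα hβ hn, by simp only [mul_apply, tr]; grind,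
    by simp only [mul_apply, tr]; grind⟩

theorem tr_swap_comm (h2 : ζ * ζ = 1) (r : Ω) {α β : Ω} (hα : ζ α = α) (hβ : ζ β = β) :
    tr ζ r * swap α β = swap α β * tr ζ r := by
  have := sq_ap h2 r
  exact swap_comm_of (.inl (by simp only [tr]; grind))

theorem sw_C1 (h2 : ζ * ζ = 1) {r s : Ω} (h1 : Df ζ p r) (h3 : Df ζ q r) (h4 : Df ζ p s)
    (h5 : Df ζ q s) (h6 : Df ζ r s) : sw ζ r s ∈ C1 ζ p q :=
  ⟨sw_mem h2 h6, sw_off (by grind) (by grind) (by grind) (by grind),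
    sw_off (by grind) (by grind) (by grind) (by grind)⟩

/-- Generators of the stabiliser. -/
theorem C1.le (hB : Big ζ) (hpq : Df ζ p q) (P : Subgroup (Perm Ω))
    (h1 : ∀ r s, Df ζ p r → Df ζ q r → Df ζ p s → Df ζ q s → Df ζ r s → sw ζ r s ∈ P)
    (h3 : ∀ r α β, Df ζ p r → Df ζ q r → ζ α = α → ζ β = β → α ≠ β →
      AltZ.tr ζ r * swap α β ∈ P) : C1 ζ p q ≤ P := by
  obtain ⟨α, β, hn, hα, hβ⟩ := hB.fix2
  have b := sq_ap hB.sq
  suffices H : ∀ (n : ℕ) (k : Perm Ω), k ∈ C1 ζ p q →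
      (Finset.univ.filter fun i => ζ i ≠ i ∧ k i ≠ i).card = n → k ∈ P from
    fun k hk => H _ k hk rfl
  intro n
  induction n using Nat.strong_induction_on with
  | _ n ih =>
  intro k hk hc
  by_cases h0 : ∀ i, ζ i ≠ i → k i = i
  · obtain ⟨r, r0, r1⟩ := hB.fresh p q q
    obtain ⟨d1, d2⟩ := df_off hB.sq hpq r0 (by grind)
    refine Known.altOn_le_of_c3 (P := {i | ζ i = i}) hn (fun i hi i1 i2 => ?_) ⟨hk.1.1, h0⟩
    have e : Known.c3 i α β = AltZ.tr ζ r * swap i β * (AltZ.tr ζ r * swap i α) := by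
      rw [tr_swap_comm hB.sq r hi hβ, mul_assoc, ← mul_assoc (AltZ.tr ζ r), tr_sq, one_mul]; rfl
    rw [e]
    exact mul_mem (h3 r i β d1 d2 hi hβ i2) (h3 r i α d1 d2 hi hα i1)
  push Not at h0
  obtain ⟨i, i0, i1⟩ := h0
  have o : Off p (ζ p) q (ζ q) i := by_contra fun h => i1 (C1.fix hk h)
  obtain ⟨d1, d2⟩ := df_off hB.sq hpq i0 o
  have K : ∀ x, x ∈ P → x ∈ C1 ζ p q → x (k i) = i → (∀ j, ζ j ≠ j → k j = j → x j = j) → k ∈ P :=
    fun x xP xC e1 e2 => by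
      refine (mul_mem_cancel_left xP).1 (ih _ (hc ▸ Finset.card_lt_card ⟨fun j hj => ?_,
        fun hs => ?_⟩) _ (mul_mem xC hk) rfl)
      · simp only [Finset.mem_filter, Finset.mem_univ, true_and, mul_apply] at hj ⊢
        exact ⟨hj.1, fun e => hj.2 (by rw [e, e2 j hj.1 e])⟩
      · have := hs (Finset.mem_filter.2 ⟨Finset.mem_univ i, i0, i1⟩)
        exact (Finset.mem_filter.1 this).2.2 e1
  have c1 := cm_ap hk.1.2 i
  have c2 := b i
  by_cases e : k i = ζ i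
  · refine K _ (h3 i α β d1 d2 hα hβ hn) (tr_swap_C1 hB.sq d1 d2 hα hβ hn) ?_ fun j j0 j1 => ?_
    · simp only [mul_apply, AltZ.tr]; grind
    · simp only [mul_apply, AltZ.tr]; grind
  · have k0 : ζ (k i) ≠ k i := fun h => i0 ((fix_iff hk.1.2 i).1 h)
    obtain ⟨d3, d4⟩ := df_off hB.sq hpq k0 ((C1.off hk i).2 o)
    have d5 : Df ζ i (k i) := df_of hB.sq i0 k0 i1 e
    refine K _ (h1 i (k i) d1 d2 d3 d4 d5) (sw_C1 hB.sq d1 d2 d3 d4 d5) (sw_right d5)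
      fun j j0 j1 => ?_
    have c3 := cm_ap hk.1.2 (k i)
    have c4 := k.injective.eq_iff (a := k i) (b := i)
    have c5 := ζ.injective.eq_iff (a := k (k i)) (b := k i)
    have c6 := ζ.injective.eq_iff (a := k i) (b := i)
    exact sw_off (by grind) (by grind) (by grind) (by grind)

theorem cA (h2 : ζ * ζ = 1) (hk : k * ζ = ζ * k) {s α β : Ω} (hs : ζ s ≠ s) (hα : ζ α = α)
    (hβ : ζ β = β) (hn : α ≠ β) (h : k * (tr ζ s * swap α β) = tr ζ s * swap α β * k) :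
    (k s = s ∨ k s = ζ s) ∧ (k α = α ∨ k α = β) := by
  have a1 := cm_ap h s; have a2 := cm_ap h α
  have := cm_ap hk s; have := fix_iff hk s; have := sq_ap h2 s; have := fix_iff hk α
  have := k.injective.ne hn
  simp only [mul_apply, tr] at a1 a2
  constructor <;> grind

theorem cC (hk : k * ζ = ζ * k) {r s : Ω} (d : Df ζ r s) (h : k * sw ζ r s = sw ζ r s * k) :
    k r = r → k s = s := fun e => by
  have := cm_ap h r
  rwa [sw_left d, e, sw_left d] at this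

theorem tr_fix {l : Perm Ω} (l1 : ∀ i, ζ i ≠ i → l i = i) {i : Ω} (h1 : ζ i ≠ i)
    (h3 : Off p (ζ p) q (ζ q) i) : (tr ζ q * l) i = i := by
  rw [mul_apply, l1 i h1, tr, swap_apply_of_ne_of_ne h3.2.2.1 h3.2.2.2]

theorem tr_four (h2 : ζ * ζ = 1) (hpq : Df ζ p q) (hk : k * ζ = ζ * k) (kp : k p = p)
    (kq : k q = ζ q) {l : Perm Ω} (l1 : ∀ i, ζ i ≠ i → l i = i) (l2 : ∀ i, ζ i = i → l i = k i)
    {i : Ω} (hi : ζ i = i ∨ ¬ Off p (ζ p) q (ζ q) i) : (tr ζ q * l) i = k i := by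
  have := cm_ap hk p; have := cm_ap hk q; have := sq_ap h2 p; have := sq_ap h2 q
  have := l1 i; have := l2 i; have := fix_iff hk i
  clear l1 l2
  simp only [mul_apply, tr]; grind

theorem off_ap (h2 : ζ * ζ = 1) {i : Ω} (h : Off p (ζ p) q (ζ q) i) :
    Off p (ζ p) q (ζ q) (ζ i) := by
  have := sq_ap h2 p; have := sq_ap h2 q; have := sq_ap h2 i
  grind

/-- The centraliser of the stabiliser. -/
theorem cent_C1 (hB : Big ζ) (hpq : Df ζ p q) (hk : k ∈ HU ζ) (kp : k p = p) (kq : k q = ζ q)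
    (h : ∀ x ∈ C1 ζ p q, k * x = x * k) : ∃ α β, ζ α = α ∧ ζ β = β ∧ α ≠ β ∧
      (k = tr ζ q * swap α β ∨ k = tr ζ q * swap α β * (tr ζ p * tr ζ q * ζ)) := by
  obtain ⟨α0, β0, hn0, hα0, hβ0⟩ := hB.fix2
  obtain ⟨r, r0, r1, r2, r3, r4, -⟩ := hB.fresh p q q
  obtain ⟨d1, d2⟩ := df_off hB.sq hpq r0 ⟨r1, r2, r3, r4⟩
  have A : ∀ s, Df ζ p s → Df ζ q s → k s = s ∨ k s = ζ s := fun s s1 s2 =>
    (cA hB.sq hk.2 s1.2.2.2.2.2.symm hα0 hβ0 hn0 (h _ (tr_swap_C1 hB.sq s1 s2 hα0 hβ0 hn0))).1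
  have B : ∀ α β, ζ α = α → ζ β = β → α ≠ β → k α = α ∨ k α = β := fun α β hα hβ hn =>
    (cA hB.sq hk.2 r0 hα hβ hn (h _ (tr_swap_C1 hB.sq d1 d2 hα hβ hn))).2
  have C : ∀ s, Df ζ p s → Df ζ q s → (k s = s ↔ k r = r) := fun s s1 s2 => by
    by_cases e1 : s = r
    · rw [e1]
    by_cases e2 : s = ζ r
    · rw [e2, cm_ap hk.2, ζ.injective.eq_iff]
    have d : Df ζ r s := df_of hB.sq r0 s1.2.2.2.2.2.symm e1 e2
    exact ⟨cC hk.2 d.symm (h _ (sw_C1 hB.sq s1 s2 d1 d2 d.symm)),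
      cC hk.2 d (h _ (sw_C1 hB.sq d1 d2 s1 s2 d))⟩
  have E : ∀ l : Perm Ω, (∀ i, ζ i ≠ i → l i = i) → (∀ i, ζ i = i → l i = k i) →
      k = tr ζ q * l ∨ k = tr ζ q * l * (tr ζ p * tr ζ q * ζ) := fun l l1 l2 => by
    have T := fun i => tr_four (i := i) hB.sq hpq hk.2 kp kq l1 l2
    by_cases e : k r = r
    · left; ext i
      by_cases hi : ζ i = i ∨ ¬ Off p (ζ p) q (ζ q) i
      · rw [T i hi]
      · rw [not_or, not_not] at hi
        obtain ⟨s1, s2⟩ := df_off hB.sq hpq hi.1 hi.2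
        rw [tr_fix l1 hi.1 hi.2, (C i s1 s2).2 e]
    · right; ext i
      rw [mul_apply _ _ i, z'_ap hB.sq hpq]
      by_cases hi : ζ i = i ∨ ¬ Off p (ζ p) q (ζ q) i
      · rw [← T i hi]; congr 1
        split_ifs with h'
        · exact (hi.resolve_right (not_not.2 h')).symm
        · rfl
      · rw [not_or, not_not] at hi
        obtain ⟨s1, s2⟩ := df_off hB.sq hpq hi.1 hi.2
        rw [if_pos hi.2, tr_fix l1 (ζ.injective.ne hi.1) (off_ap hB.sq hi.2)]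
        exact (A i s1 s2).resolve_left fun e' => e ((C i s1 s2).1 e')
  by_cases hF : ∀ i, ζ i = i → k i = i
  · exfalso
    have s1 := hk.1
    have s2 := sign_tr hpq.2.2.2.2.2.symm
    rcases E 1 (fun _ _ => rfl) (fun i hi => (hF i hi).symm) with e | e
    · rw [e, mul_one, s2] at s1; exact absurd s1 (by decide)
    · rw [e, mul_one, map_mul, s2, (z'_C1 hB hpq).1.1] at s1; exact absurd s1 (by decide)
  · push Not at hF
    obtain ⟨α, hα, kα⟩ := hF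
    have hβ := (fix_iff hk.2 α).2 hα
    refine ⟨α, k α, hα, hβ, kα.symm, E _ (fun i hi => swap_apply_of_ne_of_ne
      (fun e => hi (e ▸ hα)) fun e => hi (e ▸ hβ)) fun i hi => ?_⟩
    by_cases e : i = α
    · rw [e, swap_apply_left]
    · rw [← (B α i hα hi (Ne.symm e)).resolve_left kα, swap_apply_right]
      exact ((B (k α) α hβ hα kα).resolve_left fun e' => kα (k.injective e')).symm

end Cfsg.Lib.AltZ.Stp
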