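import Cfsg.Agent.AltC.StpA
import Cfsg.Agent.AltC.Spl

/-! The centraliser of the four-group of two cycles. -/

set_option autoImplicit false
set_option linter.unusedSectionVars false

namespace Cfsg.Lib.AltZ.Stp

open Equiv Equiv.Perm
open Cfsg.Lib.AltC (N4 Off sq_ap cm_ap sign_cases InV)
open Cfsg.Lib.AltC.Spl
open scoped commutatorElement

theorem die {P : Type*} [Group P] (hP : IsPGroup 2 P) {ρ a v : P} (h1 : ρ * a * ρ⁻¹ = v)
    (h2 : ρ * v * ρ⁻¹ = a * v) (h3 : ρ * (a * v) * ρ⁻¹ = a) : a = 1 ∧ v = 1 := by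
  obtain ⟨n, hn⟩ := hP ρ
  obtain ⟨m, hm⟩ := (mem_zpowers_pow_iff (g := ρ) (k := 3)).2
    (Nat.Coprime.coprime_dvd_right (orderOf_dvd_of_pow_eq_one hn) (Nat.Coprime.pow_right _ (by decide)))
  have c : Commute (ρ ^ 3) a := by
    rw [Commute, SemiconjBy, ← mul_inv_eq_iff_eq_mul]
    calc _ = ρ * (ρ * (ρ * a * ρ⁻¹) * ρ⁻¹) * ρ⁻¹ := by rw [pow_three']; group
      _ = _ := by rw [h1, h2, h3]
  have c' := (c.zpow_left m).eq
  rw [show (ρ ^ 3) ^ m = ρ from hm] at c'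
  have e : a = v := by rw [← h1, c']; group
  have e2 : a = 1 := by rw [← e, h1, ← e] at h2; exact left_eq_mul.1 h2
  exact ⟨e2, e ▸ e2⟩

variable {Ω : Type*} [DecidableEq Ω] [Fintype Ω] {G : Type*} [Group G] {z : G} {ζ k : Perm Ω}
  {ι : Perm Ω → G} {p q : Ω}

theorem sw_fix (h2 : ζ * ζ = 1) (d : Df ζ p q) {α : Ω} (hα : ζ α = α) : sw ζ p q α = α := by
  have := sq_ap h2 p; have := sq_ap h2 q
  exact sw_off (by grind) (by grind) (by grind) (by grind)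

theorem pi_conj (h2 : ζ * ζ = 1) {r α β : Ω} (hr : ζ r ≠ r) (hα : ζ α = α) (hβ : ζ β = β)
    (hn : α ≠ β) : swap r α * swap (ζ r) β * ζ =
      ζ * (tr ζ r * swap α β) * (swap r α * swap (ζ r) β) := by
  ext i
  have := sq_ap h2 i; have := sq_ap h2 r
  simp only [mul_apply, tr]
  by_cases e : i = r ∨ i = ζ r ∨ i = α ∨ i = β
  · rcases e with rfl | rfl | rfl | rfl <;> grind
  · have : ζ i ≠ r ∧ ζ i ≠ ζ r ∧ ζ i ≠ α ∧ ζ i ≠ β := by grind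
    grind

/-- The preimage of a subgroup under the chart. -/
def pre (h : ZC z ζ ι) (D : Subgroup G) : Subgroup (Perm Ω) where
  carrier := {x | x ∈ HU ζ ∧ ι x ∈ D}
  mul_mem' := fun {x y} hx hy => ⟨mul_mem hx.1 hy.1, by
    rw [h.mul hx.1 hy.1]; exact mul_mem hx.2 hy.2⟩
  one_mem' := ⟨one_mem _, by rw [h.one]; exact one_mem _⟩
  inv_mem' := fun {x} hx => ⟨inv_mem hx.1, by rw [h.inv hx.1]; exact inv_mem hx.2⟩

/-- The image of the stabiliser. -/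
def K1 (h : ZC z ζ ι) (p q : Ω) : Subgroup G where
  carrier := {c | ∃ k ∈ C1 ζ p q, ι k = c}
  mul_mem' := by
    rintro _ _ ⟨x, hx, rfl⟩ ⟨y, hy, rfl⟩
    exact ⟨x * y, mul_mem hx hy, h.mul hx.1 hy.1⟩
  one_mem' := ⟨1, one_mem _, h.one⟩
  inv_mem' := by
    rintro _ ⟨x, hx, rfl⟩
    exact ⟨x⁻¹, inv_mem hx, h.inv hx.1⟩

/-- The data of the step. -/
structure St (z : G) (ζ : Perm Ω) (ι : Perm Ω → G) (p q : Ω) (a v : G) (Y : Subgroup G) :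
    Prop where
  hB : Big ζ
  h : ZC z ζ ι
  df : Df ζ p q
  ea : a = ι (tr ζ p * tr ζ q)
  ev : v = ι (sw ζ p q)
  hY : ∀ c, c ∈ Y ↔ c * a = a * c ∧ c * v = v * c

namespace St

variable {a v : G} {Y : Subgroup G}

theorem A (S : St z ζ ι p q a v Y) : tr ζ p * tr ζ q ∈ HU ζ :=
  tr_tr_mem S.hB.sq S.df.1.symm S.df.2.2.2.2.2.symm

theorem V (S : St z ζ ι p q a v Y) : sw ζ p q ∈ HU ζ := sw_mem S.hB.sq S.df

theorem eav (S : St z ζ ι p q a v Y) : a * v = ι (tr ζ p * tr ζ q * sw ζ p q) := by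
  rw [S.h.mul S.A S.V, S.ea, S.ev]

theorem ez (S : St z ζ ι p q a v Y) : a * z = ι (tr ζ p * tr ζ q * ζ) := by
  rw [S.h.mul S.A S.hB.mem, S.ea, S.h.ιζ]

theorem a2 (S : St z ζ ι p q a v Y) : a * a = 1 := by
  rw [S.ea, ← S.h.mul S.A S.A, mul_assoc, ← mul_assoc (tr ζ q), ← tr_tr_comm S.hB.sq, mul_assoc,
    tr_sq, mul_one, tr_sq, S.h.one]

theorem v2 (S : St z ζ ι p q a v Y) : v * v = 1 := by
  rw [S.ev, ← S.h.mul S.V S.V, sw_sq S.df, S.h.one]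

theorem av (S : St z ζ ι p q a v Y) : a * v = v * a := by
  rw [S.ea, S.ev]; exact (S.h.comm_iff S.A S.V).2 (tr_tr_sw S.df)

theorem a1 (S : St z ζ ι p q a v Y) : a ≠ 1 := fun e => by
  have := DFunLike.congr_fun (S.h.inj S.A (S.ea ▸ e)) p
  have := S.df
  simp only [mul_apply, tr, Perm.one_apply] at *; grind

theorem v1 (S : St z ζ ι p q a v Y) : v ≠ 1 := fun e => by
  have := DFunLike.congr_fun (S.h.inj S.V (S.ev ▸ e)) p
  rw [sw_left S.df] at this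
  exact S.df.2.1 this.symm

theorem va (S : St z ζ ι p q a v Y) : v ≠ a := fun e => by
  have := DFunLike.congr_fun (S.h.eq S.V S.A (S.ev ▸ S.ea ▸ e)) p
  rw [sw_left S.df] at this
  have := S.df
  simp only [mul_apply, tr] at *; grind

theorem inV (S : St z ζ ι p q a v Y) {x : Perm Ω} (hx : InV (tr ζ p * tr ζ q) (sw ζ p q) x) :
    InV a v (ι x) := by
  rcases hx with rfl | rfl | rfl | rfl
  exacts [.inl S.h.one, .inr (.inl S.ea.symm), .inr (.inr (.inl S.ev.symm)),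
    .inr (.inr (.inr S.eav.symm))]

theorem inV' (S : St z ζ ι p q a v Y) (hk : k ∈ HU ζ) (hx : InV a v (ι k)) :
    InV (tr ζ p * tr ζ q) (sw ζ p q) k := by
  rcases hx with e | e | e | e
  exacts [.inl (S.h.inj hk e), .inr (.inl (S.h.eq hk S.A (e.trans S.ea))),
    .inr (.inr (.inl (S.h.eq hk S.V (e.trans S.ev)))),
    .inr (.inr (.inr (S.h.eq hk (mul_mem S.A S.V) (e.trans S.eav))))]

theorem eq_one (S : St z ζ ι p q a v Y) (hk : k ∈ C1 ζ p q) (hx : InV a v (ι k)) : k = 1 :=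
  C1.eq_one S.df hk (S.inV' hk.1 hx)

theorem K_eq_one (S : St z ζ ι p q a v Y) {c : G} (hc : c ∈ K1 S.h p q) (hx : InV a v c) :
    c = 1 := by
  obtain ⟨k, hk, rfl⟩ := hc
  rw [S.eq_one hk hx, S.h.one]

theorem memY (S : St z ζ ι p q a v Y) (hk : k ∈ C1 ζ p q) : ι k ∈ Y :=
  (S.hY _).2 ⟨S.ea ▸ (S.h.comm_iff hk.1 S.A).2 (C1.a hk), S.ev ▸ (S.h.comm_iff hk.1 S.V).2 (C1.v hk)⟩

theorem z'K (S : St z ζ ι p q a v Y) : a * z ∈ K1 S.h p q := ⟨_, z'_C1 S.hB S.df, S.ez.symm⟩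

theorem z'Y (S : St z ζ ι p q a v Y) : a * z ∈ Y := S.ez ▸ S.memY (z'_C1 S.hB S.df)

theorem aaz (S : St z ζ ι p q a v Y) : a * (a * z) = z := by rw [← mul_assoc, S.a2, one_mul]

theorem z'1 (S : St z ζ ι p q a v Y) : a * z ≠ 1 := fun e => by
  obtain ⟨r, r0, r1, r2, r3, r4, -⟩ := S.hB.fresh p q q
  have := DFunLike.congr_fun (S.h.inj (z'_C1 S.hB S.df).1 (S.ez ▸ e)) r
  rw [z'_ap S.hB.sq S.df, if_pos ⟨r1, r2, r3, r4⟩] at this
  exact r0 this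

theorem z'2 (S : St z ζ ι p q a v Y) : a * z * (a * z) = 1 := by
  have : z * a = a * z := by rw [S.ea, S.h.comm S.hB.ev S.A]
  rw [mul_assoc, ← mul_assoc z, this, mul_assoc, S.h.z2 S.hB.ev S.hB.sq, mul_one, S.a2]

theorem norm (S : St z ζ ι p q a v Y) {c : G} (hc : c * z = z * c) :
    (c * a = a * c → c * v * c⁻¹ = v ∨ c * v * c⁻¹ = a * v) ∧ (c * v = v * c → c * a = a * c) := by
  obtain ⟨k, hk, rfl⟩ := S.h.surj c hc
  refine ⟨fun h => ?_, fun h => ?_⟩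
  · rw [S.eav, S.ev, S.h.cj hk S.V]
    exact (conj_v S.hB.sq S.df hk ((S.h.comm_iff hk S.A).1 (S.ea ▸ h))).imp (congrArg ι)
      (congrArg ι)
  · obtain ⟨x, k', hx, hk', rfl⟩ := of_v S.hB.sq S.df hk ((S.h.comm_iff hk S.V).1 (S.ev ▸ h))
    rw [S.h.mul (inV_mem S.hB.sq S.df hx) hk'.1]
    exact ((S.hY _).1 (mul_mem (memV S.av S.hY (S.inV hx)) (S.memY hk'))).1

theorem dec (S : St z ζ ι p q a v Y) {c : G} (hc : c ∈ Y) (hz : c * (a * z) = a * z * c) :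
    ∃ x k, InV a v x ∧ k ∈ C1 ζ p q ∧ c = x * ι k := by
  obtain ⟨ca, cv⟩ := (S.hY c).1 hc
  obtain ⟨k, hk, rfl⟩ := S.h.surj c (by
    rw [← mul_assoc, ca, mul_assoc, mul_assoc] at hz; exact mul_left_cancel hz)
  obtain ⟨x, k', hx, hk', rfl⟩ := of_v S.hB.sq S.df hk ((S.h.comm_iff hk S.V).1 (S.ev ▸ cv))
  exact ⟨_, k', S.inV hx, hk', S.h.mul (inV_mem S.hB.sq S.df hx) hk'.1⟩

theorem comm_V (S : St z ζ ι p q a v Y) {x y c d : G} (hx : InV a v x) (hy : InV a v y)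
    (hc : c ∈ Y) (hd : d ∈ Y) : ⁅x * c, y * d⁆ = ⁅c, d⁆ := by
  have K : ∀ x c d, InV a v x → c ∈ Y → d ∈ Y → ⁅x * c, d⁆ = ⁅c, d⁆ := fun x c d hx hc hd => by
    calc ⁅x * c, d⁆ = x * (c * d * c⁻¹) * x⁻¹ * d⁻¹ := by rw [commutatorElement_def]; group
      _ = _ := by
        rw [← centV S.hY hx (mul_mem (mul_mem hc hd) (inv_mem hc)), commutatorElement_def]; group
  rw [K _ _ _ hx hc (mul_mem (memV S.av S.hY hy) hd), ← commutatorElement_inv, K _ _ _ hy hd hc,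
    commutatorElement_inv]

theorem z'_of_pairs (S : St z ζ ι p q a v Y) (D : Subgroup G)
    (hD : ∀ r s, Df ζ p r → Df ζ q r → Df ζ p s → Df ζ q s → Df ζ r s →
      ι (tr ζ r * tr ζ s) ∈ D) : a * z ∈ D :=
  S.ez ▸ (z'_mem S.hB S.df (pre S.h D) fun r s h1 h2 h3 h4 h5 =>
    ⟨tr_tr_mem S.hB.sq h5.1.symm h5.2.2.2.2.2.symm, hD r s h1 h2 h3 h4 h5⟩).2

theorem z'_of_comm (S : St z ζ ι p q a v Y) (D : Subgroup G)
    (hD : ∀ x ∈ C1 ζ p q, ∀ y ∈ C1 ζ p q, ⁅ι x, ι y⁆ ∈ D) : a * z ∈ D := by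
  obtain ⟨α, β, hn, hα, hβ⟩ := S.hB.fix2
  refine S.z'_of_pairs D fun r s h1 h2 h3 h4 h5 => ?_
  have hx := sw_C1 S.hB.sq h1 h2 h3 h4 h5
  have hy := tr_swap_C1 S.hB.sq h3 h4 hα hβ hn
  have := hD _ hx _ hy
  rw [commutatorElement_def, S.h.cj hx.1 hy.1, ← S.h.inv hy.1,
    ← S.h.mul (mul_mem (mul_mem hx.1 hy.1) (inv_mem hx.1)) (inv_mem hy.1), ← conj_mul,
    conj_tr hx.1.2, sw_right h5, conj_swap, sw_fix S.hB.sq h5 hα,
    sw_fix S.hB.sq h5 hβ] at this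
  convert this using 2
  rw [mul_inv_rev, tr_inv]; group

/-- No conjugate of `z'` in `Y` is a proper translate by the four-group. -/
theorem F1 (S : St z ζ ι p q a v Y) {y x : G} (hy : y ∈ Y) (hx : InV a v x)
    (e : y * (a * z) * y⁻¹ = x * (a * z)) : x = 1 := by
  have K : ∀ k ∈ C1 ζ p q, ∃ x k', InV a v x ∧ k' ∈ C1 ζ p q ∧ y * ι k * y⁻¹ = x * ι k' :=
    fun k hk => by
      have hm := mul_mem (mul_mem hy (S.memY hk)) (inv_mem hy)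
      refine S.dec hm (mul_left_cancel (a := x) ?_)
      have c : ι k * (a * z) = a * z * ι k := by
        rw [← mul_assoc, ((S.hY _).1 (S.memY hk)).1, mul_assoc, S.h.comm S.hB.ev hk.1, mul_assoc]
      rw [← mul_assoc x, ← centV S.hY hx hm, mul_assoc _ x, ← mul_assoc x (a * z), ← e, conj_mul,
        conj_mul, c]
  have := S.z'_of_comm ((K1 S.h p q).comap (MulAut.conj y).toMonoidHom) fun k hk l hl => by
    obtain ⟨x1, k1, a1, a2, a3⟩ := K k hk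
    obtain ⟨x2, k2, b1, b2, b3⟩ := K l hl
    rw [Subgroup.mem_comap, map_commutatorElement]
    change ⁅y * ι k * y⁻¹, y * ι l * y⁻¹⁆ ∈ _
    rw [a3, b3, S.comm_V a1 b1 (S.memY a2) (S.memY b2), commutatorElement_def]
    have m1 : ι k1 ∈ K1 S.h p q := ⟨_, a2, rfl⟩
    have m2 : ι k2 ∈ K1 S.h p q := ⟨_, b2, rfl⟩
    exact mul_mem (mul_mem (mul_mem m1 m2) (inv_mem m1)) (inv_mem m2)
  change y * (a * z) * y⁻¹ ∈ K1 S.h p q at this
  rw [e] at this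
  exact S.K_eq_one ((mul_mem_cancel_right S.z'K).1 this) hx

theorem a0Y (S : St z ζ ι p q a v Y) {r s α β : Ω} {θ : G} (h1 : Df ζ p r) (h2 : Df ζ q r)
    (h3 : Df ζ p s) (h4 : Df ζ q s) (hα : ζ α = α) (hβ : ζ β = β) (hn : α ≠ β)
    (T : A0 z ζ ι r s α β θ) : θ ∈ Y := by
  have m1 := tr_swap_mem S.hB.sq S.df.1.symm hα hβ hn
  have m2 := tr_swap_mem S.hB.sq S.df.2.2.2.2.2.symm hα hβ hn
  refine (S.hY _).2 ⟨mul_inv_eq_iff_eq_mul.1 ?_, mul_inv_eq_iff_eq_mul.1 ?_⟩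
  · have : a = ι (tr ζ p * swap α β) * ι (tr ζ q * swap α β) := by
      rw [← S.h.mul m1 m2, tr_swap_comm S.hB.sq q hα hβ, mul_assoc, ← mul_assoc (swap α β),
        swap_mul_self, one_mul, S.ea]
    rw [this, ← conj_mul, T.t p h1.symm h3.symm, T.t q h2.symm h4.symm]
  · rw [S.ev, T.s p q h1.symm h3.symm h2.symm h4.symm S.df]

theorem theta (S : St z ζ ι p q a v Y) {α β : Ω} (hα : ζ α = α) (hβ : ζ β = β) (hn : α ≠ β) :
    ι (tr ζ p * swap α β) * ι (tr ζ p * swap α β) = 1 ∧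
      ι (tr ζ p * swap α β) * a * (ι (tr ζ p * swap α β))⁻¹ = a ∧
      ι (tr ζ p * swap α β) * v * (ι (tr ζ p * swap α β))⁻¹ = a * v := by
  have m := tr_swap_mem S.hB.sq S.df.1.symm hα hβ hn
  have df := S.df
  have e1 : (tr ζ p * swap α β) p = ζ p := by simp only [mul_apply, tr]; grind
  have e2 : (tr ζ p * swap α β) q = q := by simp only [mul_apply, tr]; grind
  refine ⟨?_, ?_, ?_⟩
  · rw [← S.h.mul m m, mul_assoc, ← mul_assoc (swap α β), ← tr_swap_comm S.hB.sq p hα hβ,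
      mul_assoc, swap_mul_self, mul_one, tr_sq, S.h.one]
  · rw [S.ea, S.h.cj m S.A, ← conj_mul, conj_tr m.2, conj_tr m.2, e1, e2, tr_ap S.hB.sq]
  · rw [S.eav, S.ev, S.h.cj m S.V, conj_sw m.2, e1, e2, sw_symm, sw_ap S.hB.sq df.symm,
      tr_tr_comm S.hB.sq, sw_symm]

theorem rho (S : St z ζ ι p q a v Y) {α β : Ω} (hα : ζ α = α) (hβ : ζ β = β) (hn : α ≠ β) {θ : G}
    (T : A0 z ζ ι p q α β θ) :
    ι (tr ζ p * swap α β) * θ * a * (ι (tr ζ p * swap α β) * θ)⁻¹ = v ∧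
      ι (tr ζ p * swap α β) * θ * v * (ι (tr ζ p * swap α β) * θ)⁻¹ = a * v ∧
      ι (tr ζ p * swap α β) * θ * (a * v) * (ι (tr ζ p * swap α β) * θ)⁻¹ = a := by
  obtain ⟨-, t1, t2⟩ := S.theta hα hβ hn
  have e : ∀ w, ι (tr ζ p * swap α β) * θ * w * (ι (tr ζ p * swap α β) * θ)⁻¹ =
      ι (tr ζ p * swap α β) * (θ * w * θ⁻¹) * (ι (tr ζ p * swap α β))⁻¹ := fun w => by group
  have e1 : θ * a * θ⁻¹ = a * v := by rw [S.eav, S.ea, T.a]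
  have e2 : θ * v * θ⁻¹ = v := by rw [S.ev, T.v]
  refine ⟨?_, ?_, ?_⟩
  · rw [e, e1, ← conj_mul, t1, t2, ← mul_assoc, S.a2, one_mul]
  · rw [e, e2, t2]
  · rw [e, ← conj_mul (b := θ), e1, e2, mul_assoc a, S.v2, mul_one, t1]

theorem gg (S : St z ζ ι p q a v Y) {r α β : Ω} {g : G} (h1 : Df ζ p r) (h2 : Df ζ q r)
    (T : GG ζ ι r α β g) (hv : g * ι (sw ζ p q) * g⁻¹ = ι (sw ζ p q)) :
    g ∈ Y ∧ g * z * g⁻¹ = z * ι (tr ζ r * swap α β) ∧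
      g * ι (tr ζ q * swap α β) * g⁻¹ = ι (tr ζ q * tr ζ r) := by
  have hα := T.hα; have hβ := T.hβ; have hn := T.ne; have df := S.df
  have b := sq_ap S.hB.sq
  have b1 := b p; have b2 := b q; have b3 := b r
  have m := tr_swap_mem S.hB.sq T.hr hα hβ hn
  have m' := tr_swap_mem S.hB.sq df.2.2.2.2.2.symm hα hβ hn
  clear b
  refine ⟨(S.hY _).2 ⟨mul_inv_eq_iff_eq_mul.1 ?_, mul_inv_eq_iff_eq_mul.1 (S.ev ▸ hv)⟩, ?_, ?_⟩
  · rw [S.ea, T.act _ ⟨S.A.1, fun i => by simp only [mul_apply, tr]; grind⟩, ← conj_mul, tr, tr,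
      conj_swap, conj_swap]
    congr 3 <;> simp only [mul_apply] <;> grind
  · nth_rewrite 1 [← S.h.ιζ]
    rw [T.act _ ⟨S.hB.ev, fun i => by simp only [mul_apply]; grind⟩, ← S.h.ιζ,
      ← S.h.mul S.hB.mem m, mul_inv_eq_iff_eq_mul.2 (pi_conj S.hB.sq T.hr hα hβ hn)]
  · rw [T.act _ ⟨m'.1, fun i => by simp only [mul_apply, tr]; grind⟩, ← conj_mul, tr, tr,
      conj_swap, conj_swap]
    congr 3 <;> simp only [mul_apply] <;> grind

/-- The stabiliser dies in every quotient that is a `2`-group. -/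
theorem F2 (S : St z ζ ι p q a v Y) (hN : Nice z ζ ι) {P : Type*} [Group P] (hP : IsPGroup 2 P)
    (φ : Y →* P) (hφ : φ ⟨a, memV S.av S.hY AltC.inV_a⟩ = 1) (hk : k ∈ C1 ζ p q) :
    φ ⟨ι k, S.memY hk⟩ = 1 := by
  let D := φ.ker.map Y.subtype
  have hD : ∀ c (hc : c ∈ Y), c ∈ D ↔ φ ⟨c, hc⟩ = 1 := fun c hc =>
    ⟨fun ⟨y, h1, h2⟩ => by obtain rfl : c = y := h2.symm; exact h1, fun h => ⟨_, h, rfl⟩⟩
  obtain ⟨α, β, hn, hα, hβ⟩ := S.hB.fix2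
  have E : ∀ r s, Df ζ p r → Df ζ q r → Df ζ p s → Df ζ q s → Df ζ r s →
      ι (tr ζ r * tr ζ s) ∈ D ∧ ι (sw ζ r s) ∈ D := fun r s h1 h2 h3 h4 h5 => by
    obtain ⟨θ, T⟩ := hN.a0 r s α β h5 hα hβ hn
    have hθ := S.a0Y h1 h2 h3 h4 hα hβ hn T
    have S' : St z ζ ι r s _ _ (Subgroup.centralizer {ι (tr ζ r * tr ζ s), ι (sw ζ r s)}) :=
      ⟨S.hB, S.h, h5, rfl, rfl, fun c => by simp [Subgroup.mem_centralizer_iff, eq_comm]⟩
    have m1 := tr_swap_C1 S.hB.sq h1 h2 hα hβ hn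
    have m2 := sw_C1 S.hB.sq h1 h2 h3 h4 h5
    have m3 : tr ζ r * tr ζ s ∈ C1 ζ p q :=
      ⟨S'.A, by simp only [mul_apply, tr]; grind, by simp only [mul_apply, tr]; grind⟩
    obtain ⟨e1, e2, e3⟩ := S'.rho hα hβ hn T
    rw [hD _ (S.memY m3), hD _ (S.memY m2)]
    refine die hP (ρ := φ ⟨_, mul_mem (S.memY m1) hθ⟩) ?_ ?_ ?_ <;>
      simp only [← map_mul, ← map_inv] <;> congr 1 <;> exact Subtype.ext (by assumption)
  have hz : z ∈ D := by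
    rw [← S.aaz]
    exact mul_mem ((hD _ _).2 hφ) (S.z'_of_pairs D fun r s h1 h2 h3 h4 h5 =>
      (E r s h1 h2 h3 h4 h5).1)
  refine (hD _ _).1 (C1.le S.hB S.df (pre S.h D) (fun r s h1 h2 h3 h4 h5 =>
    ⟨sw_mem S.hB.sq h5, (E r s h1 h2 h3 h4 h5).2⟩) (fun r α β h1 h2 hα hβ hn =>
    ⟨tr_swap_mem S.hB.sq h1.2.2.2.2.2.symm hα hβ hn, ?_⟩) hk).2
  obtain ⟨g, T, hv⟩ := hN.gg p q r α β S.df h1 h2 hα hβ hn
  obtain ⟨g1, g2, -⟩ := S.gg h1 h2 T hv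
  refine (mul_mem_cancel_left hz).1 (g2 ▸ ?_)
  obtain ⟨y, hy, rfl⟩ := hz
  exact ⟨⟨g, g1⟩ * y * ⟨g, g1⟩⁻¹, φ.normal_ker.conj_mem _ hy _, rfl⟩

theorem F3 (S : St z ζ ι p q a v Y) (hN : Nice z ζ ι) {u : G} (ua : u * a = a * u)
    (uv : u * v * u⁻¹ = a * v) (h : ∀ c ∈ Y, InV a v (u * c * u⁻¹ * c⁻¹)) : False := by
  have uz : u * z = z * u := by
    have := S.z'_of_comm (Subgroup.centralizer {u}) fun x hx y hy => by
      rw [Subgroup.mem_centralizer_singleton_iff, eq_comm, ← mul_inv_eq_iff_eq_mul]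
      nth_rewrite 2 [← S.comm_V (h _ (S.memY hx)) (h _ (S.memY hy)) (S.memY hx) (S.memY hy)]
      simp only [commutatorElement_def]; group
    rw [Subgroup.mem_centralizer_singleton_iff, ← mul_assoc, ua, mul_assoc, mul_assoc] at this
    exact (mul_left_cancel this).symm
  obtain ⟨k0, hk0, rfl⟩ := S.h.surj u uz
  obtain ⟨x, hx, kp, kq⟩ := of_a S.hB.sq S.df hk0 ((S.h.comm_iff hk0 S.A).1 (S.ea ▸ ua))
  have mx := inV_mem S.hB.sq S.df hx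
  have hk := mul_mem hk0 mx
  have e : ∀ c ∈ Y, ι (k0 * x) * c * (ι (k0 * x))⁻¹ = ι k0 * c * (ι k0)⁻¹ := fun c hc => by
    rw [S.h.mul hk0 mx, mul_assoc (ι k0), ← centV S.hY (S.inV hx) hc]; group
  generalize k0 * x = k at *
  have h' : ∀ c ∈ Y, InV a v (ι k * c * (ι k)⁻¹ * c⁻¹) := fun c hc => e c hc ▸ h c hc
  have kq' : k q = ζ q := kq.resolve_left fun kq => by
    rw [← e v (memV S.av S.hY AltC.inV_v), ((S.hY _).1 (S.memY ⟨hk, kp, kq⟩)).2,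
      mul_inv_cancel_right] at uv
    exact S.a1 (right_eq_mul.1 uv)
  obtain ⟨α, β, hα, hβ, hn, hc⟩ := cent_C1 S.hB S.df hk kp kq' fun y hy => by
    have := h' _ (S.memY hy)
    have m := mul_mem (mul_mem hk hy.1) (inv_mem hk)
    rw [S.h.cj hk hy.1, ← S.h.inv hy.1, ← S.h.mul m (inv_mem hy.1)] at this
    have i1 : k⁻¹ p = p := by rw [inv_eq_iff_eq, kp]
    have i2 : k⁻¹ q = ζ q := by rw [inv_eq_iff_eq, cm_ap hk.2, kq', sq_ap S.hB.sq]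
    have := S.eq_one ⟨mul_mem m (inv_mem hy.1), by
      rw [mul_apply, mul_apply, mul_apply, (inv_mem hy).2.1, i1, hy.2.1, kp], by
      rw [mul_apply, mul_apply, mul_apply, (inv_mem hy).2.2, i2, cm_ap hy.1.2, hy.2.2, cm_ap hk.2,
        kq', sq_ap S.hB.sq]⟩ this
    rwa [mul_inv_eq_one, mul_inv_eq_iff_eq_mul] at this
  obtain ⟨r, r0, r1, r2, r3, r4, -⟩ := S.hB.fresh p q q
  obtain ⟨d1, d2⟩ := df_off S.hB.sq S.df r0 ⟨r1, r2, r3, r4⟩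
  have m := tr_swap_mem S.hB.sq S.df.2.2.2.2.2.symm hα hβ hn
  have K : ∀ c ∈ Y, ∀ w ∈ C1 ζ p q, w * k ∈ HU ζ → c * ι k * c⁻¹ = ι (w⁻¹ * k) → w = 1 :=
    fun c hc w hw _ e => S.eq_one hw (by
      convert h' c hc using 1
      calc ι w = ι k * (ι (w⁻¹ * k))⁻¹ := by rw [S.h.mul (inv_mem hw.1) hk, S.h.inv hw.1]; group
        _ = _ := by rw [← e]; group)
  rcases hc with rfl | rfl
  · obtain ⟨g, T, hv⟩ := hN.gg p q r α β S.df d1 d2 hα hβ hn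
    obtain ⟨g1, -, g3⟩ := S.gg d1 d2 T hv
    have m' := tr_swap_C1 S.hB.sq d1 d2 hα hβ hn
    have := DFunLike.congr_fun (K g g1 _ m' (mul_mem m'.1 hk) (by
      rw [g3, tr_swap_comm S.hB.sq r hα hβ, tr_swap_comm S.hB.sq q hα hβ, mul_inv_rev, tr_inv,
        swap_inv, mul_assoc, ← mul_assoc (swap α β), swap_mul_self, one_mul,
        tr_tr_comm S.hB.sq])) α
    have := sq_ap S.hB.sq r
    simp only [mul_apply, tr, Perm.one_apply] at *; grind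
  · obtain ⟨s, s0, s1, s2, s3, s4, s5, s6⟩ := S.hB.fresh p q r
    obtain ⟨d3, d4⟩ := df_off S.hB.sq S.df s0 ⟨s1, s2, s3, s4⟩
    have d5 := df_of S.hB.sq r0 s0 s5 s6
    obtain ⟨θ, T⟩ := hN.a0 r s α β d5 hα hβ hn
    have hθ := S.a0Y d1 d2 d3 d4 hα hβ hn T
    have m' := sw_C1 S.hB.sq d1 d2 d3 d4 d5
    have := DFunLike.congr_fun (K θ hθ _ m' (mul_mem m'.1 hk) (by
      rw [S.h.mul m (z'_C1 S.hB S.df).1, ← S.ez, ← conj_mul, ← conj_mul (b := θ) (a := a),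
        T.t q d2.symm d4.symm, T.z, ((S.hY _).1 hθ).1, mul_inv_cancel_right, S.ea,
        ← S.h.mul S.A (mul_mem m'.1 S.hB.mem), ← S.h.mul m (mul_mem S.A (mul_mem m'.1 S.hB.mem)),
        sw_inv d5, ← mul_assoc _ (sw ζ r s), ← C1.a m', mul_assoc (sw ζ r s), ← mul_assoc,
        ← mul_assoc (sw ζ r s)]
      congr 2
      rw [eq_comm, ← mul_inv_eq_iff_eq_mul, ← conj_mul, (C1.tr m').2, conj_swap,
        sw_fix S.hB.sq d5 hα, sw_fix S.hB.sq d5 hβ])) r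
    rw [sw_left d5] at this
    exact s5 this

end St

end Cfsg.Lib.AltZ.Stp
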