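import Cfsg.Agent.AltC.Zm
import Cfsg.Agent.Trans.TransferTools

/-! A parity form of Thompson's transfer lemma for an arbitrary subgroup. -/

set_option autoImplicit false
set_option linter.unusedSectionVars false

namespace Cfsg.Lib.AltZ

open Equiv Equiv.Perm Cfsg.Lib.Trans

/-- If `G` has no subgroup of index two, an involution outside the kernel of a sign character of
`H` has a second conjugate of the same kind, compatible with a `2`-group centralising it. -/
theorem exists_odd_conj {G : Type*} [Group G] [Finite G] (hG : ∀ K : Subgroup G, K.index ≠ 2)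
    {H : Subgroup G} (ε : H →* ℤˣ) {u : G} (hu : u ∈ H) (u2 : u * u = 1) (εu : ε ⟨u, hu⟩ = -1)
    (R : Subgroup G) (hR : R ≤ H) (h2 : IsPGroup 2 R) (hc : ∀ x ∈ R, x * u = u * x) :
    ∃ g, g ∉ H ∧ ∀ x ∈ R, g⁻¹ * x * g ∈ H := by
  classical
  have : Fintype (G ⧸ H) := Fintype.ofFinite _
  have ht : ε.transfer u = 1 := by
    by_contra hn
    apply hG (ε.transfer).ker
    rw [Subgroup.index_ker]
    have : (ε.transfer).range = ⊤ := by
      rw [eq_top_iff]
      intro a _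
      rcases Int.units_eq_one_or a with rfl | rfl
      · exact one_mem _
      · exact ⟨u, (Int.units_eq_one_or _).resolve_left hn⟩
    rw [this, Subgroup.card_top, Nat.card_eq_fintype_card, Fintype.card_units_int]
  rw [transfer_eq_prod_extOne ε u (fun m hm h1 a ha => by
    have h3 : orderOf u ∣ 2 := orderOf_dvd_of_pow_eq_one (by rw [sq, u2])
    have h4 : m = 2 := ((Nat.dvd_prime Nat.prime_two).1 (hm.trans h3)).resolve_left h1
    have : (⟨a⁻¹ * u ^ m * a, ha⟩ : H) = 1 := Subtype.ext (by simp [h4, sq, u2])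
    rw [this, map_one])] at ht
  let f : G ⧸ H → ℤˣ := fun x => extOne ε (x.out⁻¹ * u * x.out)
  have hf : ∀ a : G, f (a : G ⧸ H) = extOne ε (a⁻¹ * u * a) := fun a => extOne_mk_out ε u a
  let T := {x : G ⧸ H // f x = -1}
  have hT : 2 ∣ Nat.card T := by
    have e : ∏ x, f x = (-1) ^ Nat.card T := by
      rw [← Finset.prod_filter_mul_prod_filter_not Finset.univ (fun x => f x = -1),
        Finset.prod_congr rfl (fun x hx => (Finset.mem_filter.1 hx).2), Finset.prod_const,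
        Finset.prod_eq_one (fun x hx =>
          (Int.units_eq_one_or _).resolve_right (Finset.mem_filter.1 hx).2), mul_one,
        Nat.card_eq_fintype_card, Fintype.card_subtype]
    by_contra hn
    rw [show ∏ x, f x = 1 from ht, (Nat.odd_iff.2 (by omega)).neg_one_pow] at e
    exact absurd e (by decide)
  let : MulAction R T :=
    { smul := fun r x => ⟨r.1 • x.1, by
        obtain ⟨x, hx⟩ := x
        induction x using QuotientGroup.induction_on with | H a =>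
        rw [MulAction.Quotient.smul_mk, smul_eq_mul, hf, ← hx, hf]
        congr 1
        calc (r.1 * a)⁻¹ * u * (r.1 * a) = a⁻¹ * (r.1⁻¹ * (u * r.1)) * a := by group
          _ = _ := by rw [← hc _ r.2]; group⟩
      one_smul := fun x => Subtype.ext (one_smul G x.1)
      mul_smul := fun a b x => Subtype.ext (mul_smul a.1 b.1 x.1) }
  have : Fact (Nat.Prime 2) := ⟨Nat.prime_two⟩
  let x0 : T := ⟨((1 : G) : G ⧸ H), by
    rw [hf, inv_one, one_mul, mul_one, extOne_of_mem ε hu, εu]⟩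
  have h0 : x0 ∈ MulAction.fixedPoints R T := fun r => Subtype.ext (by
    show r.1 • ((1 : G) : G ⧸ H) = ((1 : G) : G ⧸ H)
    rw [MulAction.Quotient.smul_mk, QuotientGroup.eq]
    simpa using hR r.2)
  obtain ⟨b, hb, hn⟩ := h2.exists_fixed_point_of_prime_dvd_card_of_fixed_point T hT h0
  refine ⟨b.1.out, fun h => hn (Subtype.ext ?_), fun x hx =>
    (smul_eq_iff_out_conj_mem x b.1).1 (congrArg Subtype.val (hb ⟨x, hx⟩))⟩
  show ((1 : G) : G ⧸ H) = b.1
  rw [← b.1.out_eq', QuotientGroup.eq]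
  simpa using h

variable {Ω : Type*} [DecidableEq Ω] [Fintype Ω] {G : Type*} [Group G]
  {z : G} {ζ : Perm Ω} {ι : Perm Ω → G}

/-- The chart as a homomorphism. -/
def ZC.hom (h : ZC z ζ ι) : HU ζ →* G := MonoidHom.mk' (fun x => ι x) (fun x y => h.mul x.2 y.2)

theorem ZC.hom_inj (h : ZC z ζ ι) : Function.Injective h.hom :=
  fun x y e => Subtype.ext (h.eq x.2 y.2 e)

theorem ZC.mem_range (h : ZC z ζ ι) (he : sign ζ = 1) {c : G} :
    c ∈ h.hom.range ↔ c * z = z * c :=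
  ⟨fun ⟨x, e⟩ => e ▸ h.comm he x.2, fun e => by
    obtain ⟨x, hx, e⟩ := h.surj c e; exact ⟨⟨x, hx⟩, e⟩⟩

theorem ZC.transfer [Finite G] (hB : Big ζ) (h : ZC z ζ ι) (hG : ∀ K : Subgroup G, K.index ≠ 2)
    {ε : Perm Ω → ℤˣ} (hε : Chr ζ ε) {u : Perm Ω} (hu : u ∈ HU ζ) (u2 : u * u = 1)
    (εu : ε u = -1) (R : Subgroup (Perm Ω)) (hR : R ≤ HU ζ) (h2 : IsPGroup 2 R) (hζ : ζ ∈ R)
    (hc : ∀ x ∈ R, x * u = u * x) :
    ∃ w ∈ HU ζ, w ≠ ζ ∧ IsConj z (ι w) ∧ ∀ x ∈ R, x * w = w * x := by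
  let e := MonoidHom.ofInjective h.hom_inj
  let ε0 : HU ζ →* ℤˣ := MonoidHom.mk' (fun x => ε x) (fun x y => hε.mul x.2 y.2)
  let φ : R →* G := h.hom.comp (Subgroup.inclusion hR)
  obtain ⟨g, hg, hx⟩ := exists_odd_conj hG (ε0.comp e.symm.toMonoidHom) (u := ι u) ⟨⟨u, hu⟩, rfl⟩
    (by rw [← h.mul hu hu, u2, h.one])
    (by
      have : e.symm ⟨ι u, ⟨⟨u, hu⟩, rfl⟩⟩ = ⟨u, hu⟩ := e.symm_apply_eq.2 rfl
      show ε0 (e.symm _) = -1
      rw [this]; exact εu)
    φ.range (by rintro _ ⟨x, rfl⟩; exact ⟨_, rfl⟩)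
    (h2.of_surjective φ.rangeRestrict φ.rangeRestrict_surjective)
    (by rintro _ ⟨x, rfl⟩; exact (h.comm_iff (hR x.2) hu).2 (hc _ x.2))
  have key : ∀ x ∈ R, g * z * g⁻¹ * ι x = ι x * (g * z * g⁻¹) := fun x hx' => by
    have := (h.mem_range hB.ev).1 (hx _ ⟨⟨x, hx'⟩, rfl⟩)
    calc g * z * g⁻¹ * ι x = g * (z * (g⁻¹ * ι x * g)) * g⁻¹ := by group
      _ = g * (g⁻¹ * ι x * g * z) * g⁻¹ := congrArg (fun t => g * t * g⁻¹) this.symm
      _ = _ := by group
  obtain ⟨w, hw, e⟩ := h.surj (g * z * g⁻¹) (by have := key ζ hζ; rwa [h.ιζ] at this)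
  refine ⟨w, hw, fun hn => hg ((h.mem_range hB.ev).2 ?_), isConj_iff.2 ⟨g, e.symm⟩,
    fun x hx => (h.comm_iff (hR hx) hw).1 (by rw [e, key x hx])⟩
  rw [hn, h.ιζ] at e
  exact mul_inv_eq_iff_eq_mul.1 e.symm

end Cfsg.Lib.AltZ
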