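import Cfsg.Agent.AltC.Tv1

/-! Existence of a transvection on the base group. -/

set_option autoImplicit false
set_option linter.unusedSectionVars false

namespace Cfsg.Lib.AltZ

open Equiv Equiv.Perm
open Cfsg.Lib.AltC (N4 sq_ap cm_ap sign_cases)

variable {Ω : Type*} [DecidableEq Ω] [Fintype Ω] {G : Type*} [Group G] {z : G}
  {ζ μ w y : Perm Ω} {ι : Perm Ω → G} {A : Subgroup (Perm Ω)}

theorem sw4 {a b c d : Ω} (hn : N4 a b c d) (h1 : y * swap a b = swap a b * y)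
    (h2 : y * swap c d = swap c d * y) :
    swap a c * swap b d * y * (swap a c * swap b d)⁻¹ = y ∨
      swap a c * swap b d * y * (swap a c * swap b d)⁻¹ = swap a b * swap c d * y := by
  have e : swap a c * swap b d * y * (swap a c * swap b d)⁻¹ =
      swap a c * swap b d * (swap (y a) (y c) * swap (y b) (y d)) * y := by
    rw [← AltC.conj_dbl, inv_eq_of_mul_eq_one_right (AltC.dbl_sq (p := a) (q := c) (by grind))]
    group
  rw [e, mul_eq_right, mul_left_inj]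
  rcases of_swap_comm hn.1 h1 with ⟨a1, a2⟩ | ⟨a1, a2⟩ <;>
    rcases of_swap_comm hn.2.2.2.2.2 h2 with ⟨a3, a4⟩ | ⟨a3, a4⟩ <;> rw [a1, a2, a3, a4] <;>
    clear * - hn <;> [left; right; right; left] <;> ext i <;> simp only [mul_apply, one_apply] <;>
    grind

/-- The data of a weak transvection on `A` moving `w`. -/
def Wk (ζ w : Perm Ω) (A : Subgroup (Perm Ω)) : Prop :=
  ∃ x ∈ HU ζ, ∃ d ∈ HU ζ, (∀ y ∈ A, d * y = y * d) ∧
    (∀ y ∈ A, x * y * x⁻¹ = y ∨ x * y * x⁻¹ = d * y) ∧ x * w * x⁻¹ ≠ w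

theorem wk_pack (hζ : ζ ∈ A) {a b c d : Ω} (hn : N4 a b c d)
    (h1 : ∀ y ∈ A, y * swap a b = swap a b * y) (h2 : ∀ y ∈ A, y * swap c d = swap c d * y)
    (h3 : w a = b) (h4 : w c = c) (h5 : swap a c * swap b d * ζ = ζ * (swap a c * swap b d)) :
    Wk ζ w A := by
  have k : ∀ y ∈ A, swap a b * swap c d * y = y * (swap a b * swap c d) := fun y hy => by
    rw [mul_assoc, ← h2 y hy, ← mul_assoc, ← h1 y hy, mul_assoc]
  refine ⟨_, ⟨AltC.sign_dbl hn.2.1 hn.2.2.2.2.1, h5⟩, _, ⟨AltC.sign_dbl hn.1 hn.2.2.2.2.2, k ζ hζ⟩,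
    k, fun y hy => sw4 hn (h1 y hy) (h2 y hy), fun e => ?_⟩
  have := cm_ap (mul_inv_eq_iff_eq_mul.1 e) a
  simp only [mul_apply] at this
  clear * - this hn h3 h4
  grind

theorem exists_wk (hB : Big ζ) (hA : A ≤ HU ζ) (a2 : ∀ y ∈ A, y * y = 1)
    (ac : ∀ x ∈ A, ∀ y ∈ A, x * y = y * x) (hζ : ζ ∈ A) (hw : w ∈ A) (hj : J0 ζ w)
    (hb : ¬ ∀ p, w p = p ∨ w p = ζ p)
    (hI : ε1 ζ w = 1 → ∀ α γ, ζ α = α → ζ γ = γ → Df w α γ → tr w α * tr w γ ∈ A) :
    Wk ζ w A := by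
  have h2 : IsPGroup 2 A := fun y => ⟨1, Subtype.ext (by simpa [pow_two] using a2 y y.2)⟩
  have fζ : ∀ y ∈ A, ∀ p, ζ (y p) = y p ↔ ζ p = p := fun y hy => fix_iff (ac y hy ζ hζ)
  have fw : ∀ y ∈ A, ∀ p, w (y p) = y p ↔ w p = p := fun y hy => fix_iff (ac y hy w hw)
  have w2 := sq_ap (a2 w hw)
  have r2 : ∀ S : Ω → Prop, (∀ p, S (w p) ↔ S p) → restr S w * restr S w = 1 := fun S hS => by
    rw [← restr_mul hS hS, a2 w hw, restr_eq (y := 1) (fun _ _ => rfl) fun _ _ => rfl]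
  have rs : ∀ (S : Ω → Prop) [DecidablePred S], (∀ p, S (w p) ↔ S p) → (restr S w).support.card +
      (Finset.univ.filter fun p => S p ∧ w p = p).card = (Finset.univ.filter S).card ∧
      (restr S w).support = Finset.univ.filter fun p => S p ∧ w p ≠ p := fun S _ hS => by
    have e : (restr S w).support = Finset.univ.filter fun p => S p ∧ w p ≠ p := by
      ext p
      by_cases hp : S p
      · simp [restr_pos hS hp, hp]
      · simp [restr_neg w hp, hp]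
    refine ⟨?_, e⟩
    rw [e, ← Finset.filter_filter, ← Finset.filter_filter, add_comm,
      Finset.card_filter_add_card_filter_not]
  rcases Int.units_eq_one_or (ε1 ζ w) with e | e
  · obtain ⟨γ, hγ, δ, hδ, n1, c1⟩ := exists_inv_pair A h2
      (Finset.univ.filter fun p => ζ p = p ∧ w p = p)
      (fun y hy p => by simp [fζ y hy, fw y hy]) (by
        have := (rs (fun p => ζ p = p) (fζ w hw)).1
        have := hB.card_fix
        have := hB.hm
        have := ((sign_invol (r2 _ (fζ w hw))).resolve_right fun h => by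
          rw [show sign _ = 1 from e] at h; exact absurd h.1 (by decide)).2
        omega)
    simp only [Finset.mem_filter, Finset.mem_univ, true_and] at hγ hδ
    obtain ⟨α, hα, hα'⟩ : ∃ α, ζ α = α ∧ w α ≠ α := by
      by_contra! H
      exact hb fun p => (eq_or_ne (ζ p) p).elim (fun h => .inl (H p h)) (hj p)
    have hw1 := (fζ w hw α).2 hα
    have b0 := w2 α
    by_cases H : ∀ y ∈ A, y * swap α (w α) = swap α (w α) * y
    · exact wk_pack hζ (by clear * - b0 hα' hγ hδ n1; grind) H c1 rfl hγ.2 (by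
        rw [mul_assoc, AltC.fix_comm hw1 hδ.1, ← mul_assoc, AltC.fix_comm hα hγ.1, mul_assoc])
    push Not at H
    obtain ⟨b, hb, H⟩ := H
    have b1 := cm_ap (ac b hb w hw)
    have b2 := sq_ap (a2 b hb)
    have hb1 := (fζ b hb α).2 hα
    have hb2 := mt (fw b hb α).1 hα'
    have hb3 := (fζ w hw _).2 hb1
    have D : Df w α (b α) := df_of (a2 w hw) hα' hb2
      (fun e => H (swap_comm_of (.inl ⟨e, by rw [b1, e]⟩)))
      fun e => H (swap_comm_of (.inr ⟨e, by rw [b1, e, b0]⟩))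
    have K : ∀ y ∈ A, (y * swap α (b α) * y⁻¹ = swap α (b α) ∧
        y * swap (w α) (w (b α)) * y⁻¹ = swap (w α) (w (b α))) ∨
        (y * swap α (b α) * y⁻¹ = swap (w α) (w (b α)) ∧
        y * swap (w α) (w (b α)) * y⁻¹ = swap α (b α)) := fun y hy => by
      have : y α = α ∨ y α = b α ∨ y α = w α ∨ y α = w (b α) := by
        by_contra! H
        have D' := df_of (a2 w hw) hα' (mt (fw y hy α).1 hα') H.1 H.2.2.1
        have := cm_ap (ac b hb _ (hI e _ _ hα ((fζ y hy α).2 hα) D')) α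
        rw [pair_left D', b1, pair_df D.symm
          (df_of (a2 w hw) hb2 D'.2.2.2.2.2.symm H.2.1 H.2.2.2)] at this
        exact hb2 this
      simp only [conj_swap, cm_ap (ac y hy w hw), cm_ap (ac y hy b hb)]
      rcases this with e | e | e | e <;> simp [e, b1, b2, w2, swap_comm]
    have sc : Commute (swap α (b α)) (swap (w α) (w (b α))) := AltC.sw_comm (by clear * - D; grind)
    have k : ∀ y ∈ A, swap α (b α) * swap (w α) (w (b α)) * y =
        y * (swap α (b α) * swap (w α) (w (b α))) := fun y hy => by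
      rw [eq_comm, ← mul_inv_eq_iff_eq_mul, ← conj_mul]
      rcases K y hy with ⟨e1, e2⟩ | ⟨e1, e2⟩ <;> rw [e1, e2, sc.eq]
    have k' : ∀ y ∈ A, swap α (b α) * swap γ δ * y * (swap α (b α) * swap γ δ)⁻¹ =
        swap α (b α) * (y * swap α (b α) * y⁻¹) * y := fun y hy => by
      rw [mul_assoc _ _ y, ← c1 y hy]; simp [mul_assoc]
    refine ⟨swap α (b α) * swap γ δ, ⟨AltC.sign_dbl D.2.1 n1, by
        rw [mul_assoc, AltC.fix_comm hγ.1 hδ.1, ← mul_assoc, AltC.fix_comm hα hb1, mul_assoc]⟩, _,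
      ⟨AltC.sign_dbl D.2.1 D.2.2.2.2.1, k ζ hζ⟩, k, fun y hy => ?_, fun e => ?_⟩
    · rw [k' y hy]
      exact (K y hy).imp (fun e => by simp [e.1]) fun e => by rw [e.1]
    · rw [k' w hw, conj_swap, mul_eq_right] at e
      have := DFunLike.congr_fun e α
      simp only [mul_apply, one_apply] at this
      clear * - this D
      grind
  have s := fun p => (fζ w hw p).not
  have c1 := rs (fun p => ζ p ≠ p) s
  have c2 := ((sign_invol (r2 (fun p => ζ p ≠ p) s)).resolve_left fun h => by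
    have := congrArg sign (restr_mul_compl (S := fun p => ζ p = p) (fζ w hw))
    rw [Perm.sign_mul, h.1, (hA hw).1, show sign _ = -1 from e] at this
    exact absurd this (by decide)).2
  have c3 := ((sign_invol hB.sq).resolve_right fun h => by
    rw [hB.ev] at h; exact absurd h.1 (by decide)).2
  obtain ⟨α, hα, β, hβ, n1, d1⟩ := exists_inv_pair A h2
    (Finset.univ.filter fun p => ζ p ≠ p ∧ w p ≠ p) (fun y hy p => by simp [fζ y hy, fw y hy])
    (.inl (c1.2 ▸ c2))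
  obtain ⟨γ, hγ, δ, hδ, n2, d2⟩ := exists_inv_pair A h2
    (Finset.univ.filter fun p => ζ p ≠ p ∧ w p = p) (fun y hy p => by simp [fζ y hy, fw y hy])
    (.inl (by have := c1.1; change _ = ζ.support.card at this; omega))
  simp only [Finset.mem_filter, Finset.mem_univ, true_and] at hα hβ hγ hδ
  have e1 := ((of_swap_comm n1 (d1 ζ hζ)).resolve_left fun h => hα.1 h.1).1
  have e2 := ((of_swap_comm n2 (d2 ζ hζ)).resolve_left fun h => hγ.1 h.1).1
  have hn : N4 α β γ δ := by clear * - n1 n2 hα hβ hγ hδ; grind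
  subst e1 e2
  exact wk_pack hζ hn d1 d2 ((hj α hα.1).resolve_left hα.2) hγ.2 (sw_comm hB.sq hn)

theorem ZC.exists_tw [Finite G] (hB : Big ζ) (h : ZC z ζ ι) (hG : ∀ K : Subgroup G, K.index ≠ 2)
    (hμ : Full ζ μ) : ∃ c g, TW ζ μ ι c g := by
  have m2 := hμ.sq
  obtain ⟨α, hα, hα'⟩ := hμ.exists_fx hB
  obtain ⟨p, hp, -⟩ := hB.fresh α α α
  have hu : Bs μ (tr ζ p * swap α (μ α)) :=
    hμ.tr_eq hp ▸ bs_pair m2 (hμ.mv p hp ▸ hp) hα'
  obtain ⟨w, hw, w1, wz, wc⟩ := h.transfer hB hG chr_ε1 (hμ.le hu) (hu.sq m2)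
    (ε1_tr_swap hB.sq hp hα (hμ.fx α hα) hα'.symm) (BsG μ m2) (fun _ => hμ.le)
    (fun y => ⟨1, Subtype.ext (by simpa [pow_two] using Bs.sq m2 y.2)⟩) (hμ.bs hB)
    fun x hx => Bs.comm m2 hx hu
  have bw := hμ.cent hB hw.1 fun y hy => (wc y hy).symm
  obtain ⟨g, hg⟩ := isConj_iff.1 wz
  obtain ⟨w', P⟩ := h.pair hB.ev hB.sq hw w1 hg
  have ex : ∀ {x}, Bs μ x → ∃ x', Rel ζ ι g w w' x x' := fun hx =>
    P.ex ⟨hμ.le hx, hx.1, hx.comm m2 bw⟩
  let A : Subgroup (Perm Ω) :=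
    { carrier := {x' | ∃ x, Bs μ x ∧ Rel ζ ι g w w' x x'}
      one_mem' := ⟨1, bs_one, P.one_one⟩
      mul_mem' := fun ⟨_, a, b⟩ ⟨_, c, d⟩ => ⟨_, a.mul m2 c, P.mul b d⟩
      inv_mem' := fun ⟨_, a, b⟩ => ⟨_, (BsG μ m2).inv_mem a, P.inv b⟩ }
  have wA : w' ∈ A := ⟨ζ, hμ.bs hB, P.rζ⟩
  have j := hμ.j0 bw.2
  obtain ⟨x, hx, d, hd, d1, d2, d3⟩ := exists_wk (A := A) hB (fun _ ⟨_, _, b⟩ => (P.cod b).1)
    (fun _ ⟨_, a, b⟩ => P.one' (a.sq m2 ▸ P.mul b b))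
    (fun _ ⟨_, a, b⟩ _ ⟨_, c, d⟩ => (P.comm_iff b d).1 (a.comm m2 c)) ⟨w, bw, P.rw⟩ wA
    (P.j0 hB j) (P.symm.not_base hB) fun e α γ hα hγ D => by
      have a1 := (fix_iff P.hw'.2 α).2 hα
      have a2 := (fix_iff P.hw'.2 γ).2 hγ
      have m := tr_tr_mem P.w2' D.1.symm D.2.2.2.2.2.symm
      obtain ⟨x, hx⟩ := P.ex' (x' := tr w' α * tr w' γ) ⟨⟨m.1, by
        rw [tr, tr, mul_assoc, AltC.fix_comm hγ a2, ← mul_assoc, AltC.fix_comm hα a1, mul_assoc]⟩, m⟩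
      refine ⟨x, ⟨(P.dom hx).1.1, fun p => ?_⟩, hx⟩
      rcases P.baseI hB j e hα hγ D hx p with e | ⟨a, e⟩ | ⟨-, e⟩
      · exact .inl e
      · exact .inr (e.trans (hμ.mv p a).symm)
      · exact e ▸ bw.2 p
  obtain ⟨c, hc⟩ := P.ex' (x' := d) ⟨hd, hd.1, d1 _ wA⟩
  have bc := hμ.cent hB (P.dom hc).1.1 fun y hy => by
    obtain ⟨y', hy'⟩ := ex hy
    exact (P.comm_iff hc hy').2 (d1 _ ⟨y, hy, hy'⟩)
  have T : ∀ {y y'}, Rel ζ ι g w w' y y' → CjA ι g y' y := fun a => a.2.2.symm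
  refine ⟨c, g * (ι x * g⁻¹), bc, fun y hy => ?_, fun e => d3 (h.of_act hx P.hw' P.hw' ?_)⟩
  · obtain ⟨y', hy'⟩ := ex hy
    have a : CjA ι (ι x) y' (x * y' * x⁻¹) := h.cj hx (P.cod hy').1
    refine (d2 y' ⟨y, hy, hy'⟩).imp (fun e => ?_) fun e => ?_ <;> rw [e] at a
    · exact ((T hy').symm.trans a).trans (T hy')
    · exact hy.comm m2 bc ▸ ((T hy').symm.trans a).trans (T (P.mul hc hy'))
  · simpa [mul_assoc] using ((T P.rζ).trans e).trans (T P.rζ).symm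

theorem ZC.exists_tv [Finite G] (hB : Big ζ) (h : ZC z ζ ι) (hG : ∀ K : Subgroup G, K.index ≠ 2)
    (hμ : Full ζ μ) : ∃ ε, Chr ζ ε ∧ ∃ (r : Ω) (c : Perm Ω) (g : G), ζ r ≠ r ∧
      ((∃ α, ζ α = α ∧ μ α ≠ α ∧ c = tr ζ r * tr μ α) ∨ c = tr ζ r * (μ * ζ)) ∧
      TV (AltZ.rech z ι ε) μ c g := by
  obtain ⟨c, g, t⟩ := h.exists_tw hB hG hμ
  exact t.shape hB h hμ

theorem TV.gg (hB : Big ζ) (hμ : Full ζ μ) {r α : Ω} {g : G} (hr : ζ r ≠ r) (hα : ζ α = α)
    (hα' : μ α ≠ α) (ht : TV ι μ (tr ζ r * tr μ α) g) : GG ζ ι r α (μ α) g := by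
  refine ⟨hr, hα, hμ.fx α hα, hα'.symm, fun x hx => ?_⟩
  have D := hμ.df_mix hB hr hα hα'
  have hx' : Bs μ x := ⟨hx.1, fun p => by
    have a1 := hx.2 p
    have a2 := hμ.fx α hα
    have a3 := hμ.b0 p
    have a4 := sq_ap hμ.sq α
    rw [mul_apply] at a1
    clear * - a1 a2 a3 a4 hα
    grind⟩
  rw [ht x hx', ← hμ.tr_eq hr, ← hμ.mv r hr, restr_symm hμ.sq (bs_pair hμ.sq D.1.symm hα').2 hx'.2,
    show swap r α * swap (μ r) (μ α) = sw μ r α from rfl, sw_conj hμ.sq hx'.2 D]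
  simp only [dot_pair hμ.sq hx'.2 D]
  split_ifs <;> rfl

end Cfsg.Lib.AltZ
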