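import Cfsg.Agent.AltC.Tv0
import Cfsg.Agent.AltC.Fus

/-! Weak transvections on the base group are transvections of two shapes. -/

set_option autoImplicit false
set_option linter.unusedSectionVars false

namespace Cfsg.Lib.AltZ

open Equiv Equiv.Perm
open Cfsg.Lib.AltC (N4 sq_ap cm_ap sign_cases)

variable {Ω : Type*} [DecidableEq Ω] [Fintype Ω] {G : Type*} [Group G] {z g g' : G}
  {ζ μ c x y w x' y' : Perm Ω} {ι : Perm Ω → G}

/-- `g` conjugates `ι x` to `ι y`. -/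
def CjA (ι : Perm Ω → G) (g : G) (x y : Perm Ω) : Prop := g * ι x * g⁻¹ = ι y

theorem CjA.trans (a : CjA ι g x y) (b : CjA ι g' y w) : CjA ι (g' * g) x w := by
  rw [CjA, ← b, ← a]; group

theorem CjA.symm (a : CjA ι g x y) : CjA ι g⁻¹ y x := by rw [CjA, ← a]; group

theorem CjA.isConj (a : CjA ι g x y) : IsConj (ι x) (ι y) := isConj_iff.2 ⟨g, a⟩

theorem ZC.of_act (h : ZC z ζ ι) {k : Perm Ω} (hk : k ∈ HU ζ) (hx : x ∈ HU ζ) (hy : y ∈ HU ζ)
    (a : CjA ι (ι k) x y) : k * x * k⁻¹ = y :=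
  h.eq (mul_mem (mul_mem hk hx) (inv_mem hk)) hy ((h.cj hk hx).symm.trans a)

theorem ZC.act_mul (h : ZC z ζ ι) (hμ : Full ζ μ) (hx : Bs μ x) (hy : Bs μ y) (hx' : Bs μ x')
    (hy' : Bs μ y') (a : CjA ι g x y) (b : CjA ι g x' y') : CjA ι g (x * x') (y * y') := by
  rw [CjA, h.mul (hμ.le hx) (hμ.le hx'), h.mul (hμ.le hy) (hμ.le hy'), ← a, ← b, conj_mul]

theorem ZC.of_fix (h : ZC z ζ ι) (a : CjA ι g ζ ζ) : ∃ k ∈ HU ζ, ι k = g :=
  h.surj g (by rw [← h.ιζ]; exact mul_inv_eq_iff_eq_mul.1 a)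

theorem Bs.cj (hx : Bs μ x) {s : Perm Ω} (hs : s * μ = μ * s) : Bs μ (s * x * s⁻¹) :=
  ⟨by simp [hx.1], fun p => by
    obtain ⟨q, rfl⟩ := s.surjective p
    have := hx.2 q
    rw [mul_apply, show s⁻¹ (s q) = q by simp, mul_apply, ← cm_ap hs]
    simpa using this⟩

theorem Full.norm' (hB : Big ζ) (hμ : Full ζ μ) (hx : ∀ y, Bs μ y → Bs μ (x * y * x⁻¹)) :
    x * μ = μ * x := by
  ext p
  by_cases hp : μ p = p
  · obtain ⟨q, hq⟩ := x.surjective (μ (x p))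
    have a := hμ.norm hB hx (p := q)
    have b := hμ.one p q hp
    have i : x (μ q) = x p → μ q = p := x.injective.eq_iff.1
    have := sq_ap hμ.sq q
    have := sq_ap hμ.sq (x p)
    simp only [mul_apply]
    clear hx
    by_cases μ q = q <;> grind
  · exact hμ.norm hB hx hp

theorem pair_df {p u v : Ω} (h1 : Df μ p u) (h2 : Df μ p v) : (tr μ u * tr μ v) p = p := by
  simp only [mul_apply, tr]; grind

theorem pair_left {p u : Ω} (h1 : Df μ p u) : (tr μ p * tr μ u) p = μ p := by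
  simp only [mul_apply, tr]; grind

theorem Full.exists_df (hB : Big ζ) (hμ : Full ζ μ) {p q u : Ω} (hp : μ p ≠ p) (hq : μ q ≠ q)
    (hu : μ u ≠ u) (s : Ω) : ∃ v, Df μ p v ∧ Df μ q v ∧ Df μ u v ∧ v ≠ s ∧ v ≠ μ s := by
  obtain ⟨v, a, b, c, d, e, f, g, h⟩ := hμ.fresh hB p q u s
  exact ⟨v, df_of hμ.sq hp a b c, df_of hμ.sq hq a d e, df_of hμ.sq hu a f g, h⟩

theorem same_aux (hB : Big ζ) (hμ : Full ζ μ) {k e : Perm Ω} {p q : Ω} (hn : Df μ p q)
    (he : Bs μ e) (key : ∀ x, Bs μ x → k * x * k⁻¹ = if (x p = p ↔ x q = q) then x else x * e) :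
    e = 1 ∨ e = tr μ p * tr μ q := by
  have m := sq_ap hμ.sq
  have hp := hn.1.symm
  have hq := hn.2.2.2.2.2.symm
  have km := hμ.norm' hB fun x hx => by
    rw [key x hx]
    split_ifs
    exacts [hx, hx.mul hμ.sq he]
  have k2 : ∀ u, Df μ p u → Df μ q u → k u = u ∨ k u = μ u := fun u h1 h2 => by
    obtain ⟨v, a1, a2, a3, a4⟩ := hμ.exists_df hB hp hq h1.2.2.2.2.2.symm (k u)
    have := key _ (bs_pair hμ.sq a3.1.symm a3.2.2.2.2.2.symm)
    rw [if_pos (by simp [pair_df h1 a1, pair_df h2 a2]), ← conj_mul, conj_tr km, conj_tr km] at this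
    have b := DFunLike.congr_fun this (k u)
    have d := a3.map km
    have b2 := m (k u)
    have b3 := m v
    rw [pair_left d] at b
    simp only [mul_apply, tr] at b
    clear * - b d b2 b3 a4
    grind
  obtain ⟨u, d1, d2, -⟩ := hμ.exists_df hB hp hq hp p
  have e1 := key _ (bs_pair hμ.sq hp d1.2.2.2.2.2.symm)
  rw [if_neg (by simp [pair_left d1, pair_df hn.symm d2, hp]), ← conj_mul, conj_tr km, conj_tr km,
    show tr μ (k u) = tr μ u by rcases k2 u d1 d2 with e | e <;> simp [e, tr_ap hμ.sq],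
    tr_tr_comm hμ.sq p u, tr_tr_comm hμ.sq _ u, mul_assoc, mul_right_inj] at e1
  have e2 : e = tr μ p * tr μ (k p) := by rw [e1, ← mul_assoc, tr_sq, one_mul]
  have kp : μ (k p) ≠ k p := mt (fix_iff km p).1 hp
  by_cases b1 : k p = p ∨ k p = μ p
  · exact .inl (by rcases b1 with e | e <;> simp [e2, e, tr_ap hμ.sq, tr_sq])
  by_cases b2 : k p = q ∨ k p = μ q
  · exact .inr (by rcases b2 with e | e <;> simp [e2, e, tr_ap hμ.sq])
  push Not at b1 b2
  have a1 := k2 _ (df_of hμ.sq hp kp b1.1 b1.2) (df_of hμ.sq hq kp b2.1 b2.2)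
  have a2 := cm_ap km (k p)
  have a3 : k p = k (k p) → _ := k.injective.eq_iff.1
  have a4 : k p = k (μ (k p)) → _ := k.injective.eq_iff.1
  have a5 := m (k p)
  clear * - a1 a2 a3 a4 a5 b1
  grind

theorem b0_inv (h : μ * μ = 1) (hx : ∀ p, x p = p ∨ x p = μ p) (hy : ∀ p, y p = p ∨ y p = μ p)
    (p : Ω) : y (x p) = x p ↔ y p = p := fix_iff (b0_comm h hx hy) p

theorem Full.split (hμ : Full ζ μ) (hx : ∀ p, x p = p ∨ x p = μ p) :
    restr (fun p => ζ p = p) x * restr (fun p => ζ p ≠ p) x = x :=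
  restr_mul_compl (b0_inv hμ.sq hx hμ.b0)

theorem Full.sign_mv (hμ : Full ζ μ) (hx : Bs μ x) :
    Perm.sign (restr (fun p => ζ p ≠ p) x) = ε1 ζ x := by
  have := congrArg Perm.sign (hμ.split hx.2)
  rw [Perm.sign_mul, hx.1, mul_eq_one_iff_inv_eq, Int.units_inv_eq_self] at this
  exact this.symm

theorem Full.mv_spec (hμ : Full ζ μ) (hx : ∀ p, x p = p ∨ x p = μ p) (p : Ω) :
    restr (fun p => ζ p ≠ p) x p = if ζ p = p then p else x p := by
  split_ifs with hp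
  · exact restr_neg x (not_not.2 hp)
  · exact restr_pos (S := fun p => ζ p ≠ p) (fun p => (b0_inv hμ.sq hx hμ.b0 p).not) hp

theorem Full.fx_spec (hμ : Full ζ μ) (hx : ∀ p, x p = p ∨ x p = μ p) (p : Ω) :
    restr (fun p => ζ p = p) x p = if ζ p = p then x p else p := by
  split_ifs with hp
  · exact restr_pos (S := fun p => ζ p = p) (b0_inv hμ.sq hx hμ.b0) hp
  · exact restr_neg x hp

theorem Full.mem_of_same (hB : Big ζ) (hμ : Full ζ μ) (P : Subgroup (Perm Ω))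
    (hP : ∀ p q, Df μ p q → (ζ p = p ↔ ζ q = q) → tr μ p * tr μ q ∈ P) (hx : Bs μ x)
    (he : ε1 ζ x = 1) : x ∈ P := by
  rw [← hμ.split hx.2]
  refine mul_mem (AltC.mem_of_pairs (s := μ * ζ) P (fun p q hn => ?_)
    (b0_sq hμ.sq (b0_restr _ hx.2)) he fun p => ?_) (AltC.mem_of_pairs (s := ζ) P (fun p q hn => ?_)
    (b0_sq hμ.sq (b0_restr _ hx.2)) (by rw [hμ.sign_mv hx, he]) fun p => ?_)
  · have hp : ζ p = p := by_contra fun e => hn.1 (hμ.tau_mv hB e).symm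
    have hq : ζ q = q := by_contra fun e => hn.2.2.2.2.2 (hμ.tau_mv hB e).symm
    rw [Full.tau_fx hp, Full.tau_fx hq] at hn ⊢
    exact hP p q hn (by simp [hp, hq])
  · have := hx.2 p
    rw [hμ.fx_spec hx.2, mul_apply]; grind
  · have hp := hn.1.symm
    have hq := hn.2.2.2.2.2.symm
    rw [← hμ.mv p hp, ← hμ.mv q hq] at hn ⊢
    exact hP p q hn (by simp [hp, hq])
  · have := hx.2 p
    have := hμ.mv p
    rw [hμ.mv_spec hx.2]; grind

theorem odd3 {s : Perm Ω} (h2 : s * s = 1) (he : sign s = -1) :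
    ∃ p, s p ≠ p ∧ (s = tr s p ∨ ∃ q r, Df s p q ∧ Df s p r ∧ Df s q r) := by
  obtain ⟨p, hp⟩ := AltC.ne_one_ap (s := s) fun e => by
    rw [e, map_one] at he; exact absurd he (by decide)
  refine ⟨p, hp, ?_⟩
  have m := sq_ap h2
  by_contra! H
  obtain ⟨q, hq⟩ : ∃ q, Df s p q := by
    by_contra! H'
    exact H.1 (Equiv.ext fun i => by have := H' i; simp only [tr]; grind)
  have : s = tr s p * tr s q := Equiv.ext fun i => by
    have a : s i ≠ i → i ≠ p → i ≠ s p → i ≠ q → i ≠ s q → False := fun a b c d e =>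
      H.2 q i hq (df_of h2 hp a b c) (df_of h2 hq.2.2.2.2.2.symm a d e)
    have a1 := m p
    have a2 := m q
    have a3 := m i
    clear * - a a1 a2 a3 hq
    simp only [tr, mul_apply]; grind (splits := 20)
  rw [this, (bs_pair h2 hp hq.2.2.2.2.2.symm).1] at he
  exact absurd he (by decide)

theorem even2 {s : Perm Ω} (h2 : s * s = 1) (he : sign s = 1) : s = 1 ∨ ∃ p q, Df s p q := by
  by_contra! H
  obtain ⟨p, hp⟩ := AltC.ne_one_ap H.1
  have m := sq_ap h2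
  have : s = tr s p := Equiv.ext fun i => by have := H.2 p i; simp only [tr]; grind
  rw [this, sign_tr hp] at he
  exact absurd he (by decide)

theorem sw_sw_comm (h : μ * μ = 1) {p q r s : Ω} (h1 : Df μ r s) (h2 : Df μ p r) (h3 : Df μ p s)
    (h4 : Df μ q r) (h5 : Df μ q s) : Commute (sw μ r s) (sw μ p q) := by
  rw [Commute, SemiconjBy, ← mul_inv_eq_iff_eq_mul, conj_sw (sw_comm h h1),
    sw_off h2.2.1 h2.2.2.1 h3.2.1 h3.2.2.1, sw_off h4.2.1 h4.2.2.1 h5.2.1 h5.2.2.1]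

theorem card_pair_mul (h : μ * μ = 1) {p q : Ω} (hn : Df μ p q) (hx : ∀ p, x p = p ∨ x p = μ p)
    (hp : x p = p) (hq : x q = q) : (x * (tr μ p * tr μ q)).support.card = x.support.card + 4 := by
  have a1 := b0_ap h hx p
  have a2 := b0_ap h hx q
  clear hx
  rw [Disjoint.card_support_mul (fun i => by simp only [mul_apply, tr]; grind),
    Disjoint.card_support_mul (fun i => by simp only [tr]; grind), tr, tr, card_support_swap hn.1,
    card_support_swap hn.2.2.2.2.2]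

theorem b0_df (hx : ∀ p, x p = p ∨ x p = μ p) {p q : Ω} (hn : Df x p q) : Df μ p q := by
  rwa [Df, ← (hx p).resolve_left hn.1.symm, ← (hx q).resolve_left hn.2.2.2.2.2.symm]

theorem b0_tr_eq (hx : ∀ p, x p = p ∨ x p = μ p) {p : Ω} (hp : x p ≠ p) : tr x p = tr μ p := by
  rw [tr, tr, (hx p).resolve_left hp]

theorem Full.df_mix (hB : Big ζ) (hμ : Full ζ μ) {r p : Ω} (hr : ζ r ≠ r) (hp : ζ p = p)
    (hp' : μ p ≠ p) : Df μ r p := by
  have a := hμ.mv r hr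
  have b := sq_ap hB.sq r
  exact df_of hμ.sq (a ▸ hr) hp' (by grind) (by grind)

/-- A weak transvection moving `z`. -/
structure TW (ζ μ : Perm Ω) (ι : Perm Ω → G) (c : Perm Ω) (g : G) : Prop where
  bs : Bs μ c
  act : ∀ x, Bs μ x → CjA ι g x x ∨ CjA ι g x (x * c)
  mv : ¬ CjA ι g ζ ζ

namespace TW

variable (t : TW ζ μ ι c g) (hB : Big ζ) (h : ZC z ζ ι) (hμ : Full ζ μ)
include t hB h hμ

theorem aζ : CjA ι g ζ (ζ * c) := (t.act _ (hμ.bs hB)).resolve_left t.mv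

theorem c1 : c ≠ 1 := fun e => t.mv (by simpa [e] using t.aζ hB h hμ)

theorem ac : CjA ι g c c := (t.act _ t.bs).resolve_right fun e => t.c1 hB h hμ
  (h.inj (hμ.le t.bs) (by rwa [CjA, t.bs.sq hμ.sq, h.one, conj_eq_one_iff] at e))

theorem excl (hx : Bs μ x) (a : CjA ι g x x) (b : CjA ι g x (x * c)) : False :=
  t.c1 hB h hμ (left_eq_mul.1 (h.eq (hμ.le hx) (hμ.le (hx.mul hμ.sq t.bs)) ((Eq.symm a).trans b)))

theorem back (hx : Bs μ x) (a : CjA ι g x (x * c)) : CjA ι g (x * c) x := by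
  have := h.act_mul hμ hx (hx.mul hμ.sq t.bs) t.bs t.bs a (t.ac hB h hμ)
  rwa [mul_assoc x c c, t.bs.sq hμ.sq, mul_one] at this

theorem pre (hx : Bs μ x) : CjA ι g x x ∨ CjA ι g (x * c) x :=
  (t.act x hx).imp_right (t.back hB h hμ hx)

theorem differ {p q : Ω} (hn : Df μ p q) (ht : ζ p = p ↔ ζ q = q) (hc : ¬ (c p = p ↔ c q = q)) :
    ¬ CjA ι g (tr μ p * tr μ q) (tr μ p * tr μ q) := fun a => by
  have ha := bs_pair hμ.sq hn.1.symm hn.2.2.2.2.2.symm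
  have hs := hμ.sw_mem hn ht
  have hζ := hμ.bs hB
  have z1 := h.isConj hs (hμ.le (hζ.mul hμ.sq t.bs)) (h.ιζ ▸ (t.aζ hB h hμ).isConj)
  rw [← mul_assoc, hs.2, mul_assoc ζ, mul_assoc ζ, sw_conj hμ.sq t.bs.2 hn, if_neg hc,
    ← mul_assoc] at z1
  have z2 := z1.trans (h.act_mul hμ hζ (hζ.mul hμ.sq t.bs) ha ha (t.aζ hB h hμ) a).isConj.symm
  have e : ζ * (tr μ p * tr μ q) = ζ := by
    by_cases hp : ζ p = p
    · refine h.zf hB (hμ.le (hζ.mul hμ.sq ha)) z2 fun i hi => ?_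
      have a1 := hμ.fx p hp
      have a2 := hμ.fx q (ht.1 hp)
      have a3 := ht.1 hp
      clear * - a1 a2 a3 hp hi
      simp only [mul_apply, tr]; grind
    · rw [hμ.tr_eq hp, hμ.tr_eq (mt ht.2 hp)] at z2 ⊢
      exact h.z1 hB (mul_mem hB.mem (tr_tr_mem hB.sq hp (mt ht.2 hp))) z2
        (b0_mul hB.sq (fun _ => .inr rfl) (b0_mul hB.sq (b0_tr hB.sq p) (b0_tr hB.sq q)))
  exact hn.1.symm (by simpa [pair_left hn] using DFunLike.congr_fun (mul_eq_left.1 e) p)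

theorem same {p q : Ω} (hn : Df μ p q) (ht : ζ p = p ↔ ζ q = q) (hc : c p = p ↔ c q = q) :
    CjA ι g (tr μ p * tr μ q) (tr μ p * tr μ q) := by
  have ha := bs_pair hμ.sq hn.1.symm hn.2.2.2.2.2.symm
  refine (t.act _ ha).resolve_right fun a => ?_
  have hs := hμ.sw_mem hn ht
  have sc : sw μ p q * c * (sw μ p q)⁻¹ = c := by rw [sw_conj hμ.sq t.bs.2 hn, if_pos hc]
  have key : ∀ x, Bs μ x → CjA ι (g * (ι (sw μ p q) * g⁻¹)) x
      (if (x p = p ↔ x q = q) then x else x * (tr μ p * tr μ q * c)) := fun x hx => by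
    obtain ⟨y, hy, b, e⟩ : ∃ y, Bs μ y ∧ CjA ι g y x ∧ sw μ p q * y * (sw μ p q)⁻¹ =
        if (x p = p ↔ x q = q) then y else y * (tr μ p * tr μ q) := by
      rcases t.pre hB h hμ hx with b | b
      · exact ⟨x, hx, b, sw_conj hμ.sq hx.2 hn⟩
      · refine ⟨_, hx.mul hμ.sq t.bs, b, ?_⟩
        rw [← conj_mul, sc, sw_conj hμ.sq hx.2 hn]
        split_ifs
        · rfl
        · rw [mul_assoc x c, mul_assoc x, ha.comm hμ.sq t.bs]
    have b' := b.symm.trans (h.cj hs (hμ.le hy))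
    rw [e] at b'
    split_ifs at b' ⊢
    · exact b'.trans b
    · exact b'.trans (h.act_mul hμ hy hx ha (ha.mul hμ.sq t.bs) b a)
  obtain ⟨k, hk, e⟩ := h.of_fix (by simpa [ht] using key ζ (hμ.bs hB))
  rcases same_aux hB hμ hn (ha.mul hμ.sq t.bs) (k := k) (fun x hx => h.of_act hk (hμ.le hx)
    (by split_ifs; exacts [hμ.le hx, hμ.le (hx.mul hμ.sq (ha.mul hμ.sq t.bs))])
    (e ▸ key x hx)) with e | e
  · rw [mul_eq_one_iff_inv_eq, ha.inv hμ.sq] at e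
    exact t.excl hB h hμ ha (e ▸ t.ac hB h hμ) a
  · exact t.c1 hB h hμ (mul_eq_left.1 e)

theorem tv_aux : ε1 ζ c = -1 ∧
    ∀ x, Bs μ x → (CjA ι g x x ↔ sign (restr (fun p => c p ≠ p) x) = 1) := by
  let P : Subgroup (Perm Ω) :=
    { carrier := {x | Bs μ x ∧ (CjA ι g x x ↔ sign (restr (fun p => c p ≠ p) x) = 1)}
      one_mem' := ⟨bs_one, by
        rw [restr_eq (y := 1) (fun _ _ => rfl) fun _ _ => rfl]; simp [CjA, h.one]⟩
      inv_mem' := fun {x} hx => by rwa [hx.1.inv hμ.sq]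
      mul_mem' := fun {x y} ⟨hx, a⟩ ⟨hy, b⟩ => ⟨hx.mul hμ.sq hy, by
        have m := fun {x' y'} hx' hy' => h.act_mul (g := g) hμ hx (y := x') hx' hy (y' := y') hy'
        have xc := hx.mul hμ.sq t.bs
        have yc := hy.mul hμ.sq t.bs
        have ex := fun a b => t.excl hB h hμ (hx.mul hμ.sq hy) a b
        rw [restr_mul (fun p => (b0_inv hμ.sq hx.2 t.bs.2 p).not)
          (fun p => (b0_inv hμ.sq hy.2 t.bs.2 p).not), Perm.sign_mul]
        by_cases a' : CjA ι g x x <;> by_cases b' : CjA ι g y y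
        · simp [m hx hy a' b', a.1 a', b.1 b']
        · have := m hx yc a' ((t.act y hy).resolve_left b')
          rw [← mul_assoc] at this
          rw [a.1 a', one_mul, ← b]
          exact ⟨fun e => (ex e this).elim, fun e => (b' e).elim⟩
        · have := m xc hy ((t.act x hx).resolve_left a') b'
          rw [mul_assoc, t.bs.comm hμ.sq hy, ← mul_assoc] at this
          rw [b.1 b', mul_one, ← a]
          exact ⟨fun e => (ex e this).elim, fun e => (a' e).elim⟩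
        · have := m xc yc ((t.act x hx).resolve_left a') ((t.act y hy).resolve_left b')
          rw [mul_assoc, ← mul_assoc c, t.bs.comm hμ.sq hy, mul_assoc y, t.bs.sq hμ.sq,
            mul_one] at this
          simp [this, (sign_cases _).resolve_left (mt a.2 a'),
            (sign_cases _).resolve_left (mt b.2 b')]⟩ }
  have hP := fun {x} => hμ.mem_of_same hB (x := x) P fun p q hn ht =>
    ⟨bs_pair hμ.sq hn.1.symm hn.2.2.2.2.2.symm, by
      rw [dot_pair hμ.sq t.bs.2 hn]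
      exact ⟨fun a => by_contra fun e => t.differ hB h hμ hn ht e a, t.same hB h hμ hn ht⟩⟩
  have e1 : ε1 ζ c = -1 := by
    rw [← hμ.sign_mv t.bs, restr_symm hμ.sq hμ.b0 t.bs.2]
    exact (sign_cases _).resolve_left (mt (hP (hμ.bs hB) chr_ε1.ζ1).2.2 t.mv)
  refine ⟨e1, fun x hx => ?_⟩
  rcases Int.units_eq_one_or (ε1 ζ x) with e | e
  · exact (hP hx e).2
  · have := mul_mem (hP (hx.mul hμ.sq t.bs) (by rw [chr_ε1.mul (hμ.le hx) (hμ.le t.bs), e, e1]; rfl))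
      (show c ∈ P from ⟨t.bs, by
        rw [restr_eq (y := c) (fun _ _ => rfl) fun _ => not_not.1]; simp [t.ac hB h hμ, t.bs.1]⟩)
    rw [mul_assoc, t.bs.sq hμ.sq, mul_one] at this
    exact this.2

theorem tv : TV ι μ c g := fun x hx => by
  have := (t.tv_aux hB h hμ).2 x hx
  split_ifs with e
  · exact this.2 e
  · exact (t.act x hx).resolve_left (mt this.1 e)

theorem rech : TW ζ μ (rech z ι (ε1 ζ)) (ζ * c) g := by
  have hζ := hμ.bs hB
  refine ⟨hζ.mul hμ.sq t.bs, fun x hx => ?_, fun e => t.mv (by rwa [CjA, rech_pos chr_ε1.ζ1] at e)⟩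
  have e1 : ε1 ζ (x * (ζ * c)) = - ε1 ζ x := by
    rw [chr_ε1.mul (hμ.le hx) (hμ.le (hζ.mul hμ.sq t.bs)), chr_ε1.mul hB.mem (hμ.le t.bs),
      chr_ε1.ζ1, (t.tv_aux hB h hμ).1]; simp
  rcases Int.units_eq_one_or (ε1 ζ x) with e | e <;> rw [e] at e1
  · rw [CjA, CjA, rech_pos e, rech_neg e1, ← h.ιζ,
      ← h.mul (hμ.le (hx.mul hμ.sq (hζ.mul hμ.sq t.bs))) hB.mem, mul_assoc x, mul_assoc ζ,
      t.bs.comm hμ.sq hζ, ← mul_assoc ζ, hB.sq, one_mul]
    exact t.act x hx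
  · rw [CjA, CjA, rech_neg e, rech_pos e1, ← h.ιζ, ← h.mul (hμ.le hx) hB.mem, ← mul_assoc x]
    exact t.act _ (hx.mul hμ.sq hζ)

theorem card_le {s e : Perm Ω} (hs : s ∈ HU ζ) (sm : s * μ = μ * s) (s2 : s * s = 1) (he : Bs μ e)
    (sc : s * c * s⁻¹ = c * e) (a : CjA ι g e (e * c)) : e.support.card ≤ 8 := by
  have hζ := hμ.bs hB
  have hc := t.bs
  have m2 := hμ.sq
  have si : s⁻¹ = s := inv_eq_of_mul_eq_one_right s2
  have ss : ∀ x, s * (s * x * s⁻¹) * s⁻¹ = x := fun x => by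
    rw [si, ← mul_assoc, ← mul_assoc, s2, one_mul, mul_assoc, s2, mul_one]
  have S : ∀ {x y}, Bs μ x → s * x * s⁻¹ = y → CjA ι (ι s) x y := fun hx e =>
    e ▸ h.cj hs (hμ.le hx)
  have ce := hc.mul m2 he
  have sc' : s * (c * e) * s⁻¹ = c := by rw [← sc, ss]
  have a1 : CjA ι g (c * e) e := by rw [hc.comm m2 he]; exact t.back hB h hμ he a
  have sζ : s * ζ * s⁻¹ = ζ := mul_inv_eq_iff_eq_mul.2 hs.2
  obtain ⟨k, hk, ek⟩ := h.of_fix (((((t.back hB h hμ hζ (t.aζ hB h hμ)).symm.trans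
    (S (hζ.mul m2 hc) (by rw [← conj_mul, sζ, sc]))).trans (mul_assoc ζ c e ▸ h.act_mul hμ hζ
      (hζ.mul m2 hc) ce he (t.aζ hB h hμ) a1)).trans
    (S (hζ.mul m2 ce) (by rw [← conj_mul, sζ, sc']))).trans (t.back hB h hμ hζ (t.aζ hB h hμ)))
  have k1 := h.of_act hk (hμ.le hc) (hμ.le (he.mul m2 hc)) (ek ▸ ((((t.ac hB h hμ).symm.trans
    (S hc sc)).trans a1).trans (S he (by
      rw [show e = c * (c * e) by rw [← mul_assoc, hc.sq m2, one_mul], ← conj_mul, sc, sc',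
        ce.comm m2 hc]))).trans a)
  by_cases e1 : e = 1
  · simp [e1]
  by_contra! H
  refine e1 (mul_eq_right.1 (k1.symm.trans (mul_inv_eq_iff_eq_mul.2
    (Subgroup.mem_centralizer_singleton_iff.1 (AltC.mem_of_pairs (s := μ) _ (fun p q hn => ?_)
      (hc.sq m2) hc.1 hc.2)).symm)))
  have hx := bs_pair m2 hn.1.symm hn.2.2.2.2.2.symm
  change tr μ p * tr μ q ∈ _
  have c4 : (tr μ p * tr μ q).support.card = 4 := by
    simpa using card_pair_mul (x := 1) m2 hn (fun _ => .inl rfl) rfl rfl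
  generalize tr μ p * tr μ q = x at hx c4
  obtain ⟨y, hy, b⟩ : ∃ y, Bs μ y ∧ CjA ι g y x :=
    (t.pre hB h hμ hx).elim (fun b => ⟨_, hx, b⟩) fun b => ⟨_, hx.mul m2 hc, b⟩
  have hy' := hy.cj sm
  rw [Subgroup.mem_centralizer_singleton_iff, eq_comm, ← mul_inv_eq_iff_eq_mul]
  rcases t.act _ hy' with b' | b'
  · exact h.of_act hk (hμ.le hx) (hμ.le hx)
      (ek ▸ (((b.symm.trans (S hy rfl)).trans b').trans (S hy' (ss y))).trans b)
  have k2 := h.of_act hk (hμ.le hx) (hμ.le (hx.mul m2 he))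
    (ek ▸ (((b.symm.trans (S hy rfl)).trans b').trans (S (hy'.mul m2 hc)
      (by rw [← conj_mul, ss, sc]))).trans (h.act_mul hμ hy hx ce he b a1))
  have k3 : e = x * (k * x * k⁻¹) := by rw [k2, ← mul_assoc, hx.sq m2, one_mul]
  have := (Finset.card_le_card (support_mul_le x (k * x * k⁻¹))).trans (Finset.card_union_le _ _)
  rw [← k3, card_support_conj] at this
  omega

theorem three {p1 p2 p3 q1 q2 q3 : Ω} (a1 : Df μ p1 p2) (a2 : Df μ p1 p3) (a3 : Df μ p2 p3)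
    (b1 : Df μ q1 q2) (b2 : Df μ q1 q3) (b3 : Df μ q2 q3) (c1 : c p1 ≠ p1) (c2 : c p2 ≠ p2)
    (c3 : c p3 ≠ p3) (d1 : c q1 = q1) (d2 : c q2 = q2) (d3 : c q3 = q3)
    (e1 : ζ p1 = p1 ↔ ζ q1 = q1) (e2 : ζ p2 = p2 ↔ ζ q2 = q2) (e3 : ζ p3 = p3 ↔ ζ q3 = q3) :
    False := by
  have m2 := hμ.sq
  have D : ∀ {p q}, c p ≠ p → c q = q → μ q ≠ q → Df μ p q := fun {p q} hp hq hq' => by
    have := t.bs.2 p
    have := b0_ap m2 t.bs.2 p
    have := sq_ap m2 p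
    exact df_of m2 (by grind) hq' (by grind) (by grind)
  have n1 := b1.1.symm
  have n2 := b3.1.symm
  have n3 := b3.2.2.2.2.2.symm
  have B := fun {p q} (hn : Df μ p q) => bs_pair m2 hn.1.symm hn.2.2.2.2.2.symm
  have A := fun {p q} (hp : c p ≠ p) (hq : c q = q) hq' e => (t.act _ (B (D hp hq hq'))).resolve_left
    (t.differ hB h hμ (D hp hq hq') e (by simp [hp, hq]))
  have B1 := B (D c1 d1 n1)
  have B2 := B (D c2 d2 n2)
  have B3 := B (D c3 d3 n3)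
  have s12 := sw_sw_comm m2 (D c1 d1 n1) a1.symm (D c2 d1 n1) (D c1 d2 n2).symm b1.symm
  have s13 := sw_sw_comm m2 (D c1 d1 n1) a2.symm (D c3 d1 n1) (D c1 d3 n3).symm b2.symm
  have s23 := sw_sw_comm m2 (D c2 d2 n2) a3.symm (D c3 d2 n2) (D c2 d3 n3).symm b3.symm
  have := t.card_le hB h hμ (s := sw μ p3 q3 * (sw μ p2 q2 * sw μ p1 q1))
    (mul_mem (hμ.sw_mem (D c3 d3 n3) e3) (mul_mem (hμ.sw_mem (D c2 d2 n2) e2)
      (hμ.sw_mem (D c1 d1 n1) e1)))
    (Commute.mul_left (sw_comm m2 (D c3 d3 n3)) (Commute.mul_left (sw_comm m2 (D c2 d2 n2))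
      (sw_comm m2 (D c1 d1 n1))))
    (by rw [(s23.mul_left s13).mul_mul_mul_comm, s12.mul_mul_mul_comm, sw_sq (D c1 d1 n1),
      sw_sq (D c2 d2 n2), sw_sq (D c3 d3 n3), one_mul, one_mul])
    ((B1.mul m2 B2).mul m2 B3) (by
      calc _ = sw μ p3 q3 * (sw μ p2 q2 * (sw μ p1 q1 * c * (sw μ p1 q1)⁻¹) * (sw μ p2 q2)⁻¹) *
          (sw μ p3 q3)⁻¹ := by group
        _ = _ := by
          rw [sw_conj m2 t.bs.2 (D c1 d1 n1), if_neg (by simp [c1, d1]),
            sw_conj m2 (t.bs.mul m2 B1).2 (D c2 d2 n2), if_neg (by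
              rw [mul_apply c, mul_apply c, pair_df a1.symm (D c2 d1 n1),
                pair_df (D c1 d2 n2).symm b1.symm]; simp [c2, d2]),
            sw_conj m2 ((t.bs.mul m2 B1).mul m2 B2).2 (D c3 d3 n3), if_neg (by
              rw [mul_apply (c * _), mul_apply (c * _), pair_df a3.symm (D c3 d2 n2),
                pair_df (D c2 d3 n3).symm b3.symm, mul_apply c, mul_apply c,
                pair_df a2.symm (D c3 d1 n1), pair_df (D c1 d3 n3).symm b2.symm]; simp [c3, d3])]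
          simp only [mul_assoc]) (by
      have := h.act_mul hμ (B1.mul m2 B2) ((B1.mul m2 t.bs).mul m2 (B2.mul m2 t.bs)) B3
        (B3.mul m2 t.bs) (h.act_mul hμ B1 (B1.mul m2 t.bs) B2 (B2.mul m2 t.bs) (A c1 d1 n1 e1)
          (A c2 d2 n2 e2)) (A c3 d3 n3 e3)
      rwa [mul_assoc _ c, ← mul_assoc c, t.bs.comm m2 B2, mul_assoc _ c c, t.bs.sq m2, mul_one,
        ← mul_assoc _ _ c] at this)
  rw [card_pair_mul m2 (D c3 d3 n3) (B1.mul m2 B2).2
      (by rw [mul_apply, pair_df a3.symm (D c3 d2 n2), pair_df a2.symm (D c3 d1 n1)])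
      (by rw [mul_apply, pair_df (D c2 d3 n3).symm b3.symm, pair_df (D c1 d3 n3).symm b2.symm]),
    card_pair_mul m2 (D c2 d2 n2) B1.2 (pair_df a1.symm (D c2 d1 n1))
      (pair_df (D c1 d2 n2).symm b1.symm), ← one_mul (tr μ p1 * _),
    card_pair_mul m2 (D c1 d1 n1) (fun _ => .inl rfl) rfl rfl] at this
  omega

theorem shape : ∃ ε, Chr ζ ε ∧ ∃ (r : Ω) (c : Perm Ω) (g : G), ζ r ≠ r ∧
    ((∃ α, ζ α = α ∧ μ α ≠ α ∧ c = tr ζ r * tr μ α) ∨ c = tr ζ r * (μ * ζ)) ∧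
    TV (AltZ.rech z ι ε) μ c g := by
  have m2 := hμ.sq
  have hc := t.bs.2
  have e1 := (t.tv_aux hB h hμ).1
  have e2 := hμ.split hc
  have s1 := (hμ.sign_mv t.bs).trans e1
  have v1 := hμ.mv_spec hc
  have v2 := hμ.fx_spec hc
  have b1 := b0_restr (fun p => ζ p ≠ p) hc
  have b2 := b0_restr (fun p => ζ p = p) hc
  unfold ε1 at e1
  rw [b0_comm m2 b2 b1] at e2
  generalize restr (fun p => ζ p ≠ p) c = c1 at *
  generalize restr (fun p => ζ p = p) c = c2 at *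
  have b3 := b0_mul m2 hμ.b0 b1
  have b4 := b0_mul m2 hμ.tau_b0 b2
  have f1 : ∀ i, c1 i ≠ i → ζ i ≠ i ∧ c i ≠ i := fun i => by rw [v1]; grind
  have f2 : ∀ i, c2 i ≠ i → ζ i = i ∧ c i ≠ i := fun i => by rw [v2]; grind
  have f3 : ∀ i, (ζ * c1) i ≠ i → ζ i ≠ i ∧ c i = i := fun i => by
    have a1 := hc i
    have a2 := hμ.mv i
    have a3 := sq_ap hB.sq i
    clear * - a1 a2 a3 v1
    rw [mul_apply, v1]; grind
  have f4 : ∀ i, (μ * ζ * c2) i ≠ i → ζ i = i ∧ c i = i := fun i => by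
    have a1 := hc i
    have a2 := hμ.tau_mv hB (p := i)
    have a3 := sq_ap m2 i
    have a4 := hμ.fx i
    clear * - a1 a2 a3 a4 v2
    rw [mul_apply, v2]
    simp only [mul_apply] at *
    grind
  obtain ⟨r, hr, H1⟩ := odd3 (b0_sq m2 b1) s1
  obtain ⟨r', hr', H3⟩ := odd3 (b0_sq m2 b3) (by simp [s1, hB.ev])
  obtain ⟨α, hα, H2⟩ := odd3 (b0_sq m2 b2) e1
  have K2 : (∃ α, ζ α = α ∧ μ α ≠ α ∧ c2 = tr μ α) ∨ c2 = μ * ζ := by
    rcases H2 with e | ⟨p, -, hp, -⟩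
    · exact .inl ⟨α, (f2 _ hα).1, (b2 α).elim (fun e => (hα e).elim) fun e => e ▸ hα,
        e.trans (b0_tr_eq b2 hα)⟩
    rcases even2 (b0_sq m2 b4) (by rw [Perm.sign_mul, hμ.sign hB, e1]; rfl) with e | ⟨q, q', hq⟩
    · exact .inr ((eq_inv_of_mul_eq_one_right e).trans
        (inv_eq_of_mul_eq_one_right (b0_sq m2 hμ.tau_b0)))
    have g1 := f2 _ hp.1.symm
    have g2 := f2 _ hp.2.2.2.2.2.symm
    have g3 := f4 _ hq.1.symm
    have g4 := f4 _ hq.2.2.2.2.2.symm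
    have g5 := f1 _ hr
    have g6 := f3 _ hr'
    have hp := b0_df b2 hp
    have hq := b0_df b4 hq
    exact (t.three hB h hμ (hμ.df_mix hB g5.1 g1.1 hp.1.symm)
      (hμ.df_mix hB g5.1 g2.1 hp.2.2.2.2.2.symm) hp (hμ.df_mix hB g6.1 g3.1 hq.1.symm)
      (hμ.df_mix hB g6.1 g4.1 hq.2.2.2.2.2.symm) hq g5.2 g1.2 g2.2 g6.2 g3.2 g4.2
      (by simp [g5.1, g6.1]) (by simp [g1.1, g3.1]) (by simp [g2.1, g4.1])).elim
  have K : ∀ r, (∃ α, ζ α = α ∧ μ α ≠ α ∧ tr ζ r * c2 = tr ζ r * tr μ α) ∨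
      tr ζ r * c2 = tr ζ r * (μ * ζ) := fun r =>
    K2.imp (fun ⟨α, a, b, e⟩ => ⟨α, a, b, by rw [e]⟩) fun e => by rw [e]
  rcases H1 with e | ⟨p, p', a1, a2, a3⟩
  · have g5 := (f1 _ hr).1
    refine ⟨_, chr_one, r, c, g, g5, ?_, ?_⟩
    · rw [← e2, e, b0_tr_eq b1 hr, hμ.tr_eq g5]; exact K r
    · rw [show AltZ.rech z ι (fun _ => 1) = ι from funext fun _ => rech_pos rfl]; exact t.tv hB h hμ
  rcases H3 with e | ⟨q, q', a4, a5, a6⟩
  · have g6 := (f3 _ hr').1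
    refine ⟨_, chr_ε1, r', ζ * c, g, g6, ?_,
      (t.rech hB h hμ).tv hB (h.rech hB.ev hB.sq chr_ε1) hμ⟩
    rw [← e2, ← mul_assoc, e, b0_tr_eq b3 hr', hμ.tr_eq g6]; exact K r'
  have g1 := f1 _ hr
  have g2 := f1 _ a3.1.symm
  have g3 := f1 _ a3.2.2.2.2.2.symm
  have g4 := f3 _ hr'
  have g5 := f3 _ a6.1.symm
  have g6 := f3 _ a6.2.2.2.2.2.symm
  exact (t.three hB h hμ (b0_df b1 a1) (b0_df b1 a2) (b0_df b1 a3) (b0_df b3 a4) (b0_df b3 a5)
    (b0_df b3 a6) g1.2 g2.2 g3.2 g4.2 g5.2 g6.2 (by simp [g1.1, g4.1]) (by simp [g2.1, g5.1])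
    (by simp [g3.1, g6.1])).elim

end TW

end Cfsg.Lib.AltZ
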